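import Mathlib
import Cfsg.Agent.H43.Cent

set_option autoImplicit false
set_option maxRecDepth 200000
set_option linter.style.longLine false

namespace Cfsg.Agent.H22

open Cfsg.Agent.H43

theorem m22_hn : NOk 24 := by decide

theorem m22_hk : 24 ≤ 2 ^ 5 := by decide

noncomputable def m22_g1 : Net := (Net.cons (nat_lit 1) (nat_lit 0x105440) (Net.cons (nat_lit 2) (nat_lit 0x323230) (Net.cons (nat_lit 4) (nat_lit 722944) (Net.cons (nat_lit 8) (nat_lit 97) (Net.cons (nat_lit 16) (nat_lit 125) (Net.cons (nat_lit 8) (nat_lit 43) (Net.cons (nat_lit 4) (nat_lit 462338) (Net.cons (nat_lit 2) (nat_lit 0x223102) (Net.cons (nat_lit 1) (nat_lit 0x110504) Net.nil)))))))))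

theorem m22_g1_ok : Net.ok 24 m22_g1 = true := by decide +kernel

noncomputable def m22_g2 : Net := (Net.cons (nat_lit 1) (nat_lit 0x440510) (Net.cons (nat_lit 2) (nat_lit 0x320120) (Net.cons (nat_lit 4) (nat_lit 917760) (Net.cons (nat_lit 16) (nat_lit 194) (Net.cons (nat_lit 8) (nat_lit 220) (Net.cons (nat_lit 4) (nat_lit 132618) (Net.cons (nat_lit 2) (nat_lit 0x331132) (Net.cons (nat_lit 1) (nat_lit 0x405510) Net.nil))))))))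

theorem m22_g2_ok : Net.ok 24 m22_g2 = true := by decide +kernel

noncomputable def m22_O : List Net := [m22_g1, m22_g2]

theorem m22_O_ok : okE 24 m22_O = true := (okE_cons.2 ⟨m22_g1_ok, (okE_cons.2 ⟨m22_g2_ok, (okE_nil 24)⟩)⟩)

noncomputable def m22_V3 : List Net := [m22_g1]

theorem m22_V3_ok : okE 24 m22_V3 = true := (okE_cons.2 ⟨m22_g1_ok, (okE_nil 24)⟩)

noncomputable def m22_g5 : Net := (Net.cons (nat_lit 1) (nat_lit 0x401100) (Net.cons (nat_lit 2) (nat_lit 0x231000) (Net.cons (nat_lit 4) (nat_lit 786432) (Net.cons (nat_lit 8) (nat_lit 209) (Net.cons (nat_lit 16) (nat_lit 217) (Net.cons (nat_lit 8) (nat_lit 161) (Net.cons (nat_lit 4) (nat_lit 786696) (Net.cons (nat_lit 2) (nat_lit 304) (Net.cons (nat_lit 1) (nat_lit 0x541544) Net.nil)))))))))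

theorem m22_g5_ok : Net.ok 24 m22_g5 = true := by decide +kernel

noncomputable def m22_g6 : Net := (Net.cons (nat_lit 1) (nat_lit 0x555010) (Net.cons (nat_lit 2) (nat_lit 0x111230) (Net.cons (nat_lit 4) (nat_lit 2048) (Net.cons (nat_lit 8) (nat_lit 165) (Net.cons (nat_lit 16) (nat_lit 237) (Net.cons (nat_lit 8) (nat_lit 177) (Net.cons (nat_lit 4) (nat_lit 133644) (Net.cons (nat_lit 2) (nat_lit 0x110230) (Net.cons (nat_lit 1) (nat_lit 0x555044) Net.nil)))))))))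

theorem m22_g6_ok : Net.ok 24 m22_g6 = true := by decide +kernel

noncomputable def m22_V7 : List Net := [m22_g5, m22_g6]

theorem m22_V7_ok : okE 24 m22_V7 = true := (okE_cons.2 ⟨m22_g5_ok, (okE_cons.2 ⟨m22_g6_ok, (okE_nil 24)⟩)⟩)

noncomputable def m22_g9 : Net := (Net.cons (nat_lit 1) (nat_lit 1296) (Net.cons (nat_lit 2) (nat_lit 0x200030) (Net.cons (nat_lit 4) (nat_lit 262144) (Net.cons (nat_lit 8) (nat_lit 7) (Net.cons (nat_lit 16) (nat_lit 207) (Net.cons (nat_lit 8) (nat_lit 47) (Net.cons (nat_lit 4) (nat_lit 852228) (Net.cons (nat_lit 2) (nat_lit 0x322330) (Net.cons (nat_lit 1) (nat_lit 1348) Net.nil)))))))))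

theorem m22_g9_ok : Net.ok 24 m22_g9 = true := by decide +kernel

noncomputable def m22_V10 : List Net := [m22_g9]

theorem m22_V10_ok : okE 24 m22_V10 = true := (okE_cons.2 ⟨m22_g9_ok, (okE_nil 24)⟩)

noncomputable def m22_g12 : Net := (Net.cons (nat_lit 1) (nat_lit 0x500540) (Net.cons (nat_lit 2) (nat_lit 0x303200) (Net.cons (nat_lit 4) (nat_lit 67840) (Net.cons (nat_lit 8) (nat_lit 18) (Net.cons (nat_lit 16) (nat_lit 246) (Net.cons (nat_lit 8) (nat_lit 194) (Net.cons (nat_lit 4) (nat_lit 590856) (Net.cons (nat_lit 2) (nat_lit 0x332310) (Net.cons (nat_lit 1) (nat_lit 0x550410) Net.nil)))))))))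

theorem m22_g12_ok : Net.ok 24 m22_g12 = true := by decide +kernel

noncomputable def m22_g13 : Net := (Net.cons (nat_lit 1) (nat_lit 0x100100) (Net.cons (nat_lit 2) (nat_lit 0x233220) (Net.cons (nat_lit 4) (nat_lit 512) (Net.cons (nat_lit 8) (nat_lit 69) (Net.cons (nat_lit 16) (nat_lit 205) (Net.cons (nat_lit 8) (nat_lit 253) (Net.cons (nat_lit 4) (nat_lit 328448) (Net.cons (nat_lit 2) (nat_lit 0x313100) (Net.cons (nat_lit 1) (nat_lit 0x111044) Net.nil)))))))))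

theorem m22_g13_ok : Net.ok 24 m22_g13 = true := by decide +kernel

noncomputable def m22_V14 : List Net := [m22_g12, m22_g13]

theorem m22_V14_ok : okE 24 m22_V14 = true := (okE_cons.2 ⟨m22_g12_ok, (okE_cons.2 ⟨m22_g13_ok, (okE_nil 24)⟩)⟩)

noncomputable def m22_V16 : List Net := [m22_g12]

theorem m22_V16_ok : okE 24 m22_V16 = true := (okE_cons.2 ⟨m22_g12_ok, (okE_nil 24)⟩)

noncomputable def m22_g18 : Net := (Net.cons (nat_lit 1) (nat_lit 0x111000) (Net.cons (nat_lit 2) (nat_lit 135936) (Net.cons (nat_lit 4) (nat_lit 67840) (Net.cons (nat_lit 8) (nat_lit 1) (Net.cons (nat_lit 16) (nat_lit 105) (Net.cons (nat_lit 8) (nat_lit 149) (Net.cons (nat_lit 4) (nat_lit 68352) (Net.cons (nat_lit 2) (nat_lit 135936) (Net.cons (nat_lit 1) (nat_lit 0x111000) Net.nil)))))))))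

theorem m22_g18_ok : Net.ok 24 m22_g18 = true := by decide +kernel

noncomputable def m22_g19 : Net := (Net.cons (nat_lit 1) (nat_lit 0x454010) (Net.cons (nat_lit 2) (nat_lit 139776) (Net.cons (nat_lit 4) (nat_lit 66048) (Net.cons (nat_lit 8) (nat_lit 9) (Net.cons (nat_lit 16) (nat_lit 41) (Net.cons (nat_lit 8) (nat_lit 49) (Net.cons (nat_lit 4) (nat_lit 589832) (Net.cons (nat_lit 2) (nat_lit 0x232130) (Net.cons (nat_lit 1) (nat_lit 0x514110) Net.nil)))))))))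

theorem m22_g19_ok : Net.ok 24 m22_g19 = true := by decide +kernel

noncomputable def m22_g20 : Net := (Net.cons (nat_lit 1) (nat_lit 21568) (Net.cons (nat_lit 2) (nat_lit 0x312010) (Net.cons (nat_lit 4) (nat_lit 786944) (Net.cons (nat_lit 8) (nat_lit 4) (Net.cons (nat_lit 16) (nat_lit 76) (Net.cons (nat_lit 8) (nat_lit 172) (Net.cons (nat_lit 4) (nat_lit 788492) (Net.cons (nat_lit 2) (nat_lit 0x332330) (Net.cons (nat_lit 1) (nat_lit 283648) Net.nil)))))))))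

theorem m22_g20_ok : Net.ok 24 m22_g20 = true := by decide +kernel

noncomputable def m22_V21 : List Net := [m22_g18, m22_g19, m22_g20]

theorem m22_V21_ok : okE 24 m22_V21 = true := (okE_cons.2 ⟨m22_g18_ok, (okE_cons.2 ⟨m22_g19_ok, (okE_cons.2 ⟨m22_g20_ok, (okE_nil 24)⟩)⟩)⟩)

noncomputable def m22_V23 : List Net := [m22_g19]

theorem m22_V23_ok : okE 24 m22_V23 = true := (okE_cons.2 ⟨m22_g19_ok, (okE_nil 24)⟩)

noncomputable def m22_g25 : Net := (Net.cons (nat_lit 1) (nat_lit 0x400100) (Net.cons (nat_lit 2) (nat_lit 0x200320) (Net.cons (nat_lit 4) (nat_lit 524288) (Net.cons (nat_lit 8) (nat_lit 8) (Net.cons (nat_lit 16) (nat_lit 40) (Net.cons (nat_lit 8) (nat_lit 92) (Net.cons (nat_lit 4) (nat_lit 590860) (Net.cons (nat_lit 2) (nat_lit 0x200320) (Net.cons (nat_lit 1) (nat_lit 0x400500) Net.nil)))))))))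

theorem m22_g25_ok : Net.ok 24 m22_g25 = true := by decide +kernel

noncomputable def m22_g26 : Net := (Net.cons (nat_lit 2) (nat_lit 0x310300) (Net.cons (nat_lit 4) (nat_lit 524800) (Net.cons (nat_lit 8) (nat_lit 80) (Net.cons (nat_lit 16) (nat_lit 92) (Net.cons (nat_lit 8) (nat_lit 52) (Net.cons (nat_lit 4) (nat_lit 787972) (Net.cons (nat_lit 2) (nat_lit 0x310030) (Net.cons (nat_lit 1) (nat_lit 1360) Net.nil))))))))

theorem m22_g26_ok : Net.ok 24 m22_g26 = true := by decide +kernel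

noncomputable def m22_g27 : Net := (Net.cons (nat_lit 1) (nat_lit 82960) (Net.cons (nat_lit 4) (nat_lit 460032) (Net.cons (nat_lit 8) (nat_lit 3) (Net.cons (nat_lit 16) (nat_lit 39) (Net.cons (nat_lit 8) (nat_lit 219) (Net.cons (nat_lit 4) (nat_lit 460032) (Net.cons (nat_lit 2) (nat_lit 272) (Net.cons (nat_lit 1) (nat_lit 82960) Net.nil))))))))

theorem m22_g27_ok : Net.ok 24 m22_g27 = true := by decide +kernel

noncomputable def m22_g28 : Net := (Net.cons (nat_lit 1) (nat_lit 0x504000) (Net.cons (nat_lit 2) (nat_lit 65536) (Net.cons (nat_lit 4) (nat_lit 983296) (Net.cons (nat_lit 8) (nat_lit 3) (Net.cons (nat_lit 16) (nat_lit 75) (Net.cons (nat_lit 8) (nat_lit 23) (Net.cons (nat_lit 4) (nat_lit 985344) (Net.cons (nat_lit 2) (nat_lit 65568) (Net.cons (nat_lit 1) (nat_lit 0x504000) Net.nil)))))))))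

theorem m22_g28_ok : Net.ok 24 m22_g28 = true := by decide +kernel

noncomputable def m22_V29 : List Net := [m22_g25, m22_g26, m22_g27, m22_g28]

theorem m22_V29_ok : okE 24 m22_V29 = true := (okE_cons.2 ⟨m22_g25_ok, (okE_cons.2 ⟨m22_g26_ok, (okE_cons.2 ⟨m22_g27_ok, (okE_cons.2 ⟨m22_g28_ok, (okE_nil 24)⟩)⟩)⟩)⟩)

noncomputable def m22_g31 : Net := (Net.cons (nat_lit 1) (nat_lit 20480) (Net.cons (nat_lit 2) (nat_lit 512) (Net.cons (nat_lit 4) (nat_lit 262656) (Net.cons (nat_lit 8) (nat_lit 5) (Net.cons (nat_lit 16) (nat_lit 5) (Net.cons (nat_lit 8) (nat_lit 165) (Net.cons (nat_lit 4) (nat_lit 264192) (Net.cons (nat_lit 2) (nat_lit 8240) (Net.cons (nat_lit 1) (nat_lit 0x105004) Net.nil)))))))))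

theorem m22_g31_ok : Net.ok 24 m22_g31 = true := by decide +kernel

noncomputable def m22_g32 : Net := (Net.cons (nat_lit 1) (nat_lit 82960) (Net.cons (nat_lit 2) (nat_lit 16) (Net.cons (nat_lit 4) (nat_lit 328192) (Net.cons (nat_lit 8) (nat_lit 5) (Net.cons (nat_lit 16) (nat_lit 5) (Net.cons (nat_lit 8) (nat_lit 189) (Net.cons (nat_lit 4) (nat_lit 461324) (Net.cons (nat_lit 2) (nat_lit 16) (Net.cons (nat_lit 1) (nat_lit 82960) Net.nil)))))))))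

theorem m22_g32_ok : Net.ok 24 m22_g32 = true := by decide +kernel

noncomputable def m22_g33 : Net := (Net.cons (nat_lit 1) (nat_lit 64) (Net.cons (nat_lit 2) (nat_lit 0x210010) (Net.cons (nat_lit 4) (nat_lit 524800) (Net.cons (nat_lit 8) (nat_lit 8) (Net.cons (nat_lit 16) (nat_lit 24) (Net.cons (nat_lit 8) (nat_lit 40) (Net.cons (nat_lit 4) (nat_lit 786956) (Net.cons (nat_lit 2) (nat_lit 0x211110) (Net.cons (nat_lit 1) (nat_lit 64) Net.nil)))))))))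

theorem m22_g33_ok : Net.ok 24 m22_g33 = true := by decide +kernel

noncomputable def m22_V34 : List Net := [m22_g31, m22_g32, m22_g27, m22_g33]

theorem m22_V34_ok : okE 24 m22_V34 = true := (okE_cons.2 ⟨m22_g31_ok, (okE_cons.2 ⟨m22_g32_ok, (okE_cons.2 ⟨m22_g27_ok, (okE_cons.2 ⟨m22_g33_ok, (okE_nil 24)⟩)⟩)⟩)⟩)

noncomputable def m22_E5 : List Net := []

theorem m22_E5_ok : okE 24 m22_E5 = true := (okE_nil 24)

noncomputable def m22_G4 : List Net := [m22_g31, m22_g32, m22_g27, m22_g33]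

theorem m22_G4_ok : okE 24 m22_G4 = true := (okE_cons.2 ⟨m22_g31_ok, (okE_cons.2 ⟨m22_g32_ok, (okE_cons.2 ⟨m22_g27_ok, (okE_cons.2 ⟨m22_g33_ok, (okE_nil 24)⟩)⟩)⟩)⟩)

noncomputable def m22_E4 : List Net := [m22_g31, m22_g32, m22_g27, m22_g33, m22_g25, m22_g26, m22_g28]

theorem m22_E4_ok : okE 24 m22_E4 = true := (okE_cons.2 ⟨m22_g31_ok, (okE_cons.2 ⟨m22_g32_ok, (okE_cons.2 ⟨m22_g27_ok, (okE_cons.2 ⟨m22_g33_ok, (okE_cons.2 ⟨m22_g25_ok, (okE_cons.2 ⟨m22_g26_ok, (okE_cons.2 ⟨m22_g28_ok, (okE_nil 24)⟩)⟩)⟩)⟩)⟩)⟩)⟩)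

noncomputable def m22_G3 : List Net := [m22_g19, m22_g31, m22_g32, m22_g27, m22_g33, m22_g25, m22_g26, m22_g28]

theorem m22_G3_ok : okE 24 m22_G3 = true := (okE_cons.2 ⟨m22_g19_ok, (okE_cons.2 ⟨m22_g31_ok, (okE_cons.2 ⟨m22_g32_ok, (okE_cons.2 ⟨m22_g27_ok, (okE_cons.2 ⟨m22_g33_ok, (okE_cons.2 ⟨m22_g25_ok, (okE_cons.2 ⟨m22_g26_ok, (okE_cons.2 ⟨m22_g28_ok, (okE_nil 24)⟩)⟩)⟩)⟩)⟩)⟩)⟩)⟩)

noncomputable def m22_E3 : List Net := [m22_g19, m22_g18, m22_g20, m22_g31, m22_g32, m22_g27, m22_g33, m22_g25, m22_g26, m22_g28]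

theorem m22_E3_ok : okE 24 m22_E3 = true := (okE_cons.2 ⟨m22_g19_ok, (okE_cons.2 ⟨m22_g18_ok, (okE_cons.2 ⟨m22_g20_ok, (okE_cons.2 ⟨m22_g31_ok, (okE_cons.2 ⟨m22_g32_ok, (okE_cons.2 ⟨m22_g27_ok, (okE_cons.2 ⟨m22_g33_ok, (okE_cons.2 ⟨m22_g25_ok, (okE_cons.2 ⟨m22_g26_ok, (okE_cons.2 ⟨m22_g28_ok, (okE_nil 24)⟩)⟩)⟩)⟩)⟩)⟩)⟩)⟩)⟩)⟩)

noncomputable def m22_G2 : List Net := [m22_g12, m22_g19, m22_g18, m22_g20, m22_g31, m22_g32, m22_g27, m22_g33, m22_g25, m22_g26, m22_g28]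

theorem m22_G2_ok : okE 24 m22_G2 = true := (okE_cons.2 ⟨m22_g12_ok, (okE_cons.2 ⟨m22_g19_ok, (okE_cons.2 ⟨m22_g18_ok, (okE_cons.2 ⟨m22_g20_ok, (okE_cons.2 ⟨m22_g31_ok, (okE_cons.2 ⟨m22_g32_ok, (okE_cons.2 ⟨m22_g27_ok, (okE_cons.2 ⟨m22_g33_ok, (okE_cons.2 ⟨m22_g25_ok, (okE_cons.2 ⟨m22_g26_ok, (okE_cons.2 ⟨m22_g28_ok, (okE_nil 24)⟩)⟩)⟩)⟩)⟩)⟩)⟩)⟩)⟩)⟩)⟩)

noncomputable def m22_E2 : List Net := [m22_g12, m22_g13, m22_g19, m22_g18, m22_g20, m22_g31, m22_g32, m22_g27, m22_g33, m22_g25, m22_g26, m22_g28]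

theorem m22_E2_ok : okE 24 m22_E2 = true := (okE_cons.2 ⟨m22_g12_ok, (okE_cons.2 ⟨m22_g13_ok, (okE_cons.2 ⟨m22_g19_ok, (okE_cons.2 ⟨m22_g18_ok, (okE_cons.2 ⟨m22_g20_ok, (okE_cons.2 ⟨m22_g31_ok, (okE_cons.2 ⟨m22_g32_ok, (okE_cons.2 ⟨m22_g27_ok, (okE_cons.2 ⟨m22_g33_ok, (okE_cons.2 ⟨m22_g25_ok, (okE_cons.2 ⟨m22_g26_ok, (okE_cons.2 ⟨m22_g28_ok, (okE_nil 24)⟩)⟩)⟩)⟩)⟩)⟩)⟩)⟩)⟩)⟩)⟩)⟩)

noncomputable def m22_G1 : List Net := [m22_g9, m22_g12, m22_g13, m22_g19, m22_g18, m22_g20, m22_g31, m22_g32, m22_g27, m22_g33, m22_g25, m22_g26, m22_g28]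

theorem m22_G1_ok : okE 24 m22_G1 = true := (okE_cons.2 ⟨m22_g9_ok, (okE_cons.2 ⟨m22_g12_ok, (okE_cons.2 ⟨m22_g13_ok, (okE_cons.2 ⟨m22_g19_ok, (okE_cons.2 ⟨m22_g18_ok, (okE_cons.2 ⟨m22_g20_ok, (okE_cons.2 ⟨m22_g31_ok, (okE_cons.2 ⟨m22_g32_ok, (okE_cons.2 ⟨m22_g27_ok, (okE_cons.2 ⟨m22_g33_ok, (okE_cons.2 ⟨m22_g25_ok, (okE_cons.2 ⟨m22_g26_ok, (okE_cons.2 ⟨m22_g28_ok, (okE_nil 24)⟩)⟩)⟩)⟩)⟩)⟩)⟩)⟩)⟩)⟩)⟩)⟩)⟩)

noncomputable def m22_E1 : List Net := [m22_g9, m22_g5, m22_g6, m22_g12, m22_g13, m22_g19, m22_g18, m22_g20, m22_g31, m22_g32, m22_g27, m22_g33, m22_g25, m22_g26, m22_g28]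

theorem m22_E1_ok : okE 24 m22_E1 = true := (okE_cons.2 ⟨m22_g9_ok, (okE_cons.2 ⟨m22_g5_ok, (okE_cons.2 ⟨m22_g6_ok, (okE_cons.2 ⟨m22_g12_ok, (okE_cons.2 ⟨m22_g13_ok, (okE_cons.2 ⟨m22_g19_ok, (okE_cons.2 ⟨m22_g18_ok, (okE_cons.2 ⟨m22_g20_ok, (okE_cons.2 ⟨m22_g31_ok, (okE_cons.2 ⟨m22_g32_ok, (okE_cons.2 ⟨m22_g27_ok, (okE_cons.2 ⟨m22_g33_ok, (okE_cons.2 ⟨m22_g25_ok, (okE_cons.2 ⟨m22_g26_ok, (okE_cons.2 ⟨m22_g28_ok, (okE_nil 24)⟩)⟩)⟩)⟩)⟩)⟩)⟩)⟩)⟩)⟩)⟩)⟩)⟩)⟩)⟩)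

noncomputable def m22_G0 : List Net := [m22_g1, m22_g9, m22_g5, m22_g6, m22_g12, m22_g13, m22_g19, m22_g18, m22_g20, m22_g31, m22_g32, m22_g27, m22_g33, m22_g25, m22_g26, m22_g28]

theorem m22_G0_ok : okE 24 m22_G0 = true := (okE_cons.2 ⟨m22_g1_ok, (okE_cons.2 ⟨m22_g9_ok, (okE_cons.2 ⟨m22_g5_ok, (okE_cons.2 ⟨m22_g6_ok, (okE_cons.2 ⟨m22_g12_ok, (okE_cons.2 ⟨m22_g13_ok, (okE_cons.2 ⟨m22_g19_ok, (okE_cons.2 ⟨m22_g18_ok, (okE_cons.2 ⟨m22_g20_ok, (okE_cons.2 ⟨m22_g31_ok, (okE_cons.2 ⟨m22_g32_ok, (okE_cons.2 ⟨m22_g27_ok, (okE_cons.2 ⟨m22_g33_ok, (okE_cons.2 ⟨m22_g25_ok, (okE_cons.2 ⟨m22_g26_ok, (okE_cons.2 ⟨m22_g28_ok, (okE_nil 24)⟩)⟩)⟩)⟩)⟩)⟩)⟩)⟩)⟩)⟩)⟩)⟩)⟩)⟩)⟩)⟩)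

noncomputable def m22_E0 : List Net := [m22_g1, m22_g2, m22_g9, m22_g5, m22_g6, m22_g12, m22_g13, m22_g19, m22_g18, m22_g20, m22_g31, m22_g32, m22_g27, m22_g33, m22_g25, m22_g26, m22_g28]

theorem m22_E0_ok : okE 24 m22_E0 = true := (okE_cons.2 ⟨m22_g1_ok, (okE_cons.2 ⟨m22_g2_ok, (okE_cons.2 ⟨m22_g9_ok, (okE_cons.2 ⟨m22_g5_ok, (okE_cons.2 ⟨m22_g6_ok, (okE_cons.2 ⟨m22_g12_ok, (okE_cons.2 ⟨m22_g13_ok, (okE_cons.2 ⟨m22_g19_ok, (okE_cons.2 ⟨m22_g18_ok, (okE_cons.2 ⟨m22_g20_ok, (okE_cons.2 ⟨m22_g31_ok, (okE_cons.2 ⟨m22_g32_ok, (okE_cons.2 ⟨m22_g27_ok, (okE_cons.2 ⟨m22_g33_ok, (okE_cons.2 ⟨m22_g25_ok, (okE_cons.2 ⟨m22_g26_ok, (okE_cons.2 ⟨m22_g28_ok, (okE_nil 24)⟩)⟩)⟩)⟩)⟩)⟩)⟩)⟩)⟩)⟩)⟩)⟩)⟩)⟩)⟩)⟩)⟩)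

noncomputable def m22_g48 : Net := (Net.cons (nat_lit 1) (nat_lit 0x555000) (Net.cons (nat_lit 2) (nat_lit 77824) (Net.cons (nat_lit 4) (nat_lit 526336) (Net.cons (nat_lit 8) (nat_lit 26) (Net.cons (nat_lit 16) (nat_lit 158) (Net.cons (nat_lit 8) (nat_lit 122) (Net.cons (nat_lit 4) (nat_lit 526336) (Net.cons (nat_lit 2) (nat_lit 78080) (Net.cons (nat_lit 1) (nat_lit 0x555000) Net.nil)))))))))

theorem m22_g48_ok : Net.ok 24 m22_g48 = true := by decide +kernel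

noncomputable def m22_g49 : Net := (Net.cons (nat_lit 1) (nat_lit 0x515000) (Net.cons (nat_lit 2) (nat_lit 0x322010) (Net.cons (nat_lit 4) (nat_lit 458752) (Net.cons (nat_lit 8) (nat_lit 16) (Net.cons (nat_lit 16) (nat_lit 248) (Net.cons (nat_lit 8) (nat_lit 94) (Net.cons (nat_lit 4) (nat_lit 67846) (Net.cons (nat_lit 2) (nat_lit 0x113230) (Net.cons (nat_lit 1) (nat_lit 0x410050) Net.nil)))))))))

theorem m22_g49_ok : Net.ok 24 m22_g49 = true := by decide +kernel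

noncomputable def m22_g50 : Net := (Net.cons (nat_lit 1) (nat_lit 0x551400) (Net.cons (nat_lit 2) (nat_lit 0x310110) (Net.cons (nat_lit 4) (nat_lit 265216) (Net.cons (nat_lit 8) (nat_lit 129) (Net.cons (nat_lit 16) (nat_lit 193) (Net.cons (nat_lit 8) (nat_lit 113) (Net.cons (nat_lit 4) (nat_lit 655876) (Net.cons (nat_lit 2) (nat_lit 0x331320) (Net.cons (nat_lit 1) (nat_lit 0x441410) Net.nil)))))))))

theorem m22_g50_ok : Net.ok 24 m22_g50 = true := by decide +kernel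

noncomputable def m22_g51 : Net := (Net.cons (nat_lit 1) (nat_lit 0x411110) (Net.cons (nat_lit 2) (nat_lit 0x323100) (Net.cons (nat_lit 4) (nat_lit 983040) (Net.cons (nat_lit 8) (nat_lit 26) (Net.cons (nat_lit 16) (nat_lit 126) (Net.cons (nat_lit 8) (nat_lit 142) (Net.cons (nat_lit 4) (nat_lit 721664) (Net.cons (nat_lit 2) (nat_lit 0x320010) (Net.cons (nat_lit 1) (nat_lit 0x504550) Net.nil)))))))))

theorem m22_g51_ok : Net.ok 24 m22_g51 = true := by decide +kernel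

noncomputable def m22_g52 : Net := (Net.cons (nat_lit 1) (nat_lit 65536) (Net.cons (nat_lit 2) (nat_lit 0x121110) (Net.cons (nat_lit 4) (nat_lit 721408) (Net.cons (nat_lit 8) (nat_lit 19) (Net.cons (nat_lit 16) (nat_lit 151) (Net.cons (nat_lit 8) (nat_lit 163) (Net.cons (nat_lit 4) (nat_lit 722432) (Net.cons (nat_lit 2) (nat_lit 0x121110) (Net.cons (nat_lit 1) (nat_lit 16448) Net.nil)))))))))

theorem m22_g52_ok : Net.ok 24 m22_g52 = true := by decide +kernel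

noncomputable def m22_g53 : Net := (Net.cons (nat_lit 1) (nat_lit 0x101000) (Net.cons (nat_lit 2) (nat_lit 0x121100) (Net.cons (nat_lit 4) (nat_lit 786432) (Net.cons (nat_lit 8) (nat_lit 209) (Net.cons (nat_lit 16) (nat_lit 213) (Net.cons (nat_lit 8) (nat_lit 241) (Net.cons (nat_lit 4) (nat_lit 786432) (Net.cons (nat_lit 2) (nat_lit 0x121100) (Net.cons (nat_lit 1) (nat_lit 0x101140) Net.nil)))))))))

theorem m22_g53_ok : Net.ok 24 m22_g53 = true := by decide +kernel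

noncomputable def m22_g54 : Net := (Net.cons (nat_lit 1) (nat_lit 0x401000) (Net.cons (nat_lit 2) (nat_lit 768) (Net.cons (nat_lit 4) (nat_lit 133120) (Net.cons (nat_lit 16) (nat_lit 32) (Net.cons (nat_lit 8) (nat_lit 196) (Net.cons (nat_lit 4) (nat_lit 134404) (Net.cons (nat_lit 2) (nat_lit 0x212300) (Net.cons (nat_lit 1) (nat_lit 0x401000) Net.nil))))))))

theorem m22_g54_ok : Net.ok 24 m22_g54 = true := by decide +kernel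

noncomputable def m22_g55 : Net := (Net.cons (nat_lit 1) (nat_lit 0x410000) (Net.cons (nat_lit 2) (nat_lit 135440) (Net.cons (nat_lit 4) (nat_lit 395264) (Net.cons (nat_lit 8) (nat_lit 75) (Net.cons (nat_lit 16) (nat_lit 203) (Net.cons (nat_lit 8) (nat_lit 127) (Net.cons (nat_lit 4) (nat_lit 395264) (Net.cons (nat_lit 2) (nat_lit 135440) (Net.cons (nat_lit 1) (nat_lit 0x410000) Net.nil)))))))))

theorem m22_g55_ok : Net.ok 24 m22_g55 = true := by decide +kernel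

noncomputable def m22t_c1_K : List Net := [m22_g49, m22_g50, m22_g51, m22_g52, m22_g53, m22_g54, m22_g55]

theorem m22t_c1_K_ok : okE 24 m22t_c1_K = true := (okE_cons.2 ⟨m22_g49_ok, (okE_cons.2 ⟨m22_g50_ok, (okE_cons.2 ⟨m22_g51_ok, (okE_cons.2 ⟨m22_g52_ok, (okE_cons.2 ⟨m22_g53_ok, (okE_cons.2 ⟨m22_g54_ok, (okE_cons.2 ⟨m22_g55_ok, (okE_nil 24)⟩)⟩)⟩)⟩)⟩)⟩)⟩)

noncomputable def m22_V57 : List Net := [m22_g9, m22_g5, m22_g6, m22_g12, m22_g13, m22_g19, m22_g18, m22_g20, m22_g31, m22_g32, m22_g27, m22_g33, m22_g25, m22_g26, m22_g28]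

theorem m22_V57_ok : okE 24 m22_V57 = true := (okE_cons.2 ⟨m22_g9_ok, (okE_cons.2 ⟨m22_g5_ok, (okE_cons.2 ⟨m22_g6_ok, (okE_cons.2 ⟨m22_g12_ok, (okE_cons.2 ⟨m22_g13_ok, (okE_cons.2 ⟨m22_g19_ok, (okE_cons.2 ⟨m22_g18_ok, (okE_cons.2 ⟨m22_g20_ok, (okE_cons.2 ⟨m22_g31_ok, (okE_cons.2 ⟨m22_g32_ok, (okE_cons.2 ⟨m22_g27_ok, (okE_cons.2 ⟨m22_g33_ok, (okE_cons.2 ⟨m22_g25_ok, (okE_cons.2 ⟨m22_g26_ok, (okE_cons.2 ⟨m22_g28_ok, (okE_nil 24)⟩)⟩)⟩)⟩)⟩)⟩)⟩)⟩)⟩)⟩)⟩)⟩)⟩)⟩)⟩)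

noncomputable def m22_V58 : List Net := [m22_g12, m22_g13, m22_g19, m22_g18, m22_g20, m22_g31, m22_g32, m22_g27, m22_g33, m22_g25, m22_g26, m22_g28]

theorem m22_V58_ok : okE 24 m22_V58 = true := (okE_cons.2 ⟨m22_g12_ok, (okE_cons.2 ⟨m22_g13_ok, (okE_cons.2 ⟨m22_g19_ok, (okE_cons.2 ⟨m22_g18_ok, (okE_cons.2 ⟨m22_g20_ok, (okE_cons.2 ⟨m22_g31_ok, (okE_cons.2 ⟨m22_g32_ok, (okE_cons.2 ⟨m22_g27_ok, (okE_cons.2 ⟨m22_g33_ok, (okE_cons.2 ⟨m22_g25_ok, (okE_cons.2 ⟨m22_g26_ok, (okE_cons.2 ⟨m22_g28_ok, (okE_nil 24)⟩)⟩)⟩)⟩)⟩)⟩)⟩)⟩)⟩)⟩)⟩)⟩)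

noncomputable def m22_V59 : List Net := [m22_g19, m22_g18, m22_g20, m22_g31, m22_g32, m22_g27, m22_g33, m22_g25, m22_g26, m22_g28]

theorem m22_V59_ok : okE 24 m22_V59 = true := (okE_cons.2 ⟨m22_g19_ok, (okE_cons.2 ⟨m22_g18_ok, (okE_cons.2 ⟨m22_g20_ok, (okE_cons.2 ⟨m22_g31_ok, (okE_cons.2 ⟨m22_g32_ok, (okE_cons.2 ⟨m22_g27_ok, (okE_cons.2 ⟨m22_g33_ok, (okE_cons.2 ⟨m22_g25_ok, (okE_cons.2 ⟨m22_g26_ok, (okE_cons.2 ⟨m22_g28_ok, (okE_nil 24)⟩)⟩)⟩)⟩)⟩)⟩)⟩)⟩)⟩)⟩)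

noncomputable def m22_V60 : List Net := [m22_g31, m22_g32, m22_g27, m22_g33, m22_g25, m22_g26, m22_g28]

theorem m22_V60_ok : okE 24 m22_V60 = true := (okE_cons.2 ⟨m22_g31_ok, (okE_cons.2 ⟨m22_g32_ok, (okE_cons.2 ⟨m22_g27_ok, (okE_cons.2 ⟨m22_g33_ok, (okE_cons.2 ⟨m22_g25_ok, (okE_cons.2 ⟨m22_g26_ok, (okE_cons.2 ⟨m22_g28_ok, (okE_nil 24)⟩)⟩)⟩)⟩)⟩)⟩)⟩)

noncomputable def m22_V61 : List Net := []

theorem m22_V61_ok : okE 24 m22_V61 = true := (okE_nil 24)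

noncomputable def m22t_c1_cnt_EG : List Net := [m22_g12, m22_g13, m22_g19, m22_g18, m22_g20, m22_g31, m22_g32, m22_g27, m22_g33, m22_g25, m22_g26, m22_g28, m22_g9, m22_g5, m22_g6, m22_g1, m22_g2]

theorem m22t_c1_cnt_EG_ok : okE 24 m22t_c1_cnt_EG = true := (okE_cons.2 ⟨m22_g12_ok, (okE_cons.2 ⟨m22_g13_ok, (okE_cons.2 ⟨m22_g19_ok, (okE_cons.2 ⟨m22_g18_ok, (okE_cons.2 ⟨m22_g20_ok, (okE_cons.2 ⟨m22_g31_ok, (okE_cons.2 ⟨m22_g32_ok, (okE_cons.2 ⟨m22_g27_ok, (okE_cons.2 ⟨m22_g33_ok, (okE_cons.2 ⟨m22_g25_ok, (okE_cons.2 ⟨m22_g26_ok, (okE_cons.2 ⟨m22_g28_ok, (okE_cons.2 ⟨m22_g9_ok, (okE_cons.2 ⟨m22_g5_ok, (okE_cons.2 ⟨m22_g6_ok, (okE_cons.2 ⟨m22_g1_ok, (okE_cons.2 ⟨m22_g2_ok, (okE_nil 24)⟩)⟩)⟩)⟩)⟩)⟩)⟩)⟩)⟩)⟩)⟩)⟩)⟩)⟩)⟩)⟩)⟩)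

noncomputable def m22_g62 : Net := (Net.cons (nat_lit 1) (nat_lit 0x401040) (Net.cons (nat_lit 2) (nat_lit 0x231000) (Net.cons (nat_lit 4) (nat_lit 786432) (Net.cons (nat_lit 8) (nat_lit 170) (Net.cons (nat_lit 16) (nat_lit 234) (Net.cons (nat_lit 8) (nat_lit 8) (Net.cons (nat_lit 4) (nat_lit 394240) (Net.cons (nat_lit 2) (nat_lit 8704) (Net.cons (nat_lit 1) (nat_lit 0x411100) Net.nil)))))))))

theorem m22_g62_ok : Net.ok 24 m22_g62 = true := by decide +kernel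

noncomputable def m22_g63 : Net := (Net.cons (nat_lit 1) (nat_lit 0x441040) (Net.cons (nat_lit 2) (nat_lit 0x132220) (Net.cons (nat_lit 4) (nat_lit 2048) (Net.cons (nat_lit 8) (nat_lit 9) (Net.cons (nat_lit 16) (nat_lit 207) (Net.cons (nat_lit 8) (nat_lit 169) (Net.cons (nat_lit 4) (nat_lit 393220) (Net.cons (nat_lit 2) (nat_lit 0x120000) (Net.cons (nat_lit 1) (nat_lit 0x451104) Net.nil)))))))))

theorem m22_g63_ok : Net.ok 24 m22_g63 = true := by decide +kernel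

noncomputable def m22_g64 : Net := (Net.cons (nat_lit 1) (nat_lit 0x114410) (Net.cons (nat_lit 2) (nat_lit 0x212020) (Net.cons (nat_lit 8) (nat_lit 3) (Net.cons (nat_lit 16) (nat_lit 211) (Net.cons (nat_lit 8) (nat_lit 67) (Net.cons (nat_lit 4) (nat_lit 2312) (Net.cons (nat_lit 2) (nat_lit 0x310030) (Net.cons (nat_lit 1) (nat_lit 0x104450) Net.nil))))))))

theorem m22_g64_ok : Net.ok 24 m22_g64 = true := by decide +kernel

noncomputable def m22t_c2_K : List Net := [m22_g63, m22_g64, m22_g62]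

theorem m22t_c2_K_ok : okE 24 m22t_c2_K = true := (okE_cons.2 ⟨m22_g63_ok, (okE_cons.2 ⟨m22_g64_ok, (okE_cons.2 ⟨m22_g62_ok, (okE_nil 24)⟩)⟩)⟩)

noncomputable def m22_V66 : List Net := [m22_g19]

theorem m22_V66_ok : okE 24 m22_V66 = true := (okE_cons.2 ⟨m22_g19_ok, (okE_nil 24)⟩)

noncomputable def m22_V68 : List Net := []

theorem m22_V68_ok : okE 24 m22_V68 = true := (okE_nil 24)

noncomputable def m22t_c2_cnt_EG : List Net := [m22_g12, m22_g13, m22_g19, m22_g18, m22_g20, m22_g31, m22_g32, m22_g27, m22_g33, m22_g25, m22_g26, m22_g28, m22_g9, m22_g5, m22_g6, m22_g1, m22_g2]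

theorem m22t_c2_cnt_EG_ok : okE 24 m22t_c2_cnt_EG = true := (okE_cons.2 ⟨m22_g12_ok, (okE_cons.2 ⟨m22_g13_ok, (okE_cons.2 ⟨m22_g19_ok, (okE_cons.2 ⟨m22_g18_ok, (okE_cons.2 ⟨m22_g20_ok, (okE_cons.2 ⟨m22_g31_ok, (okE_cons.2 ⟨m22_g32_ok, (okE_cons.2 ⟨m22_g27_ok, (okE_cons.2 ⟨m22_g33_ok, (okE_cons.2 ⟨m22_g25_ok, (okE_cons.2 ⟨m22_g26_ok, (okE_cons.2 ⟨m22_g28_ok, (okE_cons.2 ⟨m22_g9_ok, (okE_cons.2 ⟨m22_g5_ok, (okE_cons.2 ⟨m22_g6_ok, (okE_cons.2 ⟨m22_g1_ok, (okE_cons.2 ⟨m22_g2_ok, (okE_nil 24)⟩)⟩)⟩)⟩)⟩)⟩)⟩)⟩)⟩)⟩)⟩)⟩)⟩)⟩)⟩)⟩)⟩)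

noncomputable def m22_g69 : Net := (Net.cons (nat_lit 1) (nat_lit 0x511140) (Net.cons (nat_lit 2) (nat_lit 0x220000) (Net.cons (nat_lit 4) (nat_lit 262400) (Net.cons (nat_lit 8) (nat_lit 10) (Net.cons (nat_lit 16) (nat_lit 250) (Net.cons (nat_lit 8) (nat_lit 58) (Net.cons (nat_lit 4) (nat_lit 396548) (Net.cons (nat_lit 2) (nat_lit 66336) (Net.cons (nat_lit 1) (nat_lit 0x414150) Net.nil)))))))))

theorem m22_g69_ok : Net.ok 24 m22_g69 = true := by decide +kernel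

noncomputable def m22_g70 : Net := (Net.cons (nat_lit 1) (nat_lit 69904) (Net.cons (nat_lit 2) (nat_lit 0x311000) (Net.cons (nat_lit 4) (nat_lit 722944) (Net.cons (nat_lit 8) (nat_lit 8) (Net.cons (nat_lit 16) (nat_lit 124) (Net.cons (nat_lit 8) (nat_lit 236) (Net.cons (nat_lit 4) (nat_lit 394756) (Net.cons (nat_lit 2) (nat_lit 0x233232) (Net.cons (nat_lit 1) (nat_lit 0x114410) Net.nil)))))))))

theorem m22_g70_ok : Net.ok 24 m22_g70 = true := by decide +kernel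

noncomputable def m22_g71 : Net := (Net.cons (nat_lit 1) (nat_lit 0x550400) (Net.cons (nat_lit 2) (nat_lit 0x111100) (Net.cons (nat_lit 4) (nat_lit 524288) (Net.cons (nat_lit 8) (nat_lit 9) (Net.cons (nat_lit 16) (nat_lit 205) (Net.cons (nat_lit 8) (nat_lit 9) (Net.cons (nat_lit 4) (nat_lit 525312) (Net.cons (nat_lit 2) (nat_lit 0x113102) (Net.cons (nat_lit 1) (nat_lit 0x550400) Net.nil)))))))))

theorem m22_g71_ok : Net.ok 24 m22_g71 = true := by decide +kernel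

noncomputable def m22t_c3_K : List Net := [m22_g69, m22_g70, m22_g71, m22_g54, m22_g48]

theorem m22t_c3_K_ok : okE 24 m22t_c3_K = true := (okE_cons.2 ⟨m22_g69_ok, (okE_cons.2 ⟨m22_g70_ok, (okE_cons.2 ⟨m22_g71_ok, (okE_cons.2 ⟨m22_g54_ok, (okE_cons.2 ⟨m22_g48_ok, (okE_nil 24)⟩)⟩)⟩)⟩)⟩)

noncomputable def m22t_c3_cnt_EG : List Net := [m22_g31, m22_g32, m22_g27, m22_g33, m22_g25, m22_g26, m22_g28, m22_g19, m22_g18, m22_g20, m22_g12, m22_g13, m22_g9, m22_g5, m22_g6, m22_g1, m22_g2]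

theorem m22t_c3_cnt_EG_ok : okE 24 m22t_c3_cnt_EG = true := (okE_cons.2 ⟨m22_g31_ok, (okE_cons.2 ⟨m22_g32_ok, (okE_cons.2 ⟨m22_g27_ok, (okE_cons.2 ⟨m22_g33_ok, (okE_cons.2 ⟨m22_g25_ok, (okE_cons.2 ⟨m22_g26_ok, (okE_cons.2 ⟨m22_g28_ok, (okE_cons.2 ⟨m22_g19_ok, (okE_cons.2 ⟨m22_g18_ok, (okE_cons.2 ⟨m22_g20_ok, (okE_cons.2 ⟨m22_g12_ok, (okE_cons.2 ⟨m22_g13_ok, (okE_cons.2 ⟨m22_g9_ok, (okE_cons.2 ⟨m22_g5_ok, (okE_cons.2 ⟨m22_g6_ok, (okE_cons.2 ⟨m22_g1_ok, (okE_cons.2 ⟨m22_g2_ok, (okE_nil 24)⟩)⟩)⟩)⟩)⟩)⟩)⟩)⟩)⟩)⟩)⟩)⟩)⟩)⟩)⟩)⟩)⟩)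

noncomputable def m22_g73 : Net := (Net.cons (nat_lit 1) (nat_lit 0x400454) (Net.cons (nat_lit 2) (nat_lit 0x210200) (Net.cons (nat_lit 4) (nat_lit 918016) (Net.cons (nat_lit 8) (nat_lit 225) (Net.cons (nat_lit 16) (nat_lit 225) (Net.cons (nat_lit 8) (nat_lit 235) (Net.cons (nat_lit 4) (nat_lit 395014) (Net.cons (nat_lit 2) (nat_lit 4608) (Net.cons (nat_lit 1) (nat_lit 0x444440) Net.nil)))))))))

theorem m22_g73_ok : Net.ok 24 m22_g73 = true := by decide +kernel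

noncomputable def m22_g74 : Net := (Net.cons (nat_lit 1) (nat_lit 0x115054) (Net.cons (nat_lit 2) (nat_lit 0x131010) (Net.cons (nat_lit 4) (nat_lit 328960) (Net.cons (nat_lit 16) (nat_lit 28) (Net.cons (nat_lit 8) (nat_lit 52) (Net.cons (nat_lit 4) (nat_lit 264708) (Net.cons (nat_lit 2) (nat_lit 8194) (Net.cons (nat_lit 1) (nat_lit 0x140440) Net.nil))))))))

theorem m22_g74_ok : Net.ok 24 m22_g74 = true := by decide +kernel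

noncomputable def m22_g75 : Net := (Net.cons (nat_lit 1) (nat_lit 70656) (Net.cons (nat_lit 2) (nat_lit 0x200200) (Net.cons (nat_lit 4) (nat_lit 657408) (Net.cons (nat_lit 8) (nat_lit 40) (Net.cons (nat_lit 16) (nat_lit 40) (Net.cons (nat_lit 8) (nat_lit 184) (Net.cons (nat_lit 4) (nat_lit 919554) (Net.cons (nat_lit 2) (nat_lit 0x200300) (Net.cons (nat_lit 1) (nat_lit 70660) Net.nil)))))))))

theorem m22_g75_ok : Net.ok 24 m22_g75 = true := by decide +kernel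

noncomputable def m22_g76 : Net := (Net.cons (nat_lit 1) (nat_lit 0x545500) (Net.cons (nat_lit 2) (nat_lit 0x232200) (Net.cons (nat_lit 16) (nat_lit 54) (Net.cons (nat_lit 8) (nat_lit 136) (Net.cons (nat_lit 4) (nat_lit 2056) (Net.cons (nat_lit 2) (nat_lit 0x233300) (Net.cons (nat_lit 1) (nat_lit 0x545500) Net.nil)))))))

theorem m22_g76_ok : Net.ok 24 m22_g76 = true := by decide +kernel

noncomputable def m22t_c4_K : List Net := [m22_g73, m22_g74, m22_g75, m22_g76]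

theorem m22t_c4_K_ok : okE 24 m22t_c4_K = true := (okE_cons.2 ⟨m22_g73_ok, (okE_cons.2 ⟨m22_g74_ok, (okE_cons.2 ⟨m22_g75_ok, (okE_cons.2 ⟨m22_g76_ok, (okE_nil 24)⟩)⟩)⟩)⟩)

noncomputable def m22t_c4_cnt_EG : List Net := [m22_g31, m22_g32, m22_g27, m22_g33, m22_g25, m22_g26, m22_g28, m22_g19, m22_g18, m22_g20, m22_g12, m22_g13, m22_g9, m22_g5, m22_g6, m22_g1, m22_g2]

theorem m22t_c4_cnt_EG_ok : okE 24 m22t_c4_cnt_EG = true := (okE_cons.2 ⟨m22_g31_ok, (okE_cons.2 ⟨m22_g32_ok, (okE_cons.2 ⟨m22_g27_ok, (okE_cons.2 ⟨m22_g33_ok, (okE_cons.2 ⟨m22_g25_ok, (okE_cons.2 ⟨m22_g26_ok, (okE_cons.2 ⟨m22_g28_ok, (okE_cons.2 ⟨m22_g19_ok, (okE_cons.2 ⟨m22_g18_ok, (okE_cons.2 ⟨m22_g20_ok, (okE_cons.2 ⟨m22_g12_ok, (okE_cons.2 ⟨m22_g13_ok, (okE_cons.2 ⟨m22_g9_ok, (okE_cons.2 ⟨m22_g5_ok, (okE_cons.2 ⟨m22_g6_ok, (okE_cons.2 ⟨m22_g1_ok, (okE_cons.2 ⟨m22_g2_ok, (okE_nil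 24)⟩)⟩)⟩)⟩)⟩)⟩)⟩)⟩)⟩)⟩)⟩)⟩)⟩)⟩)⟩)⟩)⟩)

noncomputable def m22_g78 : Net := (Net.cons (nat_lit 1) (nat_lit 0x405140) (Net.cons (nat_lit 2) (nat_lit 0x300310) (Net.cons (nat_lit 4) (nat_lit 134144) (Net.cons (nat_lit 8) (nat_lit 96) (Net.cons (nat_lit 16) (nat_lit 224) (Net.cons (nat_lit 8) (nat_lit 212) (Net.cons (nat_lit 4) (nat_lit 263938) (Net.cons (nat_lit 2) (nat_lit 0x103330) (Net.cons (nat_lit 1) (nat_lit 0x511550) Net.nil)))))))))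

theorem m22_g78_ok : Net.ok 24 m22_g78 = true := by decide +kernel

noncomputable def m22t_c5_K : List Net := [m22_g78]

theorem m22t_c5_K_ok : okE 24 m22t_c5_K = true := (okE_cons.2 ⟨m22_g78_ok, (okE_nil 24)⟩)

noncomputable def m22t_c5_cnt_EG : List Net := [m22_g12, m22_g13, m22_g19, m22_g18, m22_g20, m22_g31, m22_g32, m22_g27, m22_g33, m22_g25, m22_g26, m22_g28, m22_g9, m22_g5, m22_g6, m22_g1, m22_g2]

theorem m22t_c5_cnt_EG_ok : okE 24 m22t_c5_cnt_EG = true := (okE_cons.2 ⟨m22_g12_ok, (okE_cons.2 ⟨m22_g13_ok, (okE_cons.2 ⟨m22_g19_ok, (okE_cons.2 ⟨m22_g18_ok, (okE_cons.2 ⟨m22_g20_ok, (okE_cons.2 ⟨m22_g31_ok, (okE_cons.2 ⟨m22_g32_ok, (okE_cons.2 ⟨m22_g27_ok, (okE_cons.2 ⟨m22_g33_ok, (okE_cons.2 ⟨m22_g25_ok, (okE_cons.2 ⟨m22_g26_ok, (okE_cons.2 ⟨m22_g28_ok, (okE_cons.2 ⟨m22_g9_ok, (okE_cons.2 ⟨m22_g5_ok, (okE_cons.2 ⟨m22_g6_ok, (okE_cons.2 ⟨m22_g1_ok,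 (okE_cons.2 ⟨m22_g2_ok, (okE_nil 24)⟩)⟩)⟩)⟩)⟩)⟩)⟩)⟩)⟩)⟩)⟩)⟩)⟩)⟩)⟩)⟩)⟩)

noncomputable def m22_g80 : Net := (Net.cons (nat_lit 1) (nat_lit 0x501104) (Net.cons (nat_lit 2) (nat_lit 0x103100) (Net.cons (nat_lit 4) (nat_lit 263168) (Net.cons (nat_lit 8) (nat_lit 134) (Net.cons (nat_lit 16) (nat_lit 198) (Net.cons (nat_lit 8) (nat_lit 234) (Net.cons (nat_lit 4) (nat_lit 133376) (Net.cons (nat_lit 2) (nat_lit 0x332312) (Net.cons (nat_lit 1) (nat_lit 0x455550) Net.nil)))))))))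

theorem m22_g80_ok : Net.ok 24 m22_g80 = true := by decide +kernel

noncomputable def m22_g81 : Net := (Net.cons (nat_lit 1) (nat_lit 0x505410) (Net.cons (nat_lit 2) (nat_lit 0x321000) (Net.cons (nat_lit 4) (nat_lit 1024) (Net.cons (nat_lit 8) (nat_lit 201) (Net.cons (nat_lit 16) (nat_lit 205) (Net.cons (nat_lit 8) (nat_lit 235) (Net.cons (nat_lit 4) (nat_lit 395790) (Net.cons (nat_lit 2) (nat_lit 0x323232) (Net.cons (nat_lit 1) (nat_lit 0x500014) Net.nil)))))))))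

theorem m22_g81_ok : Net.ok 24 m22_g81 = true := by decide +kernel

noncomputable def m22t_c6_K : List Net := [m22_g80, m22_g81]

theorem m22t_c6_K_ok : okE 24 m22t_c6_K = true := (okE_cons.2 ⟨m22_g80_ok, (okE_cons.2 ⟨m22_g81_ok, (okE_nil 24)⟩)⟩)

noncomputable def m22t_c6_cnt_EG : List Net := [m22_g12, m22_g13, m22_g19, m22_g18, m22_g20, m22_g31, m22_g32, m22_g27, m22_g33, m22_g25, m22_g26, m22_g28, m22_g9, m22_g5, m22_g6, m22_g1, m22_g2]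

theorem m22t_c6_cnt_EG_ok : okE 24 m22t_c6_cnt_EG = true := (okE_cons.2 ⟨m22_g12_ok, (okE_cons.2 ⟨m22_g13_ok, (okE_cons.2 ⟨m22_g19_ok, (okE_cons.2 ⟨m22_g18_ok, (okE_cons.2 ⟨m22_g20_ok, (okE_cons.2 ⟨m22_g31_ok, (okE_cons.2 ⟨m22_g32_ok, (okE_cons.2 ⟨m22_g27_ok, (okE_cons.2 ⟨m22_g33_ok, (okE_cons.2 ⟨m22_g25_ok, (okE_cons.2 ⟨m22_g26_ok, (okE_cons.2 ⟨m22_g28_ok, (okE_cons.2 ⟨m22_g9_ok, (okE_cons.2 ⟨m22_g5_ok, (okE_cons.2 ⟨m22_g6_ok, (okE_cons.2 ⟨m22_g1_ok, (okE_cons.2 ⟨m22_g2_ok, (okE_nil 24)⟩)⟩)⟩)⟩)⟩)⟩)⟩)⟩)⟩)⟩)⟩)⟩)⟩)⟩)⟩)⟩)⟩)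

noncomputable def m22_g83 : Net := (Net.cons (nat_lit 1) (nat_lit 82256) (Net.cons (nat_lit 2) (nat_lit 0x103000) (Net.cons (nat_lit 4) (nat_lit 590848) (Net.cons (nat_lit 8) (nat_lit 133) (Net.cons (nat_lit 16) (nat_lit 213) (Net.cons (nat_lit 8) (nat_lit 231) (Net.cons (nat_lit 4) (nat_lit 921348) (Net.cons (nat_lit 2) (nat_lit 0x123020) (Net.cons (nat_lit 1) (nat_lit 282688) Net.nil)))))))))

theorem m22_g83_ok : Net.ok 24 m22_g83 = true := by decide +kernel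

noncomputable def m22t_c7_K : List Net := [m22_g83]

theorem m22t_c7_K_ok : okE 24 m22t_c7_K = true := (okE_cons.2 ⟨m22_g83_ok, (okE_nil 24)⟩)

noncomputable def m22t_c7_cnt_EG : List Net := [m22_g31, m22_g32, m22_g27, m22_g33, m22_g25, m22_g26, m22_g28, m22_g19, m22_g18, m22_g20, m22_g12, m22_g13, m22_g9, m22_g5, m22_g6, m22_g1, m22_g2]

theorem m22t_c7_cnt_EG_ok : okE 24 m22t_c7_cnt_EG = true := (okE_cons.2 ⟨m22_g31_ok, (okE_cons.2 ⟨m22_g32_ok, (okE_cons.2 ⟨m22_g27_ok, (okE_cons.2 ⟨m22_g33_ok, (okE_cons.2 ⟨m22_g25_ok, (okE_cons.2 ⟨m22_g26_ok, (okE_cons.2 ⟨m22_g28_ok, (okE_cons.2 ⟨m22_g19_ok, (okE_cons.2 ⟨m22_g18_ok, (okE_cons.2 ⟨m22_g20_ok, (okE_cons.2 ⟨m22_g12_ok, (okE_cons.2 ⟨m22_g13_ok, (okE_cons.2 ⟨m22_g9_ok, (okE_cons.2 ⟨m22_g5_ok, (okE_cons.2 ⟨m22_g6_ok, (okE_cons.2 ⟨m22_g1_ok, (okE_cons.2 ⟨m22_g2_ok, (okE_nil 24)⟩)⟩)⟩)⟩)⟩)⟩)⟩)⟩)⟩)⟩)⟩)⟩)⟩)⟩)⟩)⟩)⟩)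

noncomputable def m22_g85 : Net := (Net.cons (nat_lit 1) (nat_lit 0x415544) (Net.cons (nat_lit 2) (nat_lit 0x203300) (Net.cons (nat_lit 4) (nat_lit 263168) (Net.cons (nat_lit 8) (nat_lit 98) (Net.cons (nat_lit 16) (nat_lit 114) (Net.cons (nat_lit 8) (nat_lit 138) (Net.cons (nat_lit 4) (nat_lit 786954) (Net.cons (nat_lit 2) (nat_lit 0x221110) (Net.cons (nat_lit 1) (nat_lit 0x500144) Net.nil)))))))))

theorem m22_g85_ok : Net.ok 24 m22_g85 = true := by decide +kernel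

noncomputable def m22t_c8_K : List Net := [m22_g85]

theorem m22t_c8_K_ok : okE 24 m22t_c8_K = true := (okE_cons.2 ⟨m22_g85_ok, (okE_nil 24)⟩)

noncomputable def m22t_c8_cnt_EG : List Net := [m22_g31, m22_g32, m22_g27, m22_g33, m22_g25, m22_g26, m22_g28, m22_g19, m22_g18, m22_g20, m22_g12, m22_g13, m22_g9, m22_g5, m22_g6, m22_g1, m22_g2]

theorem m22t_c8_cnt_EG_ok : okE 24 m22t_c8_cnt_EG = true := (okE_cons.2 ⟨m22_g31_ok, (okE_cons.2 ⟨m22_g32_ok, (okE_cons.2 ⟨m22_g27_ok, (okE_cons.2 ⟨m22_g33_ok, (okE_cons.2 ⟨m22_g25_ok, (okE_cons.2 ⟨m22_g26_ok, (okE_cons.2 ⟨m22_g28_ok, (okE_cons.2 ⟨m22_g19_ok, (okE_cons.2 ⟨m22_g18_ok, (okE_cons.2 ⟨m22_g20_ok, (okE_cons.2 ⟨m22_g12_ok, (okE_cons.2 ⟨m22_g13_ok, (okE_cons.2 ⟨m22_g9_ok, (okE_cons.2 ⟨m22_g5_ok, (okE_cons.2 ⟨m22_g6_ok, (okE_cons.2 ⟨m22_g1_ok, (okE_cons.2 ⟨m22_g2_ok, (okE_nil 24)⟩)⟩)⟩)⟩)⟩)⟩)⟩)⟩)⟩)⟩)⟩)⟩)⟩)⟩)⟩)⟩)⟩)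

noncomputable def m22_g87 : Net := (Net.cons (nat_lit 1) (nat_lit 0x515050) (Net.cons (nat_lit 2) (nat_lit 0x112000) (Net.cons (nat_lit 4) (nat_lit 657920) (Net.cons (nat_lit 8) (nat_lit 11) (Net.cons (nat_lit 16) (nat_lit 43) (Net.cons (nat_lit 8) (nat_lit 223) (Net.cons (nat_lit 4) (nat_lit 394240) (Net.cons (nat_lit 2) (nat_lit 0x320322) (Net.cons (nat_lit 1) (nat_lit 0x514050) Net.nil)))))))))

theorem m22_g87_ok : Net.ok 24 m22_g87 = true := by decide +kernel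

noncomputable def m22t_c9_K : List Net := [m22_g87, m22_g48]

theorem m22t_c9_K_ok : okE 24 m22t_c9_K = true := (okE_cons.2 ⟨m22_g87_ok, (okE_cons.2 ⟨m22_g48_ok, (okE_nil 24)⟩)⟩)

noncomputable def m22t_c9_cnt_EG : List Net := [m22_g12, m22_g13, m22_g19, m22_g18, m22_g20, m22_g31, m22_g32, m22_g27, m22_g33, m22_g25, m22_g26, m22_g28, m22_g9, m22_g5, m22_g6, m22_g1, m22_g2]

theorem m22t_c9_cnt_EG_ok : okE 24 m22t_c9_cnt_EG = true := (okE_cons.2 ⟨m22_g12_ok, (okE_cons.2 ⟨m22_g13_ok, (okE_cons.2 ⟨m22_g19_ok, (okE_cons.2 ⟨m22_g18_ok, (okE_cons.2 ⟨m22_g20_ok, (okE_cons.2 ⟨m22_g31_ok, (okE_cons.2 ⟨m22_g32_ok, (okE_cons.2 ⟨m22_g27_ok, (okE_cons.2 ⟨m22_g33_ok, (okE_cons.2 ⟨m22_g25_ok, (okE_cons.2 ⟨m22_g26_ok, (okE_cons.2 ⟨m22_g28_ok, (okE_cons.2 ⟨m22_g9_ok, (okE_cons.2 ⟨m22_g5_ok, (okE_cons.2 ⟨m22_g6_ok, (okE_cons.2 ⟨m22_g1_ok, (okE_cons.2 ⟨m22_g2_ok,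 (okE_nil 24)⟩)⟩)⟩)⟩)⟩)⟩)⟩)⟩)⟩)⟩)⟩)⟩)⟩)⟩)⟩)⟩)⟩)

noncomputable def m22_g89 : Net := (Net.cons (nat_lit 1) (nat_lit 0x100150) (Net.cons (nat_lit 2) (nat_lit 0x221110) (Net.cons (nat_lit 4) (nat_lit 854528) (Net.cons (nat_lit 8) (nat_lit 193) (Net.cons (nat_lit 16) (nat_lit 203) (Net.cons (nat_lit 8) (nat_lit 15) (Net.cons (nat_lit 4) (nat_lit 852484) (Net.cons (nat_lit 2) (nat_lit 0x313022) (Net.cons (nat_lit 1) (nat_lit 0x104440) Net.nil)))))))))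

theorem m22_g89_ok : Net.ok 24 m22_g89 = true := by decide +kernel

noncomputable def m22t_c10_K : List Net := [m22_g89]

theorem m22t_c10_K_ok : okE 24 m22t_c10_K = true := (okE_cons.2 ⟨m22_g89_ok, (okE_nil 24)⟩)

noncomputable def m22t_c10_cnt_EG : List Net := [m22_g12, m22_g13, m22_g19, m22_g18, m22_g20, m22_g31, m22_g32, m22_g27, m22_g33, m22_g25, m22_g26, m22_g28, m22_g9, m22_g5, m22_g6, m22_g1, m22_g2]

theorem m22t_c10_cnt_EG_ok : okE 24 m22t_c10_cnt_EG = true := (okE_cons.2 ⟨m22_g12_ok, (okE_cons.2 ⟨m22_g13_ok, (okE_cons.2 ⟨m22_g19_ok, (okE_cons.2 ⟨m22_g18_ok, (okE_cons.2 ⟨m22_g20_ok, (okE_cons.2 ⟨m22_g31_ok, (okE_cons.2 ⟨m22_g32_ok, (okE_cons.2 ⟨m22_g27_ok, (okE_cons.2 ⟨m22_g33_ok, (okE_cons.2 ⟨m22_g25_ok, (okE_cons.2 ⟨m22_g26_ok, (okE_cons.2 ⟨m22_g28_ok, (okE_cons.2 ⟨m22_g9_ok, (okE_cons.2 ⟨m22_g5_ok, (okE_cons.2 ⟨m22_g6_ok, (okE_cons.2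 ⟨m22_g1_ok, (okE_cons.2 ⟨m22_g2_ok, (okE_nil 24)⟩)⟩)⟩)⟩)⟩)⟩)⟩)⟩)⟩)⟩)⟩)⟩)⟩)⟩)⟩)⟩)⟩)

noncomputable def m22_g91 : Net := (Net.cons (nat_lit 1) (nat_lit 21824) (Net.cons (nat_lit 2) (nat_lit 78336) (Net.cons (nat_lit 4) (nat_lit 524544) (Net.cons (nat_lit 8) (nat_lit 195) (Net.cons (nat_lit 16) (nat_lit 231) (Net.cons (nat_lit 8) (nat_lit 251) (Net.cons (nat_lit 4) (nat_lit 656906) (Net.cons (nat_lit 2) (nat_lit 0x100100) (Net.cons (nat_lit 1) (nat_lit 332800) Net.nil)))))))))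

theorem m22_g91_ok : Net.ok 24 m22_g91 = true := by decide +kernel

noncomputable def m22t_c11_K : List Net := [m22_g91]

theorem m22t_c11_K_ok : okE 24 m22t_c11_K = true := (okE_cons.2 ⟨m22_g91_ok, (okE_nil 24)⟩)

noncomputable def m22t_c11_cnt_EG : List Net := [m22_g12, m22_g13, m22_g19, m22_g18, m22_g20, m22_g31, m22_g32, m22_g27, m22_g33, m22_g25, m22_g26, m22_g28, m22_g9, m22_g5, m22_g6, m22_g1, m22_g2]

theorem m22t_c11_cnt_EG_ok : okE 24 m22t_c11_cnt_EG = true := (okE_cons.2 ⟨m22_g12_ok, (okE_cons.2 ⟨m22_g13_ok, (okE_cons.2 ⟨m22_g19_ok, (okE_cons.2 ⟨m22_g18_ok, (okE_cons.2 ⟨m22_g20_ok, (okE_cons.2 ⟨m22_g31_ok, (okE_cons.2 ⟨m22_g32_ok, (okE_cons.2 ⟨m22_g27_ok, (okE_cons.2 ⟨m22_g33_ok, (okE_cons.2 ⟨m22_g25_ok, (okE_cons.2 ⟨m22_g26_ok, (okE_cons.2 ⟨m22_g28_ok, (okE_cons.2 ⟨m22_g9_ok, (okE_cons.2 ⟨m22_g5_ok, (okE_cons.2 ⟨m22_g6_ok, (okE_cons.2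 ⟨m22_g1_ok, (okE_cons.2 ⟨m22_g2_ok, (okE_nil 24)⟩)⟩)⟩)⟩)⟩)⟩)⟩)⟩)⟩)⟩)⟩)⟩)⟩)⟩)⟩)⟩)⟩)

noncomputable def m22t_nc8_7_cnt_EG : List Net := [m22_g12, m22_g13, m22_g19, m22_g18, m22_g20, m22_g31, m22_g32, m22_g27, m22_g33, m22_g25, m22_g26, m22_g28, m22_g9, m22_g5, m22_g6, m22_g1, m22_g2]

theorem m22t_nc8_7_cnt_EG_ok : okE 24 m22t_nc8_7_cnt_EG = true := (okE_cons.2 ⟨m22_g12_ok, (okE_cons.2 ⟨m22_g13_ok, (okE_cons.2 ⟨m22_g19_ok, (okE_cons.2 ⟨m22_g18_ok, (okE_cons.2 ⟨m22_g20_ok, (okE_cons.2 ⟨m22_g31_ok, (okE_cons.2 ⟨m22_g32_ok, (okE_cons.2 ⟨m22_g27_ok, (okE_cons.2 ⟨m22_g33_ok, (okE_cons.2 ⟨m22_g25_ok, (okE_cons.2 ⟨m22_g26_ok, (okE_cons.2 ⟨m22_g28_ok, (okE_cons.2 ⟨m22_g9_ok, (okE_cons.2 ⟨m22_g5_ok, (okE_cons.2 ⟨m22_g6_ok, (okE_cons.2 ⟨m22_g1_ok, (okE_cons.2 ⟨m22_g2_ok, (okE_nil 24)⟩)⟩)⟩)⟩)⟩)⟩)⟩)⟩)⟩)⟩)⟩)⟩)⟩)⟩)⟩)⟩)⟩)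

noncomputable def m22t_nc11_10_cnt_EG : List Net := [m22_g12, m22_g13, m22_g19, m22_g18, m22_g20, m22_g31, m22_g32, m22_g27, m22_g33, m22_g25, m22_g26, m22_g28, m22_g9, m22_g5, m22_g6, m22_g1, m22_g2]

theorem m22t_nc11_10_cnt_EG_ok : okE 24 m22t_nc11_10_cnt_EG = true := (okE_cons.2 ⟨m22_g12_ok, (okE_cons.2 ⟨m22_g13_ok, (okE_cons.2 ⟨m22_g19_ok, (okE_cons.2 ⟨m22_g18_ok, (okE_cons.2 ⟨m22_g20_ok, (okE_cons.2 ⟨m22_g31_ok, (okE_cons.2 ⟨m22_g32_ok, (okE_cons.2 ⟨m22_g27_ok, (okE_cons.2 ⟨m22_g33_ok, (okE_cons.2 ⟨m22_g25_ok, (okE_cons.2 ⟨m22_g26_ok, (okE_cons.2 ⟨m22_g28_ok, (okE_cons.2 ⟨m22_g9_ok, (okE_cons.2 ⟨m22_g5_ok, (okE_cons.2 ⟨m22_g6_ok, (okE_cons.2 ⟨m22_g1_ok, (okE_cons.2 ⟨m22_g2_ok, (okE_nil 24)⟩)⟩)⟩)⟩)⟩)⟩)⟩)⟩)⟩)⟩)⟩)⟩)⟩)⟩)⟩)⟩)⟩)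

theorem m22_le4 : grp 24 m22_V3 ≤ grp 24 m22_O :=
  grp_le_of_memB m22_hn m22_hk m22_O_ok m22_V3_ok (ws := [nat_lit 1]) (by decide +kernel)

theorem m22_le8 : grp 24 m22_V7 ≤ grp 24 m22_O :=
  grp_le_of_memB m22_hn m22_hk m22_O_ok m22_V7_ok (ws := [nat_lit 0x301010303010104, nat_lit 0x101040401040101]) (by decide +kernel)

theorem m22_le11 : grp 24 m22_V10 ≤ grp 24 m22_V7 :=
  grp_le_of_memB m22_hn m22_hk m22_V7_ok m22_V10_ok (ws := [nat_lit 4]) (by decide +kernel)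

theorem m22_le15 : grp 24 m22_V14 ≤ grp 24 m22_V7 :=
  grp_le_of_memB m22_hn m22_hk m22_V7_ok m22_V14_ok (ws := [nat_lit 0x20302030104, nat_lit 0x4010301040101]) (by decide +kernel)

theorem m22_le17 : grp 24 m22_V16 ≤ grp 24 m22_V14 :=
  grp_le_of_memB m22_hn m22_hk m22_V14_ok m22_V16_ok (ws := [nat_lit 1]) (by decide +kernel)

theorem m22_le22 : grp 24 m22_V21 ≤ grp 24 m22_V14 :=
  grp_le_of_memB m22_hn m22_hk m22_V14_ok m22_V21_ok (ws := [nat_lit 0x1030301010402040204, nat_lit 0x1040202020302040203, nat_lit 0x203010103]) (by decide +kernel)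

theorem m22_le24 : grp 24 m22_V23 ≤ grp 24 m22_V21 :=
  grp_le_of_memB m22_hn m22_hk m22_V21_ok m22_V23_ok (ws := [nat_lit 3]) (by decide +kernel)

theorem m22_le30 : grp 24 m22_V29 ≤ grp 24 m22_V21 :=
  grp_le_of_memB m22_hn m22_hk m22_V21_ok m22_V29_ok (ws := [nat_lit 0x4010501060602050502060203, nat_lit 0x50204010104020203, nat_lit 0x6010303060204050502060603, nat_lit 0x401010505010401050104]) (by decide +kernel)

theorem m22_le35 : grp 24 m22_V34 ≤ grp 24 m22_V29 :=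
  grp_le_of_memB m22_hn m22_hk m22_V29_ok m22_V34_ok (ws := [nat_lit 1287, nat_lit 66823, nat_lit 5, nat_lit 66309]) (by decide +kernel)

theorem m22_card5 : Nat.card (grp 24 m22_E5) = 1 :=
  card_grp_nil 24

theorem m22_leO5 : grp 24 m22_E5 ≤ grp 24 m22_O :=
  grp_nil_le _

theorem m22_4_fix : grp 24 m22_E5 ≤ MulAction.stabilizer (Equiv.Perm (Fin 24)) (⟨2, by decide⟩ : Fin 24) :=
  grp_le_stab m22_E5_ok (by decide : 2 < 24) (by decide +kernel)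

noncomputable def m22_4_ts : List ℕ := [nat_lit 0, nat_lit 1, nat_lit 3, nat_lit 5, nat_lit 7, nat_lit 259, nat_lit 261, nat_lit 263, nat_lit 773, nat_lit 775, nat_lit 1287, nat_lit 66309, nat_lit 66311, nat_lit 66823, nat_lit 197895, nat_lit 0x1030507]

noncomputable def m22_4_ds : List ℕ := [nat_lit 2, nat_lit 3, nat_lit 5, nat_lit 22, nat_lit 4, nat_lit 14, nat_lit 10, nat_lit 6, nat_lit 11, nat_lit 9, nat_lit 16, nat_lit 7, nat_lit 12, nat_lit 8, nat_lit 21, nat_lit 20]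

theorem m22_4_dist : Dist 24 m22_E5 m22_G4 (⟨2, by decide⟩ : Fin 24) m22_4_ts m22_4_ds :=
  dist_of_distB (k := 4) m22_hn m22_E5_ok m22_G4_ok (by decide : 2 < 24) (by decide +kernel)

noncomputable def m22_4_sl0 : SL := (SL.cons (nat_lit 1) (nat_lit 3) Ch.nil [] (SL.cons (nat_lit 3) (nat_lit 5) Ch.nil [] (SL.cons (nat_lit 5) (nat_lit 22) Ch.nil [] (SL.cons (nat_lit 7) (nat_lit 4) Ch.nil [] (SL.cons (nat_lit 259) (nat_lit 14) Ch.nil [] (SL.cons (nat_lit 261) (nat_lit 10) Ch.nil [] (SL.cons (nat_lit 263) (nat_lit 6) Ch.nil [] (SL.cons (nat_lit 773) (nat_lit 11) Ch.nil [] (SL.cons (nat_lit 775) (nat_lit 9) Ch.nil [] (SL.cons (nat_lit 1287) (nat_lit 16) Ch.nil [] (SL.cons (nat_lit 66309) (nat_lit 7) Ch.nil [] (SL.cons (nat_lit 66311) (nat_lit 12) Ch.nil [] (SL.cons (nat_lit 66823) (nat_lit 8) Ch.nil [] (SL.cons (nat_lit 197895) (nat_lit 21) Ch.nil []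 (SL.cons (nat_lit 0x1030507) (nat_lit 20) Ch.nil [] SL.nil)))))))))))))))

theorem m22_4_sc0 : SCs 24 m22_E5 m22_G4 (⟨2, by decide⟩ : Fin 24) (SL.words m22_4_sl0) :=
  scs_of_ok m22_hn (det_lab m22_hk ⊤) m22_E5_ok m22_G4_ok le_top le_top (by decide : 2 < 24) m22_4_fix m22_card5.le (by decide +kernel)

noncomputable def m22_4_l : List ℕ := (appL (SL.words m22_4_sl0) [])

theorem m22_4_scs : SCs 24 m22_E5 m22_G4 (⟨2, by decide⟩ : Fin 24) m22_4_l :=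
  (SCs.append m22_4_sc0 SCs.nil)

noncomputable def m22_4_rl0_0 : RL := (RL.cons (nat_lit 0) (nat_lit 2) (nat_lit 0) (nat_lit 0) (nat_lit 1) (nat_lit 0) (RL.cons (nat_lit 1) (nat_lit 3) (nat_lit 0) (nat_lit 0) (nat_lit 0) (nat_lit 0) (RL.cons (nat_lit 2) (nat_lit 5) (nat_lit 0) (nat_lit 0) (nat_lit 5) (nat_lit 0) (RL.cons (nat_lit 3) (nat_lit 22) (nat_lit 0) (nat_lit 0) (nat_lit 6) (nat_lit 0) (RL.cons (nat_lit 4) (nat_lit 4) (nat_lit 0) (nat_lit 0) (nat_lit 7) (nat_lit 0) (RL.cons (nat_lit 5) (nat_lit 14) (nat_lit 0) (nat_lit 0) (nat_lit 2) (nat_lit 0) (RL.cons (nat_lit 6) (nat_lit 10) (nat_lit 0) (nat_lit 0) (nat_lit 3) (nat_lit 0) (RL.cons (nat_lit 7) (nat_lit 6) (nat_lit 0) (nat_lit 0) (nat_lit 4) (nat_lit 0) (RL.cons (nat_lit 8) (nat_lit 11) (nat_lit 0) (nat_lit 0) (nat_lit 11) (nat_lit 0) (RL.cons (nat_lit 9) (nat_lit 9) (nat_lit 0) (nat_lit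 0) (nat_lit 12) (nat_lit 0) (RL.cons (nat_lit 10) (nat_lit 16) (nat_lit 0) (nat_lit 0) (nat_lit 13) (nat_lit 0) (RL.cons (nat_lit 11) (nat_lit 7) (nat_lit 0) (nat_lit 0) (nat_lit 8) (nat_lit 0) (RL.cons (nat_lit 12) (nat_lit 12) (nat_lit 0) (nat_lit 0) (nat_lit 9) (nat_lit 0) (RL.cons (nat_lit 13) (nat_lit 8) (nat_lit 0) (nat_lit 0) (nat_lit 10) (nat_lit 0) (RL.cons (nat_lit 14) (nat_lit 21) (nat_lit 0) (nat_lit 0) (nat_lit 15) (nat_lit 0) (RL.cons (nat_lit 15) (nat_lit 20) (nat_lit 0) (nat_lit 0) (nat_lit 14) (nat_lit 0) RL.nil))))))))))))))))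

theorem m22_4_good0_0 : GoodSet 24 m22_E5 m22_G4 (⟨2, by decide⟩ : Fin 24) m22_4_ts (nat_lit 1) (RL.pts m22_4_rl0_0) :=
  goodSet_of_ok m22_hn (det_lab m22_hk ⊤) m22_E5_ok m22_G4_ok le_top le_top (by decide : 2 < 24) (sepAt_lab m22_hk _) (by decide +kernel)

theorem m22_4_step0 : Step 24 m22_E5 m22_G4 m22_4_ts (2 * 0 + 1) :=
  step_of_cover m22_E5_ok m22_4_dist (by decide +kernel) m22_4_scs (by decide +kernel) m22_4_good0_0 (kw := [])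
    (conj_mem_of_scs m22_E5_ok m22_G4_ok (by decide : 2 < 24) m22_4_scs (c := 0) (d := 3) (by decide +kernel)) (by decide +kernel)

noncomputable def m22_4_rl1_0 : RL := (RL.cons (nat_lit 0) (nat_lit 2) (nat_lit 0) (nat_lit 0) (nat_lit 2) (nat_lit 0) (RL.cons (nat_lit 1) (nat_lit 3) (nat_lit 0) (nat_lit 0) (nat_lit 5) (nat_lit 0) (RL.cons (nat_lit 2) (nat_lit 5) (nat_lit 0) (nat_lit 0) (nat_lit 0) (nat_lit 0) (RL.cons (nat_lit 3) (nat_lit 22) (nat_lit 0) (nat_lit 0) (nat_lit 8) (nat_lit 0) (RL.cons (nat_lit 4) (nat_lit 4) (nat_lit 0) (nat_lit 0) (nat_lit 9) (nat_lit 0) (RL.cons (nat_lit 5) (nat_lit 14) (nat_lit 0) (nat_lit 0) (nat_lit 1) (nat_lit 0) (RL.cons (nat_lit 6) (nat_lit 10) (nat_lit 0) (nat_lit 0) (nat_lit 11) (nat_lit 0) (RL.cons (nat_lit 7) (nat_lit 6) (nat_lit 0) (nat_lit 0) (nat_lit 12) (nat_lit 0) (RL.cons (nat_lit 8) (nat_lit 11) (nat_lit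 0) (nat_lit 0) (nat_lit 3) (nat_lit 0) (RL.cons (nat_lit 9) (nat_lit 9) (nat_lit 0) (nat_lit 0) (nat_lit 4) (nat_lit 0) (RL.cons (nat_lit 10) (nat_lit 16) (nat_lit 0) (nat_lit 0) (nat_lit 14) (nat_lit 0) (RL.cons (nat_lit 11) (nat_lit 7) (nat_lit 0) (nat_lit 0) (nat_lit 6) (nat_lit 0) (RL.cons (nat_lit 12) (nat_lit 12) (nat_lit 0) (nat_lit 0) (nat_lit 7) (nat_lit 0) (RL.cons (nat_lit 13) (nat_lit 8) (nat_lit 0) (nat_lit 0) (nat_lit 15) (nat_lit 0) (RL.cons (nat_lit 14) (nat_lit 21) (nat_lit 0) (nat_lit 0) (nat_lit 10) (nat_lit 0) (RL.cons (nat_lit 15) (nat_lit 20) (nat_lit 0) (nat_lit 0) (nat_lit 13) (nat_lit 0) RL.nil))))))))))))))))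

theorem m22_4_good1_0 : GoodSet 24 m22_E5 m22_G4 (⟨2, by decide⟩ : Fin 24) m22_4_ts (nat_lit 3) (RL.pts m22_4_rl1_0) :=
  goodSet_of_ok m22_hn (det_lab m22_hk ⊤) m22_E5_ok m22_G4_ok le_top le_top (by decide : 2 < 24) (sepAt_lab m22_hk _) (by decide +kernel)

theorem m22_4_step1 : Step 24 m22_E5 m22_G4 m22_4_ts (2 * 1 + 1) :=
  step_of_cover m22_E5_ok m22_4_dist (by decide +kernel) m22_4_scs (by decide +kernel) m22_4_good1_0 (kw := [])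
    (conj_mem_of_scs m22_E5_ok m22_G4_ok (by decide : 2 < 24) m22_4_scs (c := 1) (d := 5) (by decide +kernel)) (by decide +kernel)

noncomputable def m22_4_rl2_0 : RL := (RL.cons (nat_lit 0) (nat_lit 2) (nat_lit 0) (nat_lit 0) (nat_lit 3) (nat_lit 0) (RL.cons (nat_lit 1) (nat_lit 3) (nat_lit 0) (nat_lit 0) (nat_lit 6) (nat_lit 0) (RL.cons (nat_lit 2) (nat_lit 5) (nat_lit 0) (nat_lit 0) (nat_lit 8) (nat_lit 0) (RL.cons (nat_lit 3) (nat_lit 22) (nat_lit 0) (nat_lit 0) (nat_lit 0) (nat_lit 0) (RL.cons (nat_lit 4) (nat_lit 4) (nat_lit 0) (nat_lit 0) (nat_lit 10) (nat_lit 0) (RL.cons (nat_lit 5) (nat_lit 14) (nat_lit 0) (nat_lit 0) (nat_lit 11) (nat_lit 0) (RL.cons (nat_lit 6) (nat_lit 10) (nat_lit 0) (nat_lit 0) (nat_lit 1) (nat_lit 0) (RL.cons (nat_lit 7) (nat_lit 6) (nat_lit 0) (nat_lit 0) (nat_lit 13) (nat_lit 0) (RL.cons (nat_lit 8) (nat_lit 11)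 (nat_lit 0) (nat_lit 0) (nat_lit 2) (nat_lit 0) (RL.cons (nat_lit 9) (nat_lit 9) (nat_lit 0) (nat_lit 0) (nat_lit 14) (nat_lit 0) (RL.cons (nat_lit 10) (nat_lit 16) (nat_lit 0) (nat_lit 0) (nat_lit 4) (nat_lit 0) (RL.cons (nat_lit 11) (nat_lit 7) (nat_lit 0) (nat_lit 0) (nat_lit 5) (nat_lit 0) (RL.cons (nat_lit 12) (nat_lit 12) (nat_lit 0) (nat_lit 0) (nat_lit 15) (nat_lit 0) (RL.cons (nat_lit 13) (nat_lit 8) (nat_lit 0) (nat_lit 0) (nat_lit 7) (nat_lit 0) (RL.cons (nat_lit 14) (nat_lit 21) (nat_lit 0) (nat_lit 0) (nat_lit 9) (nat_lit 0) (RL.cons (nat_lit 15) (nat_lit 20) (nat_lit 0) (nat_lit 0) (nat_lit 12) (nat_lit 0) RL.nil))))))))))))))))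

theorem m22_4_good2_0 : GoodSet 24 m22_E5 m22_G4 (⟨2, by decide⟩ : Fin 24) m22_4_ts (nat_lit 5) (RL.pts m22_4_rl2_0) :=
  goodSet_of_ok m22_hn (det_lab m22_hk ⊤) m22_E5_ok m22_G4_ok le_top le_top (by decide : 2 < 24) (sepAt_lab m22_hk _) (by decide +kernel)

theorem m22_4_step2 : Step 24 m22_E5 m22_G4 m22_4_ts (2 * 2 + 1) :=
  step_of_cover m22_E5_ok m22_4_dist (by decide +kernel) m22_4_scs (by decide +kernel) m22_4_good2_0 (kw := [])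
    (conj_mem_of_scs m22_E5_ok m22_G4_ok (by decide : 2 < 24) m22_4_scs (c := 2) (d := 22) (by decide +kernel)) (by decide +kernel)

noncomputable def m22_4_rl3_0 : RL := (RL.cons (nat_lit 0) (nat_lit 2) (nat_lit 0) (nat_lit 0) (nat_lit 4) (nat_lit 0) (RL.cons (nat_lit 1) (nat_lit 3) (nat_lit 0) (nat_lit 0) (nat_lit 7) (nat_lit 0) (RL.cons (nat_lit 2) (nat_lit 5) (nat_lit 0) (nat_lit 0) (nat_lit 9) (nat_lit 0) (RL.cons (nat_lit 3) (nat_lit 22) (nat_lit 0) (nat_lit 0) (nat_lit 10) (nat_lit 0) (RL.cons (nat_lit 4) (nat_lit 4) (nat_lit 0) (nat_lit 0) (nat_lit 0) (nat_lit 0) (RL.cons (nat_lit 5) (nat_lit 14) (nat_lit 0) (nat_lit 0) (nat_lit 12) (nat_lit 0) (RL.cons (nat_lit 6) (nat_lit 10) (nat_lit 0) (nat_lit 0) (nat_lit 13) (nat_lit 0) (RL.cons (nat_lit 7) (nat_lit 6) (nat_lit 0) (nat_lit 0) (nat_lit 1) (nat_lit 0) (RL.cons (nat_lit 8) (nat_lit 11)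 (nat_lit 0) (nat_lit 0) (nat_lit 14) (nat_lit 0) (RL.cons (nat_lit 9) (nat_lit 9) (nat_lit 0) (nat_lit 0) (nat_lit 2) (nat_lit 0) (RL.cons (nat_lit 10) (nat_lit 16) (nat_lit 0) (nat_lit 0) (nat_lit 3) (nat_lit 0) (RL.cons (nat_lit 11) (nat_lit 7) (nat_lit 0) (nat_lit 0) (nat_lit 15) (nat_lit 0) (RL.cons (nat_lit 12) (nat_lit 12) (nat_lit 0) (nat_lit 0) (nat_lit 5) (nat_lit 0) (RL.cons (nat_lit 13) (nat_lit 8) (nat_lit 0) (nat_lit 0) (nat_lit 6) (nat_lit 0) (RL.cons (nat_lit 14) (nat_lit 21) (nat_lit 0) (nat_lit 0) (nat_lit 8) (nat_lit 0) (RL.cons (nat_lit 15) (nat_lit 20) (nat_lit 0) (nat_lit 0) (nat_lit 11) (nat_lit 0) RL.nil))))))))))))))))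

theorem m22_4_good3_0 : GoodSet 24 m22_E5 m22_G4 (⟨2, by decide⟩ : Fin 24) m22_4_ts (nat_lit 7) (RL.pts m22_4_rl3_0) :=
  goodSet_of_ok m22_hn (det_lab m22_hk ⊤) m22_E5_ok m22_G4_ok le_top le_top (by decide : 2 < 24) (sepAt_lab m22_hk _) (by decide +kernel)

theorem m22_4_step3 : Step 24 m22_E5 m22_G4 m22_4_ts (2 * 3 + 1) :=
  step_of_cover m22_E5_ok m22_4_dist (by decide +kernel) m22_4_scs (by decide +kernel) m22_4_good3_0 (kw := [])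
    (conj_mem_of_scs m22_E5_ok m22_G4_ok (by decide : 2 < 24) m22_4_scs (c := 3) (d := 4) (by decide +kernel)) (by decide +kernel)

theorem m22_4_lev : grp 24 m22_G4 ⊓ MulAction.stabilizer (Equiv.Perm (Fin 24)) (⟨2, by decide⟩ : Fin 24) = grp 24 m22_E5 :=
  sims_level (gs := m22_V34) rfl (by decide) m22_4_fix m22_4_dist (forall_lt_succ' (forall_lt_succ' (forall_lt_succ' (forall_lt_one m22_4_step0) m22_4_step1) m22_4_step2) m22_4_step3)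

theorem m22_4_cardG : Nat.card (grp 24 m22_G4) = 16 :=
  card_of_level m22_hn m22_G4_ok (by decide : 2 < 24) m22_4_lev m22_card5 (m := 16) (by decide +kernel)

theorem m22_le36 : grp 24 m22_E4 ≤ grp 24 m22_G4 :=
  grp_le_of_memB m22_hn m22_hk m22_G4_ok m22_E4_ok (ws := [nat_lit 1, nat_lit 3, nat_lit 5, nat_lit 7, nat_lit 259, nat_lit 0x1030507, nat_lit 261]) (by decide +kernel)

theorem m22_le37 : grp 24 m22_G4 ≤ grp 24 m22_E4 :=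
  grp_le_of_memB m22_hn m22_hk m22_E4_ok m22_G4_ok (ws := [nat_lit 1, nat_lit 3, nat_lit 5, nat_lit 7]) (by decide +kernel)

theorem m22_4_eq : grp 24 m22_E4 = grp 24 m22_G4 :=
  le_antisymm m22_le36 m22_le37

theorem m22_card4 : Nat.card (grp 24 m22_E4) = 16 :=
  by rw [m22_4_eq]; exact m22_4_cardG

theorem m22_stab4 : grp 24 m22_E4 ⊓ MulAction.stabilizer (Equiv.Perm (Fin 24)) (⟨2, by decide⟩ : Fin 24) = grp 24 m22_E5 :=
  by rw [m22_4_eq]; exact m22_4_lev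

theorem m22_leO4 : grp 24 m22_E4 ≤ grp 24 m22_O :=
  m22_4_eq.le.trans (grp_cons_le ((m22_le30.trans (m22_le22.trans (m22_le15.trans (m22_le8.trans (le_refl (grp 24 m22_O)))))) (m22_le35 (toPerm_mem_grp (E := m22_V34) (by simp [m22_V34])))) (grp_cons_le ((m22_le30.trans (m22_le22.trans (m22_le15.trans (m22_le8.trans (le_refl (grp 24 m22_O)))))) (m22_le35 (toPerm_mem_grp (E := m22_V34) (by simp [m22_V34])))) (grp_cons_le ((m22_le30.trans (m22_le22.trans (m22_le15.trans (m22_le8.trans (le_refl (grp 24 m22_O)))))) (m22_le35 (toPerm_mem_grp (E := m22_V34) (by simp [m22_V34])))) (grp_cons_le ((m22_le30.trans (m22_le22.trans (m22_le15.trans (m22_le8.trans (le_refl (grp 24 m22_O)))))) (m22_le35 (toPerm_mem_grp (E := m22_V34) (by simp [m22_V34])))) m22_leO5))))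

theorem m22_3_fix : grp 24 m22_E4 ≤ MulAction.stabilizer (Equiv.Perm (Fin 24)) (⟨17, by decide⟩ : Fin 24) :=
  grp_le_stab m22_E4_ok (by decide : 17 < 24) (by decide +kernel)

noncomputable def m22_3_ts : List ℕ := [nat_lit 0, nat_lit 1, nat_lit 2]

noncomputable def m22_3_ds : List ℕ := [nat_lit 17, nat_lit 18, nat_lit 19]

theorem m22_3_dist : Dist 24 m22_E4 m22_G3 (⟨17, by decide⟩ : Fin 24) m22_3_ts m22_3_ds :=
  dist_of_distB (k := 2) m22_hn m22_E4_ok m22_G3_ok (by decide : 17 < 24) (by decide +kernel)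

noncomputable def m22_3_sl0 : SL := (SL.cons (nat_lit 1) (nat_lit 18) (Ch.cons (nat_lit 2) [nat_lit 1, nat_lit 11, nat_lit 1287, nat_lit 13] Ch.nil) [nat_lit 781, nat_lit 775, nat_lit 5, nat_lit 11] (SL.cons (nat_lit 2) (nat_lit 19) (Ch.cons (nat_lit 2) [nat_lit 11, nat_lit 3, nat_lit 263, nat_lit 9] Ch.nil) [nat_lit 13, nat_lit 1291, nat_lit 3, nat_lit 779] SL.nil))

theorem m22_3_sc0 : SCs 24 m22_E4 m22_G3 (⟨17, by decide⟩ : Fin 24) (SL.words m22_3_sl0) :=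
  scs_of_ok m22_hn (det_lab m22_hk ⊤) m22_E4_ok m22_G3_ok le_top le_top (by decide : 17 < 24) m22_3_fix m22_card4.le (by decide +kernel)

noncomputable def m22_3_l : List ℕ := (appL (SL.words m22_3_sl0) [])

theorem m22_3_scs : SCs 24 m22_E4 m22_G3 (⟨17, by decide⟩ : Fin 24) m22_3_l :=
  (SCs.append m22_3_sc0 SCs.nil)

noncomputable def m22_3_rl0_0 : RL := (RL.cons (nat_lit 0) (nat_lit 17) (nat_lit 0) (nat_lit 0) (nat_lit 2) (nat_lit 0) (RL.cons (nat_lit 1) (nat_lit 18) (nat_lit 0) (nat_lit 0) (nat_lit 0) (nat_lit 0) (RL.cons (nat_lit 2) (nat_lit 19) (nat_lit 0) (nat_lit 0) (nat_lit 1) (nat_lit 0) RL.nil)))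

theorem m22_3_good0_0 : GoodSet 24 m22_E4 m22_G3 (⟨17, by decide⟩ : Fin 24) m22_3_ts (nat_lit 1) (RL.pts m22_3_rl0_0) :=
  goodSet_of_ok m22_hn (det_lab m22_hk ⊤) m22_E4_ok m22_G3_ok le_top le_top (by decide : 17 < 24) (sepAt_lab m22_hk _) (by decide +kernel)

theorem m22_3_step0 : Step 24 m22_E4 m22_G3 m22_3_ts (2 * 0 + 1) :=
  step_of_cover m22_E4_ok m22_3_dist (by decide +kernel) m22_3_scs (by decide +kernel) m22_3_good0_0 (kw := [nat_lit 1, nat_lit 11, nat_lit 1287, nat_lit 13])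
    (conj_mem_of_scs m22_E4_ok m22_G3_ok (by decide : 17 < 24) m22_3_scs (c := 0) (d := 18) (by decide +kernel)) (by decide +kernel)

theorem m22_3_lev : grp 24 m22_G3 ⊓ MulAction.stabilizer (Equiv.Perm (Fin 24)) (⟨17, by decide⟩ : Fin 24) = grp 24 m22_E4 :=
  sims_level (gs := m22_V23) rfl (by decide) m22_3_fix m22_3_dist (forall_lt_one m22_3_step0)

theorem m22_3_cardG : Nat.card (grp 24 m22_G3) = 48 :=
  card_of_level m22_hn m22_G3_ok (by decide : 17 < 24) m22_3_lev m22_card4 (m := 3) (by decide +kernel)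

theorem m22_le38 : grp 24 m22_E3 ≤ grp 24 m22_G3 :=
  grp_le_of_memB m22_hn m22_hk m22_G3_ok m22_E3_ok (ws := [nat_lit 1, nat_lit 1293, nat_lit 461057, nat_lit 3, nat_lit 5, nat_lit 7, nat_lit 9, nat_lit 11, nat_lit 13, nat_lit 15]) (by decide +kernel)

theorem m22_le39 : grp 24 m22_G3 ≤ grp 24 m22_E3 :=
  grp_le_of_memB m22_hn m22_hk m22_E3_ok m22_G3_ok (ws := [nat_lit 1, nat_lit 7, nat_lit 9, nat_lit 11, nat_lit 13, nat_lit 15, nat_lit 17, nat_lit 19]) (by decide +kernel)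

theorem m22_3_eq : grp 24 m22_E3 = grp 24 m22_G3 :=
  le_antisymm m22_le38 m22_le39

theorem m22_card3 : Nat.card (grp 24 m22_E3) = 48 :=
  by rw [m22_3_eq]; exact m22_3_cardG

theorem m22_stab3 : grp 24 m22_E3 ⊓ MulAction.stabilizer (Equiv.Perm (Fin 24)) (⟨17, by decide⟩ : Fin 24) = grp 24 m22_E4 :=
  by rw [m22_3_eq]; exact m22_3_lev

theorem m22_leO3 : grp 24 m22_E3 ≤ grp 24 m22_O :=
  m22_3_eq.le.trans (grp_cons_le ((m22_le22.trans (m22_le15.trans (m22_le8.trans (le_refl (grp 24 m22_O))))) (m22_le24 (toPerm_mem_grp (E := m22_V23) (by simp [m22_V23])))) m22_leO4)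

theorem m22_2_fix : grp 24 m22_E3 ≤ MulAction.stabilizer (Equiv.Perm (Fin 24)) (⟨13, by decide⟩ : Fin 24) :=
  grp_le_stab m22_E3_ok (by decide : 13 < 24) (by decide +kernel)

noncomputable def m22_2_ts : List ℕ := [nat_lit 0, nat_lit 1, nat_lit 257]

noncomputable def m22_2_ds : List ℕ := [nat_lit 13, nat_lit 9, nat_lit 19]

theorem m22_2_dist : Dist 24 m22_E3 m22_G2 (⟨13, by decide⟩ : Fin 24) m22_2_ts m22_2_ds :=
  dist_of_distB (k := 2) m22_hn m22_E3_ok m22_G2_ok (by decide : 13 < 24) (by decide +kernel)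

noncomputable def m22_2_sl0 : SL := (SL.cons (nat_lit 1) (nat_lit 9) (Ch.cons (nat_lit 2) [nat_lit 4353] Ch.nil) [nat_lit 593154] (SL.cons (nat_lit 257) (nat_lit 19) (Ch.cons (nat_lit 2) [nat_lit 19, nat_lit 13, nat_lit 17, nat_lit 2315] Ch.nil) [nat_lit 19, nat_lit 2323, nat_lit 17, nat_lit 15] SL.nil))

theorem m22_2_sc0 : SCs 24 m22_E3 m22_G2 (⟨13, by decide⟩ : Fin 24) (SL.words m22_2_sl0) :=
  scs_of_ok m22_hn (det_lab m22_hk ⊤) m22_E3_ok m22_G2_ok le_top le_top (by decide : 13 < 24) m22_2_fix m22_card3.le (by decide +kernel)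

noncomputable def m22_2_l : List ℕ := (appL (SL.words m22_2_sl0) [])

theorem m22_2_scs : SCs 24 m22_E3 m22_G2 (⟨13, by decide⟩ : Fin 24) m22_2_l :=
  (SCs.append m22_2_sc0 SCs.nil)

noncomputable def m22_2_rl0_0 : RL := (RL.cons (nat_lit 0) (nat_lit 13) (nat_lit 0) (nat_lit 1) (nat_lit 1) (nat_lit 1) (RL.cons (nat_lit 1) (nat_lit 9) (nat_lit 0) (nat_lit 0) (nat_lit 0) (nat_lit 0) (RL.cons (nat_lit 1) (nat_lit 20) (nat_lit 1) (nat_lit 0) (nat_lit 2) (nat_lit 2) (RL.cons (nat_lit 1) (nat_lit 7) (nat_lit 3) (nat_lit 523) (nat_lit 1) (nat_lit 725249) (RL.cons (nat_lit 1) (nat_lit 12) (nat_lit 7) (nat_lit 9) (nat_lit 1) (nat_lit 2305) (RL.cons (nat_lit 1) (nat_lit 4) (nat_lit 9) (nat_lit 519) (nat_lit 1) (nat_lit 463105) (RL.cons (nat_lit 1) (nat_lit 21) (nat_lit 11) (nat_lit 3) (nat_lit 1) (nat_lit 594177) (RL.cons (nat_lit 2) (nat_lit 19) (nat_lit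 0) (nat_lit 0) (nat_lit 1) (nat_lit 0) RL.nil))))))))

theorem m22_2_good0_0 : GoodSet 24 m22_E3 m22_G2 (⟨13, by decide⟩ : Fin 24) m22_2_ts (nat_lit 1) (RL.pts m22_2_rl0_0) :=
  goodSet_of_ok m22_hn (det_lab m22_hk ⊤) m22_E3_ok m22_G2_ok le_top le_top (by decide : 13 < 24) (sepAt_lab m22_hk _) (by decide +kernel)

theorem m22_2_step0 : Step 24 m22_E3 m22_G2 m22_2_ts (2 * 0 + 1) :=
  step_of_cover m22_E3_ok m22_2_dist (by decide +kernel) m22_2_scs (by decide +kernel) m22_2_good0_0 (kw := [nat_lit 4353])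
    (conj_mem_of_scs m22_E3_ok m22_G2_ok (by decide : 13 < 24) m22_2_scs (c := 0) (d := 9) (by decide +kernel)) (by decide +kernel)

theorem m22_2_lev : grp 24 m22_G2 ⊓ MulAction.stabilizer (Equiv.Perm (Fin 24)) (⟨13, by decide⟩ : Fin 24) = grp 24 m22_E3 :=
  sims_level (gs := m22_V16) rfl (by decide) m22_2_fix m22_2_dist (forall_lt_one m22_2_step0)

theorem m22_2_cardG : Nat.card (grp 24 m22_G2) = 960 :=
  card_of_level m22_hn m22_G2_ok (by decide : 13 < 24) m22_2_lev m22_card3 (m := 20) (by decide +kernel)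

theorem m22_le40 : grp 24 m22_E2 ≤ grp 24 m22_G2 :=
  grp_le_of_memB m22_hn m22_hk m22_G2_ok m22_E2_ok (ws := [nat_lit 1, nat_lit 0x9040108, nat_lit 3, nat_lit 5, nat_lit 7, nat_lit 9, nat_lit 11, nat_lit 13, nat_lit 15, nat_lit 17, nat_lit 19, nat_lit 21]) (by decide +kernel)

theorem m22_le41 : grp 24 m22_G2 ≤ grp 24 m22_E2 :=
  grp_le_of_memB m22_hn m22_hk m22_E2_ok m22_G2_ok (ws := [nat_lit 1, nat_lit 5, nat_lit 7, nat_lit 9, nat_lit 11, nat_lit 13, nat_lit 15, nat_lit 17, nat_lit 19, nat_lit 21, nat_lit 23]) (by decide +kernel)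

theorem m22_2_eq : grp 24 m22_E2 = grp 24 m22_G2 :=
  le_antisymm m22_le40 m22_le41

theorem m22_card2 : Nat.card (grp 24 m22_E2) = 960 :=
  by rw [m22_2_eq]; exact m22_2_cardG

theorem m22_stab2 : grp 24 m22_E2 ⊓ MulAction.stabilizer (Equiv.Perm (Fin 24)) (⟨13, by decide⟩ : Fin 24) = grp 24 m22_E3 :=
  by rw [m22_2_eq]; exact m22_2_lev

theorem m22_leO2 : grp 24 m22_E2 ≤ grp 24 m22_O :=
  m22_2_eq.le.trans (grp_cons_le ((m22_le15.trans (m22_le8.trans (le_refl (grp 24 m22_O)))) (m22_le17 (toPerm_mem_grp (E := m22_V16) (by simp [m22_V16])))) m22_leO3)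

theorem m22_1_fix : grp 24 m22_E2 ≤ MulAction.stabilizer (Equiv.Perm (Fin 24)) (⟨15, by decide⟩ : Fin 24) :=
  grp_le_stab m22_E2_ok (by decide : 15 < 24) (by decide +kernel)

noncomputable def m22_1_ts : List ℕ := [nat_lit 0, nat_lit 1]

noncomputable def m22_1_ds : List ℕ := [nat_lit 15, nat_lit 13]

theorem m22_1_dist : Dist 24 m22_E2 m22_G1 (⟨15, by decide⟩ : Fin 24) m22_1_ts m22_1_ds :=
  dist_of_distB (k := 1) m22_hn m22_E2_ok m22_G1_ok (by decide : 15 < 24) (by decide +kernel)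

noncomputable def m22_1_sl0 : SL := (SL.cons (nat_lit 1) (nat_lit 13) (Ch.cons (nat_lit 17) [nat_lit 5, nat_lit 7, nat_lit 9] (Ch.cons (nat_lit 2) [nat_lit 11, nat_lit 13, nat_lit 15, nat_lit 17, nat_lit 19, nat_lit 21, nat_lit 23] Ch.nil)) [nat_lit 0xd0f05010f, nat_lit 1281, nat_lit 853252, nat_lit 0x17050215, nat_lit 0x13060213, nat_lit 0xd110101, nat_lit 0xd1105010106, nat_lit 857348, nat_lit 983307, nat_lit 0xd110502] SL.nil)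

theorem m22_1_sc0 : SCs 24 m22_E2 m22_G1 (⟨15, by decide⟩ : Fin 24) (SL.words m22_1_sl0) :=
  scs_of_ok m22_hn (det_lab m22_hk ⊤) m22_E2_ok m22_G1_ok le_top le_top (by decide : 15 < 24) m22_1_fix m22_card2.le (by decide +kernel)

noncomputable def m22_1_l : List ℕ := (appL (SL.words m22_1_sl0) [])

theorem m22_1_scs : SCs 24 m22_E2 m22_G1 (⟨15, by decide⟩ : Fin 24) m22_1_l :=
  (SCs.append m22_1_sc0 SCs.nil)

noncomputable def m22_1_rl0_0 : RL := (RL.cons (nat_lit 0) (nat_lit 15) (nat_lit 0) (nat_lit 260) (nat_lit 1) (nat_lit 721156) (RL.cons (nat_lit 1) (nat_lit 13) (nat_lit 0) (nat_lit 0) (nat_lit 0) (nat_lit 0) (RL.cons (nat_lit 1) (nat_lit 9) (nat_lit 1) (nat_lit 4) (nat_lit 1) (nat_lit 0xd11050213) (RL.cons (nat_lit 1) (nat_lit 19) (nat_lit 257) (nat_lit 521) (nat_lit 1) (nat_lit 857860) RL.nil))))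

theorem m22_1_good0_0 : GoodSet 24 m22_E2 m22_G1 (⟨15, by decide⟩ : Fin 24) m22_1_ts (nat_lit 1) (RL.pts m22_1_rl0_0) :=
  goodSet_of_ok m22_hn (det_lab m22_hk ⊤) m22_E2_ok m22_G1_ok le_top le_top (by decide : 15 < 24) (sepAt_lab m22_hk _) (by decide +kernel)

theorem m22_1_step0 : Step 24 m22_E2 m22_G1 m22_1_ts (2 * 0 + 1) :=
  step_of_cover m22_E2_ok m22_1_dist (by decide +kernel) m22_1_scs (by decide +kernel) m22_1_good0_0 (kw := [nat_lit 5, nat_lit 7, nat_lit 9, nat_lit 11, nat_lit 13, nat_lit 15, nat_lit 17, nat_lit 19, nat_lit 21, nat_lit 23])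
    (conj_mem_of_scs m22_E2_ok m22_G1_ok (by decide : 15 < 24) m22_1_scs (c := 0) (d := 13) (by decide +kernel)) (by decide +kernel)

theorem m22_1_lev : grp 24 m22_G1 ⊓ MulAction.stabilizer (Equiv.Perm (Fin 24)) (⟨15, by decide⟩ : Fin 24) = grp 24 m22_E2 :=
  sims_level (gs := m22_V10) rfl (by decide) m22_1_fix m22_1_dist (forall_lt_one m22_1_step0)

theorem m22_1_cardG : Nat.card (grp 24 m22_G1) = 20160 :=
  card_of_level m22_hn m22_G1_ok (by decide : 15 < 24) m22_1_lev m22_card2 (m := 21) (by decide +kernel)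

theorem m22_le42 : grp 24 m22_E1 ≤ grp 24 m22_G1 :=
  grp_le_of_memB m22_hn m22_hk m22_G1_ok m22_E1_ok (ws := [nat_lit 1, nat_lit 0x15080303020305, nat_lit 2, nat_lit 3, nat_lit 5, nat_lit 7, nat_lit 9, nat_lit 11, nat_lit 13, nat_lit 15, nat_lit 17, nat_lit 19, nat_lit 21, nat_lit 23, nat_lit 25]) (by decide +kernel)

theorem m22_le43 : grp 24 m22_G1 ≤ grp 24 m22_E1 :=
  grp_le_of_memB m22_hn m22_hk m22_E1_ok m22_G1_ok (ws := [nat_lit 1, nat_lit 7, nat_lit 9, nat_lit 11, nat_lit 13, nat_lit 15, nat_lit 17, nat_lit 19, nat_lit 21, nat_lit 23, nat_lit 25, nat_lit 27, nat_lit 29]) (by decide +kernel)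

theorem m22_1_eq : grp 24 m22_E1 = grp 24 m22_G1 :=
  le_antisymm m22_le42 m22_le43

theorem m22_card1 : Nat.card (grp 24 m22_E1) = 20160 :=
  by rw [m22_1_eq]; exact m22_1_cardG

theorem m22_stab1 : grp 24 m22_E1 ⊓ MulAction.stabilizer (Equiv.Perm (Fin 24)) (⟨15, by decide⟩ : Fin 24) = grp 24 m22_E2 :=
  by rw [m22_1_eq]; exact m22_1_lev

theorem m22_leO1 : grp 24 m22_E1 ≤ grp 24 m22_O :=
  m22_1_eq.le.trans (grp_cons_le ((m22_le8.trans (le_refl (grp 24 m22_O))) (m22_le11 (toPerm_mem_grp (E := m22_V10) (by simp [m22_V10])))) m22_leO2)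

theorem m22_0_fix : grp 24 m22_E1 ≤ MulAction.stabilizer (Equiv.Perm (Fin 24)) (⟨1, by decide⟩ : Fin 24) :=
  grp_le_stab m22_E1_ok (by decide : 1 < 24) (by decide +kernel)

noncomputable def m22_0_ts : List ℕ := [nat_lit 0, nat_lit 1]

noncomputable def m22_0_ds : List ℕ := [nat_lit 1, nat_lit 15]

theorem m22_0_dist : Dist 24 m22_E1 m22_G0 (⟨1, by decide⟩ : Fin 24) m22_0_ts m22_0_ds :=
  dist_of_distB (k := 1) m22_hn m22_E1_ok m22_G0_ok (by decide : 1 < 24) (by decide +kernel)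

noncomputable def m22_0_sl0 : SL := (SL.cons (nat_lit 1) (nat_lit 15) (Ch.cons (nat_lit 13) [nat_lit 7, nat_lit 9] (Ch.cons (nat_lit 17) [nat_lit 11, nat_lit 13, nat_lit 15] (Ch.cons (nat_lit 2) [nat_lit 17, nat_lit 19, nat_lit 21, nat_lit 23, nat_lit 25, nat_lit 27, nat_lit 29] Ch.nil))) [nat_lit 0x13150c09010a, nat_lit 0x131d0b09010107, nat_lit 0x1d0103, nat_lit 0x151b0c070a010115, nat_lit 0x131507110107, nat_lit 0x11170c090213, nat_lit 0x131d0c07070c03, nat_lit 0x13170b09021d, nat_lit 0x1309020c, nat_lit 0x1b0c070a0101, nat_lit 0x170a0208, nat_lit 0x19010a] SL.nil)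

theorem m22_0_sc0 : SCs 24 m22_E1 m22_G0 (⟨1, by decide⟩ : Fin 24) (SL.words m22_0_sl0) :=
  scs_of_ok m22_hn (det_lab m22_hk ⊤) m22_E1_ok m22_G0_ok le_top le_top (by decide : 1 < 24) m22_0_fix m22_card1.le (by decide +kernel)

noncomputable def m22_0_l : List ℕ := (appL (SL.words m22_0_sl0) [])

theorem m22_0_scs : SCs 24 m22_E1 m22_G0 (⟨1, by decide⟩ : Fin 24) m22_0_l :=
  (SCs.append m22_0_sc0 SCs.nil)

noncomputable def m22_0_rl0_0 : RL := (RL.cons (nat_lit 0) (nat_lit 1) (nat_lit 0) (nat_lit 1034) (nat_lit 1) (nat_lit 1034) (RL.cons (nat_lit 1) (nat_lit 15) (nat_lit 0) (nat_lit 0) (nat_lit 0) (nat_lit 0) (RL.cons (nat_lit 1) (nat_lit 13) (nat_lit 1) (nat_lit 264) (nat_lit 1) (nat_lit 0x150b0819021d) RL.nil)))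

theorem m22_0_good0_0 : GoodSet 24 m22_E1 m22_G0 (⟨1, by decide⟩ : Fin 24) m22_0_ts (nat_lit 1) (RL.pts m22_0_rl0_0) :=
  goodSet_of_ok m22_hn (det_lab m22_hk ⊤) m22_E1_ok m22_G0_ok le_top le_top (by decide : 1 < 24) (sepAt_lab m22_hk _) (by decide +kernel)

theorem m22_0_step0 : Step 24 m22_E1 m22_G0 m22_0_ts (2 * 0 + 1) :=
  step_of_cover m22_E1_ok m22_0_dist (by decide +kernel) m22_0_scs (by decide +kernel) m22_0_good0_0 (kw := [nat_lit 7, nat_lit 9, nat_lit 11, nat_lit 13, nat_lit 15, nat_lit 17, nat_lit 19, nat_lit 21, nat_lit 23, nat_lit 25, nat_lit 27, nat_lit 29])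
    (conj_mem_of_scs m22_E1_ok m22_G0_ok (by decide : 1 < 24) m22_0_scs (c := 0) (d := 15) (by decide +kernel)) (by decide +kernel)

theorem m22_0_lev : grp 24 m22_G0 ⊓ MulAction.stabilizer (Equiv.Perm (Fin 24)) (⟨1, by decide⟩ : Fin 24) = grp 24 m22_E1 :=
  sims_level (gs := m22_V3) rfl (by decide) m22_0_fix m22_0_dist (forall_lt_one m22_0_step0)

theorem m22_0_cardG : Nat.card (grp 24 m22_G0) = 443520 :=
  card_of_level m22_hn m22_G0_ok (by decide : 1 < 24) m22_0_lev m22_card1 (m := 22) (by decide +kernel)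

theorem m22_le44 : grp 24 m22_E0 ≤ grp 24 m22_G0 :=
  grp_le_of_memB m22_hn m22_hk m22_G0_ok m22_E0_ok (ws := [nat_lit 1, nat_lit 0x1517090c021d, nat_lit 3, nat_lit 5, nat_lit 7, nat_lit 9, nat_lit 11, nat_lit 13, nat_lit 15, nat_lit 17, nat_lit 19, nat_lit 21, nat_lit 23, nat_lit 25, nat_lit 27, nat_lit 29, nat_lit 31]) (by decide +kernel)

theorem m22_le45 : grp 24 m22_G0 ≤ grp 24 m22_E0 :=
  grp_le_of_memB m22_hn m22_hk m22_E0_ok m22_G0_ok (ws := [nat_lit 1, nat_lit 5, nat_lit 7, nat_lit 9, nat_lit 11, nat_lit 13, nat_lit 15, nat_lit 17, nat_lit 19, nat_lit 21, nat_lit 23, nat_lit 25, nat_lit 27, nat_lit 29, nat_lit 31, nat_lit 33]) (by decide +kernel)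

theorem m22_0_eq : grp 24 m22_E0 = grp 24 m22_G0 :=
  le_antisymm m22_le44 m22_le45

theorem m22_card0 : Nat.card (grp 24 m22_E0) = 443520 :=
  by rw [m22_0_eq]; exact m22_0_cardG

theorem m22_stab0 : grp 24 m22_E0 ⊓ MulAction.stabilizer (Equiv.Perm (Fin 24)) (⟨1, by decide⟩ : Fin 24) = grp 24 m22_E1 :=
  by rw [m22_0_eq]; exact m22_0_lev

theorem m22_leO0 : grp 24 m22_E0 ≤ grp 24 m22_O :=
  m22_0_eq.le.trans (grp_cons_le ((le_refl (grp 24 m22_O)) (m22_le4 (toPerm_mem_grp (E := m22_V3) (by simp [m22_V3])))) m22_leO1)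

theorem m22_le46 : grp 24 m22_O ≤ grp 24 m22_E0 :=
  grp_le_of_memB m22_hn m22_hk m22_E0_ok m22_O_ok (ws := [nat_lit 1, nat_lit 3]) (by decide +kernel)

theorem m22_eq : grp 24 m22_O = grp 24 m22_E0 :=
  le_antisymm m22_le46 m22_leO0

theorem m22_card : Nat.card (grp 24 m22_O) = 443520 :=
  by rw [m22_eq]; exact m22_card0

noncomputable def m22_ch : Ch := (Ch.cons (nat_lit 1) [nat_lit 1, nat_lit 3] (Ch.cons (nat_lit 15) [nat_lit 5, nat_lit 7, nat_lit 9] (Ch.cons (nat_lit 13) [nat_lit 11, nat_lit 13] (Ch.cons (nat_lit 17) [nat_lit 15, nat_lit 17, nat_lit 19] (Ch.cons (nat_lit 2) [nat_lit 21, nat_lit 23, nat_lit 25, nat_lit 27, nat_lit 29, nat_lit 31, nat_lit 33] Ch.nil)))))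

theorem m22_exact : Ch.Exact 24 m22_E0 m22_ch (grp 24 m22_E0) :=
  Ch.exact (k := 5) (L := (lab 24 5)) m22_hn m22_E0_ok (by decide +kernel) (wgrp_le_grp _ _ _) m22_card0.le

theorem m22_T47_s0 : Stab 24 (grp 24 m22_E0) [] m22_E0 443520 :=
  Stab.root m22_E0_ok m22_card0

theorem m22_le56 : grp 24 m22t_c1_K ≤ grp 24 m22_E0 :=
  grp_le_of_memB m22_hn m22_hk m22_E0_ok m22t_c1_K_ok (ws := [nat_lit 0x17190f0b0b0f06100202, nat_lit 0x191f0f0c1d050b, nat_lit 0x1f0f0d050519, nat_lit 0x171f100b0b100505, nat_lit 0x151b0f08, nat_lit 0x15100b1b080e, nat_lit 0xc05050b]) (by decide +kernel)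

theorem m22t_c1_le : grp 24 m22t_c1_K ≤ (grp 24 m22_E0) :=
  (m22_le56.trans m22_T47_s0.le)

theorem m22t_c1_mem : Net.toPerm 24 m22_g48 ∈ (grp 24 m22_E0) :=
  m22t_c1_le (mem_grp_of_memB m22_hn m22_hk m22t_c1_K_ok m22_g48_ok (w := (nat_lit 0x7090b0d)) (by decide +kernel))

theorem m22t_c1_sym : Sym 24 (grp 24 m22_E0) [m22_g48] m22t_c1_K 0 :=
  Sym.of_lab m22_hn m22_hk (okE_cons.2 ⟨m22_g48_ok, okE_nil _⟩) m22t_c1_K_ok m22t_c1_le (kT := 0) (by decide +kernel)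

theorem m22_T47_s1 : Stab 24 (grp 24 m22_E0) [nat_lit 1] m22_V57 20160 :=
  Stab.step (k := 5) (L := (lab 24 5)) m22_hn m22_T47_s0 m22_V57_ok (grp_mono (List.subset_append_right [m22_g1, m22_g2] _)) (c := (Ch.cons (nat_lit 15) [nat_lit 1, nat_lit 3, nat_lit 5] (Ch.cons (nat_lit 13) [nat_lit 7, nat_lit 9] (Ch.cons (nat_lit 17) [nat_lit 11, nat_lit 13, nat_lit 15] (Ch.cons (nat_lit 2) [nat_lit 17, nat_lit 19, nat_lit 21, nat_lit 23, nat_lit 25, nat_lit 27, nat_lit 29] Ch.nil))))) (by decide +kernel)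

theorem m22_T47_s2 : Stab 24 (grp 24 m22_E0) [nat_lit 15, nat_lit 1] m22_V58 960 :=
  Stab.step (k := 5) (L := (lab 24 5)) m22_hn m22_T47_s1 m22_V58_ok (grp_mono (List.subset_append_right [m22_g9, m22_g5, m22_g6] _)) (c := (Ch.cons (nat_lit 13) [nat_lit 1, nat_lit 3] (Ch.cons (nat_lit 17) [nat_lit 5, nat_lit 7, nat_lit 9] (Ch.cons (nat_lit 2) [nat_lit 11, nat_lit 13, nat_lit 15, nat_lit 17, nat_lit 19, nat_lit 21, nat_lit 23] Ch.nil)))) (by decide +kernel)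

theorem m22_T47_s3 : Stab 24 (grp 24 m22_E0) [nat_lit 13, nat_lit 15, nat_lit 1] m22_V59 48 :=
  Stab.step (k := 5) (L := (lab 24 5)) m22_hn m22_T47_s2 m22_V59_ok (grp_mono (List.subset_append_right [m22_g12, m22_g13] _)) (c := (Ch.cons (nat_lit 17) [nat_lit 1, nat_lit 3, nat_lit 5] (Ch.cons (nat_lit 2) [nat_lit 7, nat_lit 9, nat_lit 11, nat_lit 13, nat_lit 15, nat_lit 17, nat_lit 19] Ch.nil))) (by decide +kernel)

theorem m22_T47_s4 : Stab 24 (grp 24 m22_E0) [nat_lit 17, nat_lit 13, nat_lit 15, nat_lit 1] m22_V60 16 :=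
  Stab.step (k := 5) (L := (lab 24 5)) m22_hn m22_T47_s3 m22_V60_ok (grp_mono (List.subset_append_right [m22_g19, m22_g18, m22_g20] _)) (c := (Ch.cons (nat_lit 2) [nat_lit 1, nat_lit 3, nat_lit 5, nat_lit 7, nat_lit 9, nat_lit 11, nat_lit 13] Ch.nil)) (by decide +kernel)

theorem m22_T47_s5 : Stab 24 (grp 24 m22_E0) [nat_lit 2, nat_lit 17, nat_lit 13, nat_lit 15, nat_lit 1] m22_V61 1 :=
  Stab.step (k := 5) (L := (lab 24 5)) m22_hn m22_T47_s4 m22_V61_ok (grp_mono (List.subset_append_right [m22_g31, m22_g32, m22_g27, m22_g33, m22_g25, m22_g26, m22_g28] _)) (c := Ch.nil) (by decide +kernel)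

theorem m22_g12_m22_T47 : Net.toPerm 24 m22_g12 ∈ (grp 24 m22_E0) :=
  m22_T47_s2.le (toPerm_mem_grp (E := m22_V58) (List.Mem.head _))

theorem m22_g13_m22_T47 : Net.toPerm 24 m22_g13 ∈ (grp 24 m22_E0) :=
  m22_T47_s2.le (toPerm_mem_grp (E := m22_V58) (List.Mem.tail _ (List.Mem.head _)))

theorem m22_g19_m22_T47 : Net.toPerm 24 m22_g19 ∈ (grp 24 m22_E0) :=
  m22_T47_s2.le (toPerm_mem_grp (E := m22_V58) (List.Mem.tail _ (List.Mem.tail _ (List.Mem.head _))))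

theorem m22_g18_m22_T47 : Net.toPerm 24 m22_g18 ∈ (grp 24 m22_E0) :=
  m22_T47_s2.le (toPerm_mem_grp (E := m22_V58) (List.Mem.tail _ (List.Mem.tail _ (List.Mem.tail _ (List.Mem.head _)))))

theorem m22_g20_m22_T47 : Net.toPerm 24 m22_g20 ∈ (grp 24 m22_E0) :=
  m22_T47_s2.le (toPerm_mem_grp (E := m22_V58) (List.Mem.tail _ (List.Mem.tail _ (List.Mem.tail _ (List.Mem.tail _ (List.Mem.head _))))))

theorem m22_g31_m22_T47 : Net.toPerm 24 m22_g31 ∈ (grp 24 m22_E0) :=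
  m22_T47_s2.le (toPerm_mem_grp (E := m22_V58) (List.Mem.tail _ (List.Mem.tail _ (List.Mem.tail _ (List.Mem.tail _ (List.Mem.tail _ (List.Mem.head _)))))))

theorem m22_g32_m22_T47 : Net.toPerm 24 m22_g32 ∈ (grp 24 m22_E0) :=
  m22_T47_s2.le (toPerm_mem_grp (E := m22_V58) (List.Mem.tail _ (List.Mem.tail _ (List.Mem.tail _ (List.Mem.tail _ (List.Mem.tail _ (List.Mem.tail _ (List.Mem.head _))))))))

theorem m22_g27_m22_T47 : Net.toPerm 24 m22_g27 ∈ (grp 24 m22_E0) :=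
  m22_T47_s2.le (toPerm_mem_grp (E := m22_V58) (List.Mem.tail _ (List.Mem.tail _ (List.Mem.tail _ (List.Mem.tail _ (List.Mem.tail _ (List.Mem.tail _ (List.Mem.tail _ (List.Mem.head _)))))))))

theorem m22_g33_m22_T47 : Net.toPerm 24 m22_g33 ∈ (grp 24 m22_E0) :=
  m22_T47_s2.le (toPerm_mem_grp (E := m22_V58) (List.Mem.tail _ (List.Mem.tail _ (List.Mem.tail _ (List.Mem.tail _ (List.Mem.tail _ (List.Mem.tail _ (List.Mem.tail _ (List.Mem.tail _ (List.Mem.head _))))))))))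

theorem m22_g25_m22_T47 : Net.toPerm 24 m22_g25 ∈ (grp 24 m22_E0) :=
  m22_T47_s2.le (toPerm_mem_grp (E := m22_V58) (List.Mem.tail _ (List.Mem.tail _ (List.Mem.tail _ (List.Mem.tail _ (List.Mem.tail _ (List.Mem.tail _ (List.Mem.tail _ (List.Mem.tail _ (List.Mem.tail _ (List.Mem.head _)))))))))))

theorem m22_g26_m22_T47 : Net.toPerm 24 m22_g26 ∈ (grp 24 m22_E0) :=
  m22_T47_s2.le (toPerm_mem_grp (E := m22_V58) (List.Mem.tail _ (List.Mem.tail _ (List.Mem.tail _ (List.Mem.tail _ (List.Mem.tail _ (List.Mem.tail _ (List.Mem.tail _ (List.Mem.tail _ (List.Mem.tail _ (List.Mem.tail _ (List.Mem.head _))))))))))))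

theorem m22_g28_m22_T47 : Net.toPerm 24 m22_g28 ∈ (grp 24 m22_E0) :=
  m22_T47_s2.le (toPerm_mem_grp (E := m22_V58) (List.Mem.tail _ (List.Mem.tail _ (List.Mem.tail _ (List.Mem.tail _ (List.Mem.tail _ (List.Mem.tail _ (List.Mem.tail _ (List.Mem.tail _ (List.Mem.tail _ (List.Mem.tail _ (List.Mem.tail _ (List.Mem.head _)))))))))))))

theorem m22_g9_m22_T47 : Net.toPerm 24 m22_g9 ∈ (grp 24 m22_E0) :=
  m22_T47_s1.le (toPerm_mem_grp (E := m22_V57) (List.Mem.head _))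

theorem m22_g5_m22_T47 : Net.toPerm 24 m22_g5 ∈ (grp 24 m22_E0) :=
  m22_T47_s1.le (toPerm_mem_grp (E := m22_V57) (List.Mem.tail _ (List.Mem.head _)))

theorem m22_g6_m22_T47 : Net.toPerm 24 m22_g6 ∈ (grp 24 m22_E0) :=
  m22_T47_s1.le (toPerm_mem_grp (E := m22_V57) (List.Mem.tail _ (List.Mem.tail _ (List.Mem.head _))))

theorem m22_g1_m22_T47 : Net.toPerm 24 m22_g1 ∈ (grp 24 m22_E0) :=
  m22_T47_s0.le (toPerm_mem_grp (E := m22_E0) (List.Mem.head _))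

theorem m22_g2_m22_T47 : Net.toPerm 24 m22_g2 ∈ (grp 24 m22_E0) :=
  m22_T47_s0.le (toPerm_mem_grp (E := m22_E0) (List.Mem.tail _ (List.Mem.head _)))

noncomputable def m22_T47_s5_O : ℕ := (nat_lit 0xff000000ff00f0f0f0ccccccaaaaaa000002008000002000020000000004)

theorem m22_T47_s5_F : Frame 24 (grp 24 m22_E0) 5 10 m22_T47_s5_O 1 1 :=
  IsBase.frame m22_T47_s5.isBase (by decide +kernel)

noncomputable def m22_T47_s3_O : ℕ := (nat_lit 0x8000000000010e0000000002008000002000)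

theorem m22_T47_s3_F : Frame 24 (grp 24 m22_E0) 3 6 m22_T47_s3_O 0 1 :=
  Stab.frame m22_hn m22_T47_s3 (by decide +kernel)

noncomputable def m22_T47_s0_O : ℕ := (nat_lit 0x800000000001)

theorem m22_T47_s0_F : Frame 24 (grp 24 m22_E0) 0 2 m22_T47_s0_O 0 1 :=
  Stab.frame m22_hn m22_T47_s0 (by decide +kernel)

noncomputable def m22t_c1_cnt_L : List ℕ := [0, 2, m22_T47_s0_O, 0, 0, 3, 6, m22_T47_s3_O, 0, 0, 5, 10, m22_T47_s5_O, 1, 0]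

theorem m22t_c1_cnt_P : Prob 24 5 (grp 24 m22_E0) m22t_c1_cnt_EG [m22_g48] [m22_g48] m22t_c1_K m22t_c1_cnt_L 0 0 :=
  Sym.prob m22_hn m22_hk m22t_c1_sym m22t_c1_cnt_EG_ok (grp_cons_le m22_g12_m22_T47 (grp_cons_le m22_g13_m22_T47 (grp_cons_le m22_g19_m22_T47 (grp_cons_le m22_g18_m22_T47 (grp_cons_le m22_g20_m22_T47 (grp_cons_le m22_g31_m22_T47 (grp_cons_le m22_g32_m22_T47 (grp_cons_le m22_g27_m22_T47 (grp_cons_le m22_g33_m22_T47 (grp_cons_le m22_g25_m22_T47 (grp_cons_le m22_g26_m22_T47 (grp_cons_le m22_g28_m22_T47 (grp_cons_le m22_g9_m22_T47 (grp_cons_le m22_g5_m22_T47 (grp_cons_le m22_g6_m22_T47 (grp_cons_le m22_g1_m22_T47 (grp_cons_le m22_g2_m22_T47 (grp_nil_le _)))))))))))))))))) (Frames.cons m22_T47_s0_F (Frames.cons m22_T47_s3_F (Frames.cons m22_T47_s5_F Frames.nil))) (okE_cons.2 ⟨m22_g48_ok, okE_nil _⟩) _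

noncomputable def m22t_c1_cnt_t : BT := (BT.fix (nat_lit 1) (BT.frm (nat_lit 0) (nat_lit 0) (nat_lit 0) [] (BT.pln (nat_lit 0) (nat_lit 0) (BT.dif (nat_lit 2) (nat_lit 0) (BT.pln (nat_lit 2) (nat_lit 1) (BT.dif (nat_lit 1) (nat_lit 0) (BT.br (nat_lit 0) (nat_lit 1) [nat_lit 1, nat_lit 5] (BT.kid (nat_lit 1) (nat_lit 64) (BT.dif (nat_lit 6) (nat_lit 0) (BT.dif (nat_lit 0) (nat_lit 5) (BT.dif (nat_lit 0) (nat_lit 4) (BT.br (nat_lit 0) (nat_lit 3) [nat_lit 3, nat_lit 5] (BT.dead (nat_lit 4) (BT.dif (nat_lit 10) (nat_lit 0) (BT.dif (nat_lit 0) (nat_lit 9) (BT.dif (nat_lit 0) (nat_lit 8) (BT.dif (nat_lit 0) (nat_lit 7) (BT.br (nat_lit 0) (nat_lit 4) [] (BT.dead (nat_lit 20) (BT.frm (nat_lit 1) (nat_lit 0x20a1a02) (nat_lit 0x10d1a15) [nat_lit 0, nat_lit 5, nat_lit 9] (BT.pln (nat_lit 0) (nat_lit 3) (BT.and (nat_lit 17) (nat_lit 0) (BT.br (nat_lit 0) (nat_lit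 11) [] (BT.dead (nat_lit 3) (BT.dif (nat_lit 22) (nat_lit 19) (BT.br (nat_lit 0) (nat_lit 2) [nat_lit 7, nat_lit 9, nat_lit 11, nat_lit 13] (BT.dead (nat_lit 2) (BT.frm (nat_lit 2) (nat_lit 0x1105020a1a02) (nat_lit 0xd0f05010d1a15) [nat_lit 0, nat_lit 2, nat_lit 6, nat_lit 11, nat_lit 15] (BT.pln (nat_lit 0) (nat_lit 6) (BT.img (nat_lit 1) (nat_lit 2) (BT.and (nat_lit 1) (nat_lit 0) (BT.cnt (nat_lit 0)))))) BT.nil))) (BT.dead (nat_lit 19) (BT.dif (nat_lit 22) (nat_lit 19) (BT.br (nat_lit 0) (nat_lit 2) [nat_lit 7, nat_lit 9, nat_lit 11, nat_lit 13] (BT.dead (nat_lit 2) (BT.frm (nat_lit 2) (nat_lit 0x1105020a1a02) (nat_lit 0xb06010d1a15) [nat_lit 0, nat_lit 2, nat_lit 6, nat_lit 11, nat_lit 15] (BT.pln (nat_lit 0) (nat_lit 6) (BT.img (nat_lit 1) (nat_lit 2) (BT.and (nat_lit 1) (nat_lit 0) (BT.cnt (nat_lit 0)))))) BT.nil))) (BT.dead (nat_lit 11) (BT.dif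 (nat_lit 22) (nat_lit 19) (BT.br (nat_lit 0) (nat_lit 2) [nat_lit 7, nat_lit 9, nat_lit 11, nat_lit 13] (BT.dead (nat_lit 2) (BT.frm (nat_lit 2) (nat_lit 0x1105020a1a02) (nat_lit 0xd17010d1a15) [nat_lit 0, nat_lit 2, nat_lit 6, nat_lit 11, nat_lit 15] (BT.pln (nat_lit 0) (nat_lit 6) (BT.img (nat_lit 1) (nat_lit 2) (BT.and (nat_lit 1) (nat_lit 0) (BT.cnt (nat_lit 0)))))) BT.nil))) BT.nil))))))) (BT.dead (nat_lit 19) (BT.frm (nat_lit 1) (nat_lit 0x20a1a02) (nat_lit 0x2091a15) [nat_lit 0, nat_lit 5, nat_lit 9] (BT.pln (nat_lit 0) (nat_lit 3) (BT.and (nat_lit 17) (nat_lit 0) (BT.br (nat_lit 0) (nat_lit 11) [] (BT.dead (nat_lit 11) (BT.dif (nat_lit 22) (nat_lit 19) (BT.br (nat_lit 0) (nat_lit 2) [nat_lit 7, nat_lit 9, nat_lit 11, nat_lit 13] (BT.dead (nat_lit 2) (BT.frm (nat_lit 2) (nat_lit 0x1105020a1a02) (nat_lit 0xb110602091a15) [nat_lit 0, nat_lit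 2, nat_lit 6, nat_lit 11, nat_lit 15] (BT.pln (nat_lit 0) (nat_lit 7) (BT.img (nat_lit 1) (nat_lit 2) (BT.and (nat_lit 1) (nat_lit 0) (BT.cnt (nat_lit 0)))))) BT.nil))) (BT.dead (nat_lit 20) (BT.dif (nat_lit 22) (nat_lit 19) (BT.br (nat_lit 0) (nat_lit 2) [nat_lit 7, nat_lit 9, nat_lit 11, nat_lit 13] (BT.dead (nat_lit 2) (BT.frm (nat_lit 2) (nat_lit 0x1105020a1a02) (nat_lit 0xf1502091a15) [nat_lit 0, nat_lit 2, nat_lit 6, nat_lit 11, nat_lit 15] (BT.pln (nat_lit 0) (nat_lit 5) (BT.img (nat_lit 1) (nat_lit 2) (BT.and (nat_lit 1) (nat_lit 0) (BT.cnt (nat_lit 0)))))) BT.nil))) (BT.dead (nat_lit 3) (BT.dif (nat_lit 22) (nat_lit 19) (BT.br (nat_lit 0) (nat_lit 2) [nat_lit 7, nat_lit 9, nat_lit 11, nat_lit 13] (BT.dead (nat_lit 2) (BT.frm (nat_lit 2) (nat_lit 0x1105020a1a02) (nat_lit 0xd0502091a15) [nat_lit 0, nat_lit 2, nat_lit 6, nat_lit 11, nat_lit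 15] (BT.pln (nat_lit 0) (nat_lit 5) (BT.img (nat_lit 1) (nat_lit 2) (BT.and (nat_lit 1) (nat_lit 0) (BT.cnt (nat_lit 0)))))) BT.nil))) BT.nil))))))) (BT.dead (nat_lit 11) (BT.frm (nat_lit 1) (nat_lit 0x20a1a02) (nat_lit 0x1041a15) [nat_lit 0, nat_lit 5, nat_lit 9] (BT.pln (nat_lit 0) (nat_lit 3) (BT.and (nat_lit 17) (nat_lit 0) (BT.br (nat_lit 0) (nat_lit 11) [] (BT.dead (nat_lit 19) (BT.dif (nat_lit 22) (nat_lit 19) (BT.br (nat_lit 0) (nat_lit 2) [nat_lit 7, nat_lit 9, nat_lit 11, nat_lit 13] (BT.dead (nat_lit 2) (BT.frm (nat_lit 2) (nat_lit 0x1105020a1a02) (nat_lit 0xd150501041a15) [nat_lit 0, nat_lit 2, nat_lit 6, nat_lit 11, nat_lit 15] (BT.pln (nat_lit 0) (nat_lit 5) (BT.img (nat_lit 1) (nat_lit 2) (BT.and (nat_lit 1) (nat_lit 0) (BT.cnt (nat_lit 0)))))) BT.nil))) (BT.dead (nat_lit 20) (BT.dif (nat_lit 22) (nat_lit 19) (BT.br (nat_lit 0) (nat_lit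 2) [nat_lit 7, nat_lit 9, nat_lit 11, nat_lit 13] (BT.dead (nat_lit 2) (BT.frm (nat_lit 2) (nat_lit 0x1105020a1a02) (nat_lit 0xb1501041a15) [nat_lit 0, nat_lit 2, nat_lit 6, nat_lit 11, nat_lit 15] (BT.pln (nat_lit 0) (nat_lit 5) (BT.img (nat_lit 1) (nat_lit 2) (BT.and (nat_lit 1) (nat_lit 0) (BT.cnt (nat_lit 0)))))) BT.nil))) (BT.dead (nat_lit 3) (BT.dif (nat_lit 22) (nat_lit 19) (BT.br (nat_lit 0) (nat_lit 2) [nat_lit 7, nat_lit 9, nat_lit 11, nat_lit 13] (BT.dead (nat_lit 2) (BT.frm (nat_lit 2) (nat_lit 0x1105020a1a02) (nat_lit 0x130601041a15) [nat_lit 0, nat_lit 2, nat_lit 6, nat_lit 11, nat_lit 15] (BT.pln (nat_lit 0) (nat_lit 7) (BT.img (nat_lit 1) (nat_lit 2) (BT.and (nat_lit 1) (nat_lit 0) (BT.cnt (nat_lit 0)))))) BT.nil))) BT.nil))))))) (BT.dead (nat_lit 3) (BT.frm (nat_lit 1) (nat_lit 0x20a1a02) (nat_lit 0x1111a15) [nat_lit 0, nat_lit 5,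 nat_lit 9] (BT.pln (nat_lit 0) (nat_lit 3) (BT.and (nat_lit 17) (nat_lit 0) (BT.br (nat_lit 0) (nat_lit 11) [] (BT.dead (nat_lit 20) (BT.dif (nat_lit 22) (nat_lit 19) (BT.br (nat_lit 0) (nat_lit 2) [nat_lit 7, nat_lit 9, nat_lit 11, nat_lit 13] (BT.dead (nat_lit 2) (BT.frm (nat_lit 2) (nat_lit 0x1105020a1a02) (nat_lit 0xb110501111a15) [nat_lit 0, nat_lit 2, nat_lit 6, nat_lit 11, nat_lit 15] (BT.pln (nat_lit 0) (nat_lit 5) (BT.img (nat_lit 1) (nat_lit 2) (BT.and (nat_lit 1) (nat_lit 0) (BT.cnt (nat_lit 0)))))) BT.nil))) (BT.dead (nat_lit 11) (BT.dif (nat_lit 22) (nat_lit 19) (BT.br (nat_lit 0) (nat_lit 2) [nat_lit 7, nat_lit 9, nat_lit 11, nat_lit 13] (BT.dead (nat_lit 2) (BT.frm (nat_lit 2) (nat_lit 0x1105020a1a02) (nat_lit 0xf150601111a15) [nat_lit 0, nat_lit 2, nat_lit 6, nat_lit 11, nat_lit 15] (BT.pln (nat_lit 0) (nat_lit 5) (BT.img (nat_lit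 1) (nat_lit 2) (BT.and (nat_lit 1) (nat_lit 0) (BT.cnt (nat_lit 0)))))) BT.nil))) (BT.dead (nat_lit 19) (BT.dif (nat_lit 22) (nat_lit 19) (BT.br (nat_lit 0) (nat_lit 2) [nat_lit 7, nat_lit 9, nat_lit 11, nat_lit 13] (BT.dead (nat_lit 2) (BT.frm (nat_lit 2) (nat_lit 0x1105020a1a02) (nat_lit 0xd01111a15) [nat_lit 0, nat_lit 2, nat_lit 6, nat_lit 11, nat_lit 15] (BT.pln (nat_lit 0) (nat_lit 5) (BT.img (nat_lit 1) (nat_lit 2) (BT.and (nat_lit 1) (nat_lit 0) (BT.cnt (nat_lit 0)))))) BT.nil))) BT.nil))))))) BT.nil))))))))) (BT.kid (nat_lit 3) (nat_lit 64) (BT.dif (nat_lit 10) (nat_lit 0) (BT.dif (nat_lit 0) (nat_lit 9) (BT.dif (nat_lit 0) (nat_lit 8) (BT.dif (nat_lit 0) (nat_lit 7) (BT.br (nat_lit 0) (nat_lit 4) [nat_lit 3, nat_lit 5] (BT.kid (nat_lit 4) (nat_lit 16) (BT.frm (nat_lit 1) (nat_lit 0x20a1a02) (nat_lit 0x20a1a02) [nat_lit 0, nat_lit 5, nat_lit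 9] (BT.pln (nat_lit 0) (nat_lit 3) (BT.and (nat_lit 17) (nat_lit 0) (BT.br (nat_lit 0) (nat_lit 11) [] (BT.dead (nat_lit 20) (BT.dif (nat_lit 22) (nat_lit 19) (BT.br (nat_lit 0) (nat_lit 2) [nat_lit 7, nat_lit 9, nat_lit 11, nat_lit 13] (BT.dead (nat_lit 2) (BT.frm (nat_lit 2) (nat_lit 0x1105020a1a02) (nat_lit 0xf1106020a1a02) [nat_lit 0, nat_lit 2, nat_lit 6, nat_lit 11, nat_lit 15] (BT.pln (nat_lit 0) (nat_lit 5) (BT.img (nat_lit 1) (nat_lit 2) (BT.and (nat_lit 1) (nat_lit 0) (BT.cnt (nat_lit 0)))))) BT.nil))) (BT.dead (nat_lit 19) (BT.dif (nat_lit 22) (nat_lit 19) (BT.br (nat_lit 0) (nat_lit 2) [nat_lit 7, nat_lit 9, nat_lit 11, nat_lit 13] (BT.dead (nat_lit 2) (BT.frm (nat_lit 2) (nat_lit 0x1105020a1a02) (nat_lit 0xf020a1a02) [nat_lit 0, nat_lit 2, nat_lit 6, nat_lit 11, nat_lit 15] (BT.pln (nat_lit 0) (nat_lit 5) (BT.img (nat_lit 1) (nat_lit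 2) (BT.and (nat_lit 1) (nat_lit 0) (BT.cnt (nat_lit 0)))))) BT.nil))) (BT.kid (nat_lit 11) (nat_lit 16) (BT.dif (nat_lit 22) (nat_lit 19) (BT.br (nat_lit 0) (nat_lit 2) [nat_lit 7, nat_lit 9, nat_lit 11, nat_lit 13] (BT.kid (nat_lit 2) (nat_lit 1) (BT.one (nat_lit 2) (nat_lit 0x1105020a1a02) (nat_lit 0x1105020a1a02) [nat_lit 0, nat_lit 2, nat_lit 6, nat_lit 11, nat_lit 15]) BT.nil))) BT.nil))))))) BT.nil)))))) BT.nil)))))) BT.nil))))))))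

theorem m22t_c1_cnt : Cnt 24 (grp 24 m22_E0) [m22_g48] [m22_g48] 0 0 0 0 384 :=
  BT.sound m22t_c1_cnt_P Known.nil (t := m22t_c1_cnt_t) (d := 0) (by decide +kernel)

theorem m22t_c1_ge : 384 ≤ Nat.card (grp 24 m22t_c1_K) :=
  Ch.le_card_grp (k := 5) (L := (lab 24 5)) m22_hn m22t_c1_K_ok (c := (Ch.cons (nat_lit 1) [nat_lit 1] (Ch.cons (nat_lit 4) [nat_lit 3, nat_lit 5] (Ch.cons (nat_lit 2) [nat_lit 7, nat_lit 9, nat_lit 11, nat_lit 13] Ch.nil)))) (by decide +kernel)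

theorem m22t_c1_eq : (grp 24 m22_E0) ⊓ Subgroup.centralizer {Net.toPerm 24 m22_g48} = grp 24 m22t_c1_K :=
  cent_eq m22t_c1_sym m22t_c1_cnt m22t_c1_ge

theorem m22t_c1_card : Nat.card ↥((grp 24 m22_E0) ⊓ Subgroup.centralizer {Net.toPerm 24 m22_g48}) = 384 :=
  card_cent m22t_c1_sym m22t_c1_cnt m22t_c1_ge

theorem m22t_c1_ord : orderOf (Net.toPerm 24 m22_g48) = 2 :=
  orderOf_net m22_hn m22_hk m22_g48_ok (by decide) (ps := [2]) (by set_option linter.unusedSimpArgs false in simp [Nat.primeFactorsList_ofNat]) (by decide +kernel)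

theorem m22_le65 : grp 24 m22t_c2_K ≤ grp 24 m22_E0 :=
  grp_le_of_memB m22_hn m22_hk m22_E0_ok m22t_c2_K_ok (ws := [nat_lit 0x191b100b0e05070214, nat_lit 0x191f0b170621, nat_lit 0x151b100c1d080e0202]) (by decide +kernel)

theorem m22t_c2_le : grp 24 m22t_c2_K ≤ (grp 24 m22_E0) :=
  (m22_le65.trans m22_T47_s0.le)

theorem m22t_c2_mem : Net.toPerm 24 m22_g62 ∈ (grp 24 m22_E0) :=
  m22t_c2_le (toPerm_mem_grp (E := m22t_c2_K) (List.Mem.tail _ (List.Mem.tail _ (List.Mem.head _))))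

theorem m22t_c2_sym : Sym 24 (grp 24 m22_E0) [m22_g62] m22t_c2_K 0 :=
  Sym.of_lab m22_hn m22_hk (okE_cons.2 ⟨m22_g62_ok, okE_nil _⟩) m22t_c2_K_ok m22t_c2_le (kT := 0) (by decide +kernel)

theorem m22_le67 : grp 24 m22_V66 ≤ grp 24 m22_V59 :=
  grp_le_of_memB m22_hn m22_hk m22_V59_ok m22_V66_ok (ws := [nat_lit 1]) (by decide +kernel)

theorem m22_T47_s6 : Stab 24 (grp 24 m22_E0) [nat_lit 2, nat_lit 13, nat_lit 15, nat_lit 1] m22_V66 3 :=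
  Stab.step (k := 5) (L := (lab 24 5)) m22_hn m22_T47_s3 m22_V66_ok m22_le67 (c := (Ch.cons (nat_lit 11) [nat_lit 1] Ch.nil)) (by decide +kernel)

theorem m22_T47_s7 : Stab 24 (grp 24 m22_E0) [nat_lit 11, nat_lit 2, nat_lit 13, nat_lit 15, nat_lit 1] m22_V68 1 :=
  Stab.step (k := 5) (L := (lab 24 5)) m22_hn m22_T47_s6 m22_V68_ok (grp_mono (List.subset_append_right [m22_g19] _)) (c := Ch.nil) (by decide +kernel)

noncomputable def m22_T47_s7_O : ℕ := (nat_lit 0xff000000ff00f0f0f0ccccccaaaaaa000002008000002000000004000800)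

theorem m22_T47_s7_F : Frame 24 (grp 24 m22_E0) 5 10 m22_T47_s7_O 1 1 :=
  IsBase.frame m22_T47_s7.isBase (by decide +kernel)

noncomputable def m22_T47_s6_O : ℕ := (nat_lit 0x8000000000010e0000100600204100001060410010000002008000002000000004)

theorem m22_T47_s6_F : Frame 24 (grp 24 m22_E0) 4 11 m22_T47_s6_O 0 1 :=
  Stab.frame m22_hn m22_T47_s6 (by decide +kernel)

noncomputable def m22t_c2_cnt_L : List ℕ := [0, 2, m22_T47_s0_O, 0, 0, 3, 6, m22_T47_s3_O, 0, 0, 4, 11, m22_T47_s6_O, 0, 0, 5, 10, m22_T47_s7_O, 1, 0]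

theorem m22t_c2_cnt_P : Prob 24 5 (grp 24 m22_E0) m22t_c2_cnt_EG [m22_g62] [m22_g62] m22t_c2_K m22t_c2_cnt_L 0 0 :=
  Sym.prob m22_hn m22_hk m22t_c2_sym m22t_c2_cnt_EG_ok (grp_cons_le m22_g12_m22_T47 (grp_cons_le m22_g13_m22_T47 (grp_cons_le m22_g19_m22_T47 (grp_cons_le m22_g18_m22_T47 (grp_cons_le m22_g20_m22_T47 (grp_cons_le m22_g31_m22_T47 (grp_cons_le m22_g32_m22_T47 (grp_cons_le m22_g27_m22_T47 (grp_cons_le m22_g33_m22_T47 (grp_cons_le m22_g25_m22_T47 (grp_cons_le m22_g26_m22_T47 (grp_cons_le m22_g28_m22_T47 (grp_cons_le m22_g9_m22_T47 (grp_cons_le m22_g5_m22_T47 (grp_cons_le m22_g6_m22_T47 (grp_cons_le m22_g1_m22_T47 (grp_cons_le m22_g2_m22_T47 (grp_nil_le _)))))))))))))))))) (Frames.cons m22_T47_s0_F (Frames.cons m22_T47_s3_F (Frames.cons m22_T47_s6_F (Frames.cons m22_T47_s7_F Frames.nil)))) (okE_cons.2 ⟨m22_g62_ok, okE_nil _⟩) _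

noncomputable def m22t_c2_cnt_t : BT := (BT.fix (nat_lit 1) (BT.frm (nat_lit 0) (nat_lit 0) (nat_lit 0) [] (BT.pln (nat_lit 0) (nat_lit 0) (BT.dif (nat_lit 2) (nat_lit 0) (BT.pln (nat_lit 2) (nat_lit 1) (BT.dif (nat_lit 1) (nat_lit 0) (BT.br (nat_lit 0) (nat_lit 2) [nat_lit 1, nat_lit 3] (BT.kid (nat_lit 2) (nat_lit 9) (BT.dif (nat_lit 6) (nat_lit 0) (BT.dif (nat_lit 0) (nat_lit 5) (BT.dif (nat_lit 0) (nat_lit 4) (BT.br (nat_lit 0) (nat_lit 3) [nat_lit 3] (BT.kid (nat_lit 3) (nat_lit 3) (BT.dif (nat_lit 10) (nat_lit 0) (BT.dif (nat_lit 0) (nat_lit 9) (BT.dif (nat_lit 0) (nat_lit 8) (BT.dif (nat_lit 0) (nat_lit 7) (BT.br (nat_lit 0) (nat_lit 4) [] (BT.dead (nat_lit 20) (BT.dif (nat_lit 18) (nat_lit 15) (BT.frm (nat_lit 1) (nat_lit 0x20a19022120) (nat_lit 0x10d19022120) [nat_lit 1, nat_lit 6, nat_lit 10] (BT.pln (nat_lit 0) (nat_lit 3) (BT.dif (nat_lit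 2) (nat_lit 0) (BT.dif (nat_lit 16) (nat_lit 13) (BT.dif (nat_lit 0) (nat_lit 10) (BT.dif (nat_lit 0) (nat_lit 6) (BT.dif (nat_lit 0) (nat_lit 18) (BT.frm (nat_lit 2) (nat_lit 0x70f020a19022120) (nat_lit 0xd010d19022120) [nat_lit 0, nat_lit 8, nat_lit 13, nat_lit 17] (BT.pln (nat_lit 0) (nat_lit 4) (BT.dif (nat_lit 6) (nat_lit 0) (BT.pln (nat_lit 2) (nat_lit 5) (BT.dif (nat_lit 1) (nat_lit 0) (BT.pln (nat_lit 4) (nat_lit 6) (BT.dif (nat_lit 1) (nat_lit 0) (BT.pln (nat_lit 6) (nat_lit 7) (BT.dif (nat_lit 1) (nat_lit 0) (BT.br (nat_lit 0) (nat_lit 1) [nat_lit 5] (BT.dead (nat_lit 1) (BT.frm (nat_lit 3) (nat_lit 0x5070f020a19022120) (nat_lit 0xd010d19022120) [nat_lit 0, nat_lit 10, nat_lit 18, nat_lit 23, nat_lit 27] (BT.pln (nat_lit 0) (nat_lit 7) (BT.img (nat_lit 1) (nat_lit 2) (BT.and (nat_lit 1) (nat_lit 0) (BT.cnt (nat_lit 0)))))) BT.nil)))))))))))))))))))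 (BT.kid (nat_lit 4) (nat_lit 3) (BT.dif (nat_lit 18) (nat_lit 15) (BT.frm (nat_lit 1) (nat_lit 0x20a19022120) (nat_lit 0x20a19022120) [nat_lit 1, nat_lit 6, nat_lit 10] (BT.pln (nat_lit 0) (nat_lit 3) (BT.dif (nat_lit 2) (nat_lit 0) (BT.dif (nat_lit 16) (nat_lit 13) (BT.dif (nat_lit 0) (nat_lit 10) (BT.dif (nat_lit 0) (nat_lit 6) (BT.dif (nat_lit 0) (nat_lit 18) (BT.frm (nat_lit 2) (nat_lit 0x70f020a19022120) (nat_lit 0x70f020a19022120) [nat_lit 0, nat_lit 8, nat_lit 13, nat_lit 17] (BT.pln (nat_lit 0) (nat_lit 4) (BT.dif (nat_lit 6) (nat_lit 0) (BT.pln (nat_lit 2) (nat_lit 5) (BT.dif (nat_lit 1) (nat_lit 0) (BT.pln (nat_lit 4) (nat_lit 6) (BT.dif (nat_lit 1) (nat_lit 0) (BT.pln (nat_lit 6) (nat_lit 7) (BT.dif (nat_lit 1) (nat_lit 0) (BT.br (nat_lit 0) (nat_lit 1) [nat_lit 5] (BT.kid (nat_lit 1) (nat_lit 1) (BT.one (nat_lit 3) (nat_lit 0x5070f020a19022120)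 (nat_lit 0x5070f020a19022120) [nat_lit 0, nat_lit 10, nat_lit 18, nat_lit 23, nat_lit 27]) BT.nil))))))))))))))))))) BT.nil))))))) BT.nil))))) BT.nil))))))))

theorem m22t_c2_cnt : Cnt 24 (grp 24 m22_E0) [m22_g62] [m22_g62] 0 0 0 0 36 :=
  BT.sound m22t_c2_cnt_P Known.nil (t := m22t_c2_cnt_t) (d := 0) (by decide +kernel)

theorem m22t_c2_ge : 36 ≤ Nat.card (grp 24 m22t_c2_K) :=
  Ch.le_card_grp (k := 5) (L := (lab 24 5)) m22_hn m22t_c2_K_ok (c := (Ch.cons (nat_lit 2) [nat_lit 1] (Ch.cons (nat_lit 3) [nat_lit 3] (Ch.cons (nat_lit 1) [nat_lit 5] Ch.nil)))) (by decide +kernel)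

theorem m22t_c2_eq : (grp 24 m22_E0) ⊓ Subgroup.centralizer {Net.toPerm 24 m22_g62} = grp 24 m22t_c2_K :=
  cent_eq m22t_c2_sym m22t_c2_cnt m22t_c2_ge

theorem m22t_c2_card : Nat.card ↥((grp 24 m22_E0) ⊓ Subgroup.centralizer {Net.toPerm 24 m22_g62}) = 36 :=
  card_cent m22t_c2_sym m22t_c2_cnt m22t_c2_ge

theorem m22t_c2_ord : orderOf (Net.toPerm 24 m22_g62) = 3 :=
  orderOf_net m22_hn m22_hk m22_g62_ok (by decide) (ps := [3]) (by set_option linter.unusedSimpArgs false in simp [Nat.primeFactorsList_ofNat]) (by decide +kernel)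

theorem m22_le72 : grp 24 m22t_c3_K ≤ grp 24 m22_E0 :=
  grp_le_of_memB m22_hn m22_hk m22_E0_ok m22t_c3_K_ok (ws := [nat_lit 0x151b100b15050519, nat_lit 0x1721100b050b0213, nat_lit 0x1b100d070213, nat_lit 0x15100b1b080e, nat_lit 0x190f0b15060b]) (by decide +kernel)

theorem m22t_c3_le : grp 24 m22t_c3_K ≤ (grp 24 m22_E0) :=
  (m22_le72.trans m22_T47_s0.le)

theorem m22t_c3_mem : Net.toPerm 24 m22_g69 ∈ (grp 24 m22_E0) :=
  m22t_c3_le (toPerm_mem_grp (E := m22t_c3_K) (List.Mem.head _))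

theorem m22t_c3_sym : Sym 24 (grp 24 m22_E0) [m22_g69] m22t_c3_K 0 :=
  Sym.of_lab m22_hn m22_hk (okE_cons.2 ⟨m22_g69_ok, okE_nil _⟩) m22t_c3_K_ok m22t_c3_le (kT := 0) (by decide +kernel)

noncomputable def m22t_c3_cnt_L : List ℕ := [5, 10, m22_T47_s5_O, 1, 0]

theorem m22t_c3_cnt_P : Prob 24 5 (grp 24 m22_E0) m22t_c3_cnt_EG [m22_g69] [m22_g69] m22t_c3_K m22t_c3_cnt_L 0 0 :=
  Sym.prob m22_hn m22_hk m22t_c3_sym m22t_c3_cnt_EG_ok (grp_cons_le m22_g31_m22_T47 (grp_cons_le m22_g32_m22_T47 (grp_cons_le m22_g27_m22_T47 (grp_cons_le m22_g33_m22_T47 (grp_cons_le m22_g25_m22_T47 (grp_cons_le m22_g26_m22_T47 (grp_cons_le m22_g28_m22_T47 (grp_cons_le m22_g19_m22_T47 (grp_cons_le m22_g18_m22_T47 (grp_cons_le m22_g20_m22_T47 (grp_cons_le m22_g12_m22_T47 (grp_cons_le m22_g13_m22_T47 (grp_cons_le m22_g9_m22_T47 (grp_cons_le m22_g5_m22_T47 (grp_cons_le m22_g6_m22_T47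 (grp_cons_le m22_g1_m22_T47 (grp_cons_le m22_g2_m22_T47 (grp_nil_le _)))))))))))))))))) (Frames.cons m22_T47_s5_F Frames.nil) (okE_cons.2 ⟨m22_g69_ok, okE_nil _⟩) _

noncomputable def m22t_c3_cnt_t : BT := (BT.fix (nat_lit 257) (BT.fix (nat_lit 1) (BT.dif (nat_lit 1) (nat_lit 0) (BT.br (nat_lit 0) (nat_lit 4) [nat_lit 3] (BT.kid (nat_lit 4) (nat_lit 8) (BT.dif (nat_lit 1) (nat_lit 0) (BT.img (nat_lit 1) (nat_lit 1) (BT.dif (nat_lit 1) (nat_lit 0) (BT.br (nat_lit 0) (nat_lit 11) [nat_lit 5] (BT.kid (nat_lit 11) (nat_lit 4) (BT.dif (nat_lit 10) (nat_lit 7) (BT.br (nat_lit 0) (nat_lit 2) [nat_lit 7, nat_lit 9] (BT.dead (nat_lit 12) (BT.dif (nat_lit 5) (nat_lit 2) (BT.dif (nat_lit 0) (nat_lit 5) (BT.frm (nat_lit 0) (nat_lit 0x70f1b2016) (nat_lit 0x3070f1b2016) [nat_lit 2, nat_lit 0, nat_lit 4, nat_lit 6, nat_lit 8] (BT.pln (nat_lit 0) (nat_lit 7) (BT.img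 (nat_lit 1) (nat_lit 4) (BT.and (nat_lit 1) (nat_lit 0) (BT.cnt (nat_lit 0)))))))) (BT.dead (nat_lit 7) (BT.dif (nat_lit 5) (nat_lit 2) (BT.dif (nat_lit 0) (nat_lit 5) (BT.frm (nat_lit 0) (nat_lit 0x70f1b2016) (nat_lit 0x30f1b2016) [nat_lit 2, nat_lit 0, nat_lit 4, nat_lit 6, nat_lit 8] (BT.pln (nat_lit 0) (nat_lit 5) (BT.img (nat_lit 1) (nat_lit 4) (BT.and (nat_lit 1) (nat_lit 0) (BT.cnt (nat_lit 0)))))))) (BT.dead (nat_lit 6) (BT.dif (nat_lit 5) (nat_lit 2) (BT.dif (nat_lit 0) (nat_lit 5) (BT.frm (nat_lit 0) (nat_lit 0x70f1b2016) (nat_lit 0x50f1b2016) [nat_lit 2, nat_lit 0, nat_lit 4, nat_lit 6, nat_lit 8] (BT.pln (nat_lit 0) (nat_lit 5) (BT.img (nat_lit 1) (nat_lit 4) (BT.and (nat_lit 1) (nat_lit 0) (BT.cnt (nat_lit 0)))))))) (BT.kid (nat_lit 2) (nat_lit 1) (BT.dif (nat_lit 5) (nat_lit 2) (BT.dif (nat_lit 0) (nat_lit 5) (BT.one (nat_lit 0) (nat_lit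 0x70f1b2016) (nat_lit 0x70f1b2016) [nat_lit 2, nat_lit 0, nat_lit 4, nat_lit 6, nat_lit 8]))) BT.nil)))))) BT.nil))))) BT.nil)))))

theorem m22t_c3_cnt : Cnt 24 (grp 24 m22_E0) [m22_g69] [m22_g69] 0 0 0 0 32 :=
  BT.sound m22t_c3_cnt_P Known.nil (t := m22t_c3_cnt_t) (d := 0) (by decide +kernel)

theorem m22t_c3_ge : 32 ≤ Nat.card (grp 24 m22t_c3_K) :=
  Ch.le_card_grp (k := 5) (L := (lab 24 5)) m22_hn m22t_c3_K_ok (c := (Ch.cons (nat_lit 4) [nat_lit 1, nat_lit 3] (Ch.cons (nat_lit 11) [nat_lit 5] (Ch.cons (nat_lit 2) [nat_lit 7, nat_lit 9] Ch.nil)))) (by decide +kernel)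

theorem m22t_c3_eq : (grp 24 m22_E0) ⊓ Subgroup.centralizer {Net.toPerm 24 m22_g69} = grp 24 m22t_c3_K :=
  cent_eq m22t_c3_sym m22t_c3_cnt m22t_c3_ge

theorem m22t_c3_card : Nat.card ↥((grp 24 m22_E0) ⊓ Subgroup.centralizer {Net.toPerm 24 m22_g69}) = 32 :=
  card_cent m22t_c3_sym m22t_c3_cnt m22t_c3_ge

theorem m22t_c3_ord : orderOf (Net.toPerm 24 m22_g69) = 4 :=
  orderOf_net m22_hn m22_hk m22_g69_ok (by decide) (ps := [2]) (by set_option linter.unusedSimpArgs false in simp [Nat.primeFactorsList_ofNat]) (by decide +kernel)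

theorem m22_le77 : grp 24 m22t_c4_K ≤ grp 24 m22_E0 :=
  grp_le_of_memB m22_hn m22_hk m22_E0_ok m22t_c4_K_ok (ws := [nat_lit 0x170b0b10061f0105, nat_lit 0x171f0f0b0b0f050213, nat_lit 0x151b100b0b060104, nat_lit 0x1d0f0d050107]) (by decide +kernel)

theorem m22t_c4_le : grp 24 m22t_c4_K ≤ (grp 24 m22_E0) :=
  (m22_le77.trans m22_T47_s0.le)

theorem m22t_c4_mem : Net.toPerm 24 m22_g73 ∈ (grp 24 m22_E0) :=
  m22t_c4_le (toPerm_mem_grp (E := m22t_c4_K) (List.Mem.head _))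

theorem m22t_c4_sym : Sym 24 (grp 24 m22_E0) [m22_g73] m22t_c4_K 0 :=
  Sym.of_lab m22_hn m22_hk (okE_cons.2 ⟨m22_g73_ok, okE_nil _⟩) m22t_c4_K_ok m22t_c4_le (kT := 0) (by decide +kernel)

noncomputable def m22t_c4_cnt_L : List ℕ := [5, 10, m22_T47_s5_O, 1, 0]

theorem m22t_c4_cnt_P : Prob 24 5 (grp 24 m22_E0) m22t_c4_cnt_EG [m22_g73] [m22_g73] m22t_c4_K m22t_c4_cnt_L 0 0 :=
  Sym.prob m22_hn m22_hk m22t_c4_sym m22t_c4_cnt_EG_ok (grp_cons_le m22_g31_m22_T47 (grp_cons_le m22_g32_m22_T47 (grp_cons_le m22_g27_m22_T47 (grp_cons_le m22_g33_m22_T47 (grp_cons_le m22_g25_m22_T47 (grp_cons_le m22_g26_m22_T47 (grp_cons_le m22_g28_m22_T47 (grp_cons_le m22_g19_m22_T47 (grp_cons_le m22_g18_m22_T47 (grp_cons_le m22_g20_m22_T47 (grp_cons_le m22_g12_m22_T47 (grp_cons_le m22_g13_m22_T47 (grp_cons_le m22_g9_m22_T47 (grp_cons_le m22_g5_m22_T47 (grp_cons_le m22_g6_m22_T47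 (grp_cons_le m22_g1_m22_T47 (grp_cons_le m22_g2_m22_T47 (grp_nil_le _)))))))))))))))))) (Frames.cons m22_T47_s5_F Frames.nil) (okE_cons.2 ⟨m22_g73_ok, okE_nil _⟩) _

noncomputable def m22t_c4_cnt_t : BT := (BT.fix (nat_lit 257) (BT.fix (nat_lit 1) (BT.dif (nat_lit 1) (nat_lit 0) (BT.br (nat_lit 0) (nat_lit 10) [nat_lit 1, nat_lit 3] (BT.kid (nat_lit 10) (nat_lit 4) (BT.dif (nat_lit 1) (nat_lit 0) (BT.img (nat_lit 1) (nat_lit 1) (BT.dif (nat_lit 1) (nat_lit 0) (BT.br (nat_lit 0) (nat_lit 14) [] (BT.dead (nat_lit 19) (BT.dif (nat_lit 10) (nat_lit 7) (BT.br (nat_lit 0) (nat_lit 1) [nat_lit 5, nat_lit 7] (BT.dead (nat_lit 4) (BT.dif (nat_lit 5) (nat_lit 2) (BT.dif (nat_lit 0) (nat_lit 5) (BT.frm (nat_lit 0) (nat_lit 0x307161a152101) (nat_lit 0x107160b1a152101) [nat_lit 2, nat_lit 0, nat_lit 4, nat_lit 6, nat_lit 8] (BT.pln (nat_lit 0) (nat_lit 5) (BT.img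 (nat_lit 1) (nat_lit 4) (BT.img (nat_lit 1) (nat_lit 0) (BT.and (nat_lit 2) (nat_lit 0) (BT.cnt (nat_lit 0))))))))) (BT.dead (nat_lit 2) (BT.dif (nat_lit 5) (nat_lit 2) (BT.dif (nat_lit 0) (nat_lit 5) (BT.frm (nat_lit 0) (nat_lit 0x307161a152101) (nat_lit 0x30d160b1a152101) [nat_lit 2, nat_lit 0, nat_lit 4, nat_lit 6, nat_lit 8] (BT.pln (nat_lit 0) (nat_lit 5) (BT.img (nat_lit 1) (nat_lit 4) (BT.and (nat_lit 1) (nat_lit 0) (BT.cnt (nat_lit 0)))))))) (BT.dead (nat_lit 1) (BT.dif (nat_lit 5) (nat_lit 2) (BT.dif (nat_lit 0) (nat_lit 5) (BT.frm (nat_lit 0) (nat_lit 0x307161a152101) (nat_lit 0x307160b1a152101) [nat_lit 2, nat_lit 0, nat_lit 4, nat_lit 6, nat_lit 8] (BT.pln (nat_lit 0) (nat_lit 5) (BT.img (nat_lit 1) (nat_lit 4) (BT.and (nat_lit 1) (nat_lit 0) (BT.cnt (nat_lit 0)))))))) (BT.dead (nat_lit 7) (BT.dif (nat_lit 5) (nat_lit 2) (BT.dif (nat_lit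 0) (nat_lit 5) (BT.frm (nat_lit 0) (nat_lit 0x307161a152101) (nat_lit 0xd160b1a152101) [nat_lit 2, nat_lit 0, nat_lit 4, nat_lit 6, nat_lit 8] (BT.pln (nat_lit 0) (nat_lit 5) (BT.img (nat_lit 1) (nat_lit 4) (BT.and (nat_lit 1) (nat_lit 0) (BT.cnt (nat_lit 0)))))))) BT.nil)))))) (BT.kid (nat_lit 14) (nat_lit 4) (BT.dif (nat_lit 10) (nat_lit 7) (BT.br (nat_lit 0) (nat_lit 1) [nat_lit 5, nat_lit 7] (BT.dead (nat_lit 4) (BT.dif (nat_lit 5) (nat_lit 2) (BT.dif (nat_lit 0) (nat_lit 5) (BT.frm (nat_lit 0) (nat_lit 0x307161a152101) (nat_lit 0x305161a152101) [nat_lit 2, nat_lit 0, nat_lit 4, nat_lit 6, nat_lit 8] (BT.pln (nat_lit 0) (nat_lit 8) (BT.img (nat_lit 1) (nat_lit 4) (BT.and (nat_lit 1) (nat_lit 0) (BT.cnt (nat_lit 0)))))))) (BT.dead (nat_lit 2) (BT.dif (nat_lit 5) (nat_lit 2) (BT.dif (nat_lit 0) (nat_lit 5) (BT.frm (nat_lit 0) (nat_lit 0x307161a152101)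 (nat_lit 0x30b161a152101) [nat_lit 2, nat_lit 0, nat_lit 4, nat_lit 6, nat_lit 8] (BT.pln (nat_lit 0) (nat_lit 6) (BT.img (nat_lit 1) (nat_lit 4) (BT.and (nat_lit 1) (nat_lit 0) (BT.cnt (nat_lit 0)))))))) (BT.dead (nat_lit 7) (BT.dif (nat_lit 5) (nat_lit 2) (BT.dif (nat_lit 0) (nat_lit 5) (BT.frm (nat_lit 0) (nat_lit 0x307161a152101) (nat_lit 0xd161a152101) [nat_lit 2, nat_lit 0, nat_lit 4, nat_lit 6, nat_lit 8] (BT.pln (nat_lit 0) (nat_lit 6) (BT.img (nat_lit 1) (nat_lit 4) (BT.img (nat_lit 1) (nat_lit 0) (BT.img (nat_lit 1) (nat_lit 0) (BT.and (nat_lit 3) (nat_lit 0) (BT.cnt (nat_lit 0)))))))))) (BT.kid (nat_lit 1) (nat_lit 1) (BT.dif (nat_lit 5) (nat_lit 2) (BT.dif (nat_lit 0) (nat_lit 5) (BT.one (nat_lit 0) (nat_lit 0x307161a152101) (nat_lit 0x307161a152101) [nat_lit 2, nat_lit 0, nat_lit 4, nat_lit 6, nat_lit 8]))) BT.nil)))))) BT.nil))))))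 BT.nil)))))

theorem m22t_c4_cnt : Cnt 24 (grp 24 m22_E0) [m22_g73] [m22_g73] 0 0 0 0 16 :=
  BT.sound m22t_c4_cnt_P Known.nil (t := m22t_c4_cnt_t) (d := 0) (by decide +kernel)

theorem m22t_c4_ge : 16 ≤ Nat.card (grp 24 m22t_c4_K) :=
  Ch.le_card_grp (k := 5) (L := (lab 24 5)) m22_hn m22t_c4_K_ok (c := (Ch.cons (nat_lit 10) [nat_lit 1, nat_lit 3] (Ch.cons (nat_lit 1) [nat_lit 5, nat_lit 7] Ch.nil))) (by decide +kernel)

theorem m22t_c4_eq : (grp 24 m22_E0) ⊓ Subgroup.centralizer {Net.toPerm 24 m22_g73} = grp 24 m22t_c4_K :=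
  cent_eq m22t_c4_sym m22t_c4_cnt m22t_c4_ge

theorem m22t_c4_card : Nat.card ↥((grp 24 m22_E0) ⊓ Subgroup.centralizer {Net.toPerm 24 m22_g73}) = 16 :=
  card_cent m22t_c4_sym m22t_c4_cnt m22t_c4_ge

theorem m22t_c4_ord : orderOf (Net.toPerm 24 m22_g73) = 4 :=
  orderOf_net m22_hn m22_hk m22_g73_ok (by decide) (ps := [2]) (by set_option linter.unusedSimpArgs false in simp [Nat.primeFactorsList_ofNat]) (by decide +kernel)

theorem m22_le79 : grp 24 m22t_c5_K ≤ grp 24 m22_E0 :=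
  grp_le_of_memB m22_hn m22_hk m22_E0_ok m22t_c5_K_ok (ws := [nat_lit 0x191f0b0b080207]) (by decide +kernel)

theorem m22t_c5_le : grp 24 m22t_c5_K ≤ (grp 24 m22_E0) :=
  (m22_le79.trans m22_T47_s0.le)

theorem m22t_c5_mem : Net.toPerm 24 m22_g78 ∈ (grp 24 m22_E0) :=
  m22t_c5_le (toPerm_mem_grp (E := m22t_c5_K) (List.Mem.head _))

theorem m22t_c5_sym : Sym 24 (grp 24 m22_E0) [m22_g78] m22t_c5_K 0 :=
  Sym.of_lab m22_hn m22_hk (okE_cons.2 ⟨m22_g78_ok, okE_nil _⟩) m22t_c5_K_ok m22t_c5_le (kT := 0) (by decide +kernel)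

noncomputable def m22t_c5_cnt_L : List ℕ := [0, 2, m22_T47_s0_O, 0, 0, 3, 6, m22_T47_s3_O, 0, 0, 4, 11, m22_T47_s6_O, 0, 0, 5, 10, m22_T47_s7_O, 1, 0]

theorem m22t_c5_cnt_P : Prob 24 5 (grp 24 m22_E0) m22t_c5_cnt_EG [m22_g78] [m22_g78] m22t_c5_K m22t_c5_cnt_L 0 0 :=
  Sym.prob m22_hn m22_hk m22t_c5_sym m22t_c5_cnt_EG_ok (grp_cons_le m22_g12_m22_T47 (grp_cons_le m22_g13_m22_T47 (grp_cons_le m22_g19_m22_T47 (grp_cons_le m22_g18_m22_T47 (grp_cons_le m22_g20_m22_T47 (grp_cons_le m22_g31_m22_T47 (grp_cons_le m22_g32_m22_T47 (grp_cons_le m22_g27_m22_T47 (grp_cons_le m22_g33_m22_T47 (grp_cons_le m22_g25_m22_T47 (grp_cons_le m22_g26_m22_T47 (grp_cons_le m22_g28_m22_T47 (grp_cons_le m22_g9_m22_T47 (grp_cons_le m22_g5_m22_T47 (grp_cons_le m22_g6_m22_T47 (grp_cons_le m22_g1_m22_T47 (grp_cons_le m22_g2_m22_T47 (grp_nil_le _)))))))))))))))))) (Frames.cons m22_T47_s0_F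 (Frames.cons m22_T47_s3_F (Frames.cons m22_T47_s6_F (Frames.cons m22_T47_s7_F Frames.nil)))) (okE_cons.2 ⟨m22_g78_ok, okE_nil _⟩) _

noncomputable def m22t_c5_cnt_t : BT := (BT.fix (nat_lit 1) (BT.frm (nat_lit 0) (nat_lit 0) (nat_lit 0) [] (BT.pln (nat_lit 0) (nat_lit 0) (BT.dif (nat_lit 2) (nat_lit 0) (BT.pln (nat_lit 2) (nat_lit 1) (BT.dif (nat_lit 1) (nat_lit 0) (BT.br (nat_lit 0) (nat_lit 3) [] (BT.dead (nat_lit 19) (BT.dif (nat_lit 9) (nat_lit 6) (BT.br (nat_lit 0) (nat_lit 1) [nat_lit 1] (BT.dead (nat_lit 1) (BT.dif (nat_lit 5) (nat_lit 2) (BT.dif (nat_lit 0) (nat_lit 5) (BT.frm (nat_lit 1) (nat_lit 0x1a022009) (nat_lit 0x21519021f1f1f) [nat_lit 2, nat_lit 0, nat_lit 4] (BT.pln (nat_lit 0) (nat_lit 3) (BT.img (nat_lit 1) (nat_lit 0) (BT.img (nat_lit 1) (nat_lit 0) (BT.img (nat_lit 1) (nat_lit 6) (BT.frm (nat_lit 2) (nat_lit 0x1a022009) (nat_lit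 0xa021519021f1f1f) [nat_lit 0, nat_lit 7, nat_lit 5, nat_lit 9] (BT.pln (nat_lit 0) (nat_lit 4) (BT.dif (nat_lit 3) (nat_lit 0) (BT.pln (nat_lit 2) (nat_lit 5) (BT.dif (nat_lit 1) (nat_lit 0) (BT.frm (nat_lit 3) (nat_lit 0x1a022009) (nat_lit 0x50a021519021f1f1f) [nat_lit 0, nat_lit 5, nat_lit 12, nat_lit 10, nat_lit 14] (BT.pln (nat_lit 0) (nat_lit 5) (BT.img (nat_lit 1) (nat_lit 7) (BT.img (nat_lit 1) (nat_lit 0) (BT.and (nat_lit 2) (nat_lit 0) (BT.cnt (nat_lit 0))))))))))))))))))) (BT.dead (nat_lit 2) (BT.img (nat_lit 1) (nat_lit 0) (BT.dif (nat_lit 6) (nat_lit 3) (BT.dif (nat_lit 0) (nat_lit 6) (BT.frm (nat_lit 2) (nat_lit 0x1a022009) (nat_lit 0x70901010619021f1f1f) [nat_lit 2, nat_lit 3, nat_lit 0, nat_lit 5] (BT.pln (nat_lit 0) (nat_lit 6) (BT.img (nat_lit 1) (nat_lit 4) (BT.and (nat_lit 1) (nat_lit 0) (BT.cnt (nat_lit 0))))))))) (BT.dead (nat_lit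 9) (BT.img (nat_lit 1) (nat_lit 0) (BT.dif (nat_lit 6) (nat_lit 3) (BT.dif (nat_lit 0) (nat_lit 6) (BT.frm (nat_lit 2) (nat_lit 0x1a022009) (nat_lit 0x9130319021f1f1f) [nat_lit 2, nat_lit 3, nat_lit 0, nat_lit 5] (BT.pln (nat_lit 0) (nat_lit 4) (BT.img (nat_lit 1) (nat_lit 4) (BT.and (nat_lit 1) (nat_lit 0) (BT.cnt (nat_lit 0))))))))) (BT.dead (nat_lit 4) (BT.img (nat_lit 1) (nat_lit 0) (BT.dif (nat_lit 6) (nat_lit 3) (BT.dif (nat_lit 0) (nat_lit 6) (BT.frm (nat_lit 2) (nat_lit 0x1a022009) (nat_lit 0xf010619021f1f1f) [nat_lit 2, nat_lit 3, nat_lit 0, nat_lit 5] (BT.pln (nat_lit 0) (nat_lit 5) (BT.img (nat_lit 1) (nat_lit 4) (BT.and (nat_lit 1) (nat_lit 0) (BT.cnt (nat_lit 0))))))))) BT.nil)))))) (BT.kid (nat_lit 3) (nat_lit 5) (BT.dif (nat_lit 9) (nat_lit 6) (BT.br (nat_lit 0) (nat_lit 1) [nat_lit 1] (BT.dead (nat_lit 9) (BT.img (nat_lit 1) (nat_lit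 0) (BT.dif (nat_lit 6) (nat_lit 3) (BT.dif (nat_lit 0) (nat_lit 6) (BT.frm (nat_lit 2) (nat_lit 0x1a022009) (nat_lit 0x91301061a022009) [nat_lit 2, nat_lit 3, nat_lit 0, nat_lit 5] (BT.pln (nat_lit 0) (nat_lit 6) (BT.img (nat_lit 1) (nat_lit 4) (BT.and (nat_lit 1) (nat_lit 0) (BT.cnt (nat_lit 0))))))))) (BT.dead (nat_lit 2) (BT.img (nat_lit 1) (nat_lit 0) (BT.dif (nat_lit 6) (nat_lit 3) (BT.dif (nat_lit 0) (nat_lit 6) (BT.frm (nat_lit 2) (nat_lit 0x1a022009) (nat_lit 0x70f020a1a022009) [nat_lit 2, nat_lit 3, nat_lit 0, nat_lit 5] (BT.pln (nat_lit 0) (nat_lit 4) (BT.img (nat_lit 1) (nat_lit 4) (BT.and (nat_lit 1) (nat_lit 0) (BT.cnt (nat_lit 0))))))))) (BT.dead (nat_lit 4) (BT.img (nat_lit 1) (nat_lit 0) (BT.dif (nat_lit 6) (nat_lit 3) (BT.dif (nat_lit 0) (nat_lit 6) (BT.frm (nat_lit 2) (nat_lit 0x1a022009) (nat_lit 0x101051a022009) [nat_lit 2, nat_lit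 3, nat_lit 0, nat_lit 5] (BT.pln (nat_lit 0) (nat_lit 5) (BT.img (nat_lit 1) (nat_lit 4) (BT.and (nat_lit 1) (nat_lit 0) (BT.cnt (nat_lit 0))))))))) (BT.kid (nat_lit 1) (nat_lit 1) (BT.dif (nat_lit 5) (nat_lit 2) (BT.dif (nat_lit 0) (nat_lit 5) (BT.frm (nat_lit 1) (nat_lit 0x1a022009) (nat_lit 0x1a022009) [nat_lit 2, nat_lit 0, nat_lit 4] (BT.pln (nat_lit 0) (nat_lit 3) (BT.img (nat_lit 1) (nat_lit 0) (BT.img (nat_lit 1) (nat_lit 0) (BT.img (nat_lit 1) (nat_lit 6) (BT.frm (nat_lit 2) (nat_lit 0x1a022009) (nat_lit 0x1a022009) [nat_lit 0, nat_lit 7, nat_lit 5, nat_lit 9] (BT.pln (nat_lit 0) (nat_lit 4) (BT.dif (nat_lit 3) (nat_lit 0) (BT.pln (nat_lit 2) (nat_lit 5) (BT.dif (nat_lit 1) (nat_lit 0) (BT.one (nat_lit 3) (nat_lit 0x1a022009) (nat_lit 0x1a022009) [nat_lit 0, nat_lit 5, nat_lit 12, nat_lit 10, nat_lit 14]))))))))))))) BT.nil)))))) BT.nil)))))))))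

theorem m22t_c5_cnt : Cnt 24 (grp 24 m22_E0) [m22_g78] [m22_g78] 0 0 0 0 5 :=
  BT.sound m22t_c5_cnt_P Known.nil (t := m22t_c5_cnt_t) (d := 0) (by decide +kernel)

theorem m22t_c5_ge : 5 ≤ Nat.card (grp 24 m22t_c5_K) :=
  Ch.le_card_grp (k := 5) (L := (lab 24 5)) m22_hn m22t_c5_K_ok (c := (Ch.cons (nat_lit 1) [nat_lit 1] Ch.nil)) (by decide +kernel)

theorem m22t_c5_eq : (grp 24 m22_E0) ⊓ Subgroup.centralizer {Net.toPerm 24 m22_g78} = grp 24 m22t_c5_K :=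
  cent_eq m22t_c5_sym m22t_c5_cnt m22t_c5_ge

theorem m22t_c5_card : Nat.card ↥((grp 24 m22_E0) ⊓ Subgroup.centralizer {Net.toPerm 24 m22_g78}) = 5 :=
  card_cent m22t_c5_sym m22t_c5_cnt m22t_c5_ge

theorem m22t_c5_ord : orderOf (Net.toPerm 24 m22_g78) = 5 :=
  orderOf_net m22_hn m22_hk m22_g78_ok (by decide) (ps := [5]) (by set_option linter.unusedSimpArgs false in simp [Nat.primeFactorsList_ofNat]) (by decide +kernel)

theorem m22_le82 : grp 24 m22t_c6_K ≤ grp 24 m22_E0 :=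
  grp_le_of_memB m22_hn m22_hk m22_E0_ok m22t_c6_K_ok (ws := [nat_lit 0x191f0b10050e0213, nat_lit 0x1d100b01]) (by decide +kernel)

theorem m22t_c6_le : grp 24 m22t_c6_K ≤ (grp 24 m22_E0) :=
  (m22_le82.trans m22_T47_s0.le)

theorem m22t_c6_mem : Net.toPerm 24 m22_g80 ∈ (grp 24 m22_E0) :=
  m22t_c6_le (toPerm_mem_grp (E := m22t_c6_K) (List.Mem.head _))

theorem m22t_c6_sym : Sym 24 (grp 24 m22_E0) [m22_g80] m22t_c6_K 0 :=
  Sym.of_lab m22_hn m22_hk (okE_cons.2 ⟨m22_g80_ok, okE_nil _⟩) m22t_c6_K_ok m22t_c6_le (kT := 0) (by decide +kernel)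

noncomputable def m22t_c6_cnt_L : List ℕ := [3, 6, m22_T47_s3_O, 0, 0, 5, 10, m22_T47_s5_O, 1, 0]

theorem m22t_c6_cnt_P : Prob 24 5 (grp 24 m22_E0) m22t_c6_cnt_EG [m22_g80] [m22_g80] m22t_c6_K m22t_c6_cnt_L 0 0 :=
  Sym.prob m22_hn m22_hk m22t_c6_sym m22t_c6_cnt_EG_ok (grp_cons_le m22_g12_m22_T47 (grp_cons_le m22_g13_m22_T47 (grp_cons_le m22_g19_m22_T47 (grp_cons_le m22_g18_m22_T47 (grp_cons_le m22_g20_m22_T47 (grp_cons_le m22_g31_m22_T47 (grp_cons_le m22_g32_m22_T47 (grp_cons_le m22_g27_m22_T47 (grp_cons_le m22_g33_m22_T47 (grp_cons_le m22_g25_m22_T47 (grp_cons_le m22_g26_m22_T47 (grp_cons_le m22_g28_m22_T47 (grp_cons_le m22_g9_m22_T47 (grp_cons_le m22_g5_m22_T47 (grp_cons_le m22_g6_m22_T47 (grp_cons_le m22_g1_m22_T47 (grp_cons_le m22_g2_m22_T47 (grp_nil_le _)))))))))))))))))) (Frames.cons m22_T47_s3_F (Frames.cons m22_T47_s5_F Frames.nil)) (okE_cons.2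 ⟨m22_g80_ok, okE_nil _⟩) _

noncomputable def m22t_c6_cnt_t : BT := (BT.fix (nat_lit 65793) (BT.dif (nat_lit 3) (nat_lit 0) (BT.fix (nat_lit 257) (BT.dif (nat_lit 1) (nat_lit 0) (BT.br (nat_lit 0) (nat_lit 1) [nat_lit 1, nat_lit 3] (BT.kid (nat_lit 1) (nat_lit 1) (BT.img (nat_lit 1) (nat_lit 0) (BT.img (nat_lit 1) (nat_lit 0) (BT.img (nat_lit 1) (nat_lit 0) (BT.frm (nat_lit 0) (nat_lit 0x2091a02) (nat_lit 0x2091a02) [nat_lit 1, nat_lit 2, nat_lit 3] (BT.pln (nat_lit 0) (nat_lit 3) (BT.and (nat_lit 7) (nat_lit 0) (BT.one (nat_lit 1) (nat_lit 0x110602091a02) (nat_lit 0x110602091a02) [nat_lit 3, nat_lit 0, nat_lit 4, nat_lit 5, nat_lit 6]))))))) BT.nil))))))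

theorem m22t_c6_cnt : Cnt 24 (grp 24 m22_E0) [m22_g80] [m22_g80] 0 0 0 0 12 :=
  BT.sound m22t_c6_cnt_P Known.nil (t := m22t_c6_cnt_t) (d := 0) (by decide +kernel)

theorem m22t_c6_ge : 12 ≤ Nat.card (grp 24 m22t_c6_K) :=
  Ch.le_card_grp (k := 5) (L := (lab 24 5)) m22_hn m22t_c6_K_ok (c := (Ch.cons (nat_lit 1) [nat_lit 1, nat_lit 3] Ch.nil)) (by decide +kernel)

theorem m22t_c6_eq : (grp 24 m22_E0) ⊓ Subgroup.centralizer {Net.toPerm 24 m22_g80} = grp 24 m22t_c6_K :=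
  cent_eq m22t_c6_sym m22t_c6_cnt m22t_c6_ge

theorem m22t_c6_card : Nat.card ↥((grp 24 m22_E0) ⊓ Subgroup.centralizer {Net.toPerm 24 m22_g80}) = 12 :=
  card_cent m22t_c6_sym m22t_c6_cnt m22t_c6_ge

theorem m22t_c6_ord : orderOf (Net.toPerm 24 m22_g80) = 6 :=
  orderOf_net m22_hn m22_hk m22_g80_ok (by decide) (ps := [2, 3]) (by set_option linter.unusedSimpArgs false in simp [Nat.primeFactorsList_ofNat]) (by decide +kernel)

theorem m22_le84 : grp 24 m22t_c7_K ≤ grp 24 m22_E0 :=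
  grp_le_of_memB m22_hn m22_hk m22_E0_ok m22t_c7_K_ok (ws := [nat_lit 0x171f0c06190101]) (by decide +kernel)

theorem m22t_c7_le : grp 24 m22t_c7_K ≤ (grp 24 m22_E0) :=
  (m22_le84.trans m22_T47_s0.le)

theorem m22t_c7_mem : Net.toPerm 24 m22_g83 ∈ (grp 24 m22_E0) :=
  m22t_c7_le (toPerm_mem_grp (E := m22t_c7_K) (List.Mem.head _))

theorem m22t_c7_sym : Sym 24 (grp 24 m22_E0) [m22_g83] m22t_c7_K 0 :=
  Sym.of_lab m22_hn m22_hk (okE_cons.2 ⟨m22_g83_ok, okE_nil _⟩) m22t_c7_K_ok m22t_c7_le (kT := 0) (by decide +kernel)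

noncomputable def m22t_c7_cnt_L : List ℕ := [0, 2, m22_T47_s0_O, 0, 0, 5, 10, m22_T47_s5_O, 1, 0]

theorem m22t_c7_cnt_P : Prob 24 5 (grp 24 m22_E0) m22t_c7_cnt_EG [m22_g83] [m22_g83] m22t_c7_K m22t_c7_cnt_L 0 0 :=
  Sym.prob m22_hn m22_hk m22t_c7_sym m22t_c7_cnt_EG_ok (grp_cons_le m22_g31_m22_T47 (grp_cons_le m22_g32_m22_T47 (grp_cons_le m22_g27_m22_T47 (grp_cons_le m22_g33_m22_T47 (grp_cons_le m22_g25_m22_T47 (grp_cons_le m22_g26_m22_T47 (grp_cons_le m22_g28_m22_T47 (grp_cons_le m22_g19_m22_T47 (grp_cons_le m22_g18_m22_T47 (grp_cons_le m22_g20_m22_T47 (grp_cons_le m22_g12_m22_T47 (grp_cons_le m22_g13_m22_T47 (grp_cons_le m22_g9_m22_T47 (grp_cons_le m22_g5_m22_T47 (grp_cons_le m22_g6_m22_T47 (grp_cons_le m22_g1_m22_T47 (grp_cons_le m22_g2_m22_T47 (grp_nil_le _)))))))))))))))))) (Frames.cons m22_T47_s0_F (Frames.cons m22_T47_s5_F Frames.nil)) (okE_cons.2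 ⟨m22_g83_ok, okE_nil _⟩) _

noncomputable def m22t_c7_cnt_t : BT := (BT.fix (nat_lit 1) (BT.dif (nat_lit 3) (nat_lit 0) (BT.br (nat_lit 0) (nat_lit 1) [nat_lit 1] (BT.dead (nat_lit 4) (BT.img (nat_lit 1) (nat_lit 0) (BT.img (nat_lit 1) (nat_lit 0) (BT.img (nat_lit 1) (nat_lit 0) (BT.frm (nat_lit 0) (nat_lit 0) (nat_lit 0) [] (BT.pln (nat_lit 0) (nat_lit 0) (BT.dif (nat_lit 7) (nat_lit 0) (BT.pln (nat_lit 2) (nat_lit 1) (BT.dif (nat_lit 1) (nat_lit 0) (BT.frm (nat_lit 1) (nat_lit 0x30b1015182013) (nat_lit 0xd0f15151019182013) [nat_lit 6, nat_lit 5, nat_lit 7, nat_lit 8, nat_lit 0] (BT.pln (nat_lit 0) (nat_lit 5) (BT.img (nat_lit 1) (nat_lit 7) (BT.img (nat_lit 1) (nat_lit 0) (BT.and (nat_lit 2) (nat_lit 0) (BT.cnt (nat_lit 0))))))))))))))) (BT.dead (nat_lit 2) (BT.img (nat_lit 1) (nat_lit 0) (BT.img (nat_lit 1) (nat_lit 0) (BT.img (nat_lit 1) (nat_lit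 0) (BT.frm (nat_lit 0) (nat_lit 0) (nat_lit 0) [] (BT.pln (nat_lit 0) (nat_lit 0) (BT.dif (nat_lit 7) (nat_lit 0) (BT.pln (nat_lit 2) (nat_lit 1) (BT.dif (nat_lit 1) (nat_lit 0) (BT.frm (nat_lit 1) (nat_lit 0x30b1015182013) (nat_lit 0x3070f181a0b2013) [nat_lit 6, nat_lit 5, nat_lit 7, nat_lit 8, nat_lit 0] (BT.pln (nat_lit 0) (nat_lit 5) (BT.img (nat_lit 1) (nat_lit 7) (BT.img (nat_lit 1) (nat_lit 0) (BT.img (nat_lit 1) (nat_lit 0) (BT.and (nat_lit 3) (nat_lit 0) (BT.cnt (nat_lit 0)))))))))))))))) (BT.kid (nat_lit 1) (nat_lit 1) (BT.img (nat_lit 1) (nat_lit 0) (BT.img (nat_lit 1) (nat_lit 0) (BT.img (nat_lit 1) (nat_lit 0) (BT.frm (nat_lit 0) (nat_lit 0) (nat_lit 0) [] (BT.pln (nat_lit 0) (nat_lit 0) (BT.dif (nat_lit 7) (nat_lit 0) (BT.pln (nat_lit 2) (nat_lit 1) (BT.dif (nat_lit 1) (nat_lit 0) (BT.one (nat_lit 1) (nat_lit 0x30b1015182013) (nat_lit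 0x30b1015182013) [nat_lit 6, nat_lit 5, nat_lit 7, nat_lit 8, nat_lit 0]))))))))) BT.nil))))))

theorem m22t_c7_cnt : Cnt 24 (grp 24 m22_E0) [m22_g83] [m22_g83] 0 0 0 0 7 :=
  BT.sound m22t_c7_cnt_P Known.nil (t := m22t_c7_cnt_t) (d := 0) (by decide +kernel)

theorem m22t_c7_ge : 7 ≤ Nat.card (grp 24 m22t_c7_K) :=
  Ch.le_card_grp (k := 5) (L := (lab 24 5)) m22_hn m22t_c7_K_ok (c := (Ch.cons (nat_lit 1) [nat_lit 1] Ch.nil)) (by decide +kernel)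

theorem m22t_c7_eq : (grp 24 m22_E0) ⊓ Subgroup.centralizer {Net.toPerm 24 m22_g83} = grp 24 m22t_c7_K :=
  cent_eq m22t_c7_sym m22t_c7_cnt m22t_c7_ge

theorem m22t_c7_card : Nat.card ↥((grp 24 m22_E0) ⊓ Subgroup.centralizer {Net.toPerm 24 m22_g83}) = 7 :=
  card_cent m22t_c7_sym m22t_c7_cnt m22t_c7_ge

theorem m22t_c7_ord : orderOf (Net.toPerm 24 m22_g83) = 7 :=
  orderOf_net m22_hn m22_hk m22_g83_ok (by decide) (ps := [7]) (by set_option linter.unusedSimpArgs false in simp [Nat.primeFactorsList_ofNat]) (by decide +kernel)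

theorem m22_le86 : grp 24 m22t_c8_K ≤ grp 24 m22_E0 :=
  grp_le_of_memB m22_hn m22_hk m22_E0_ok m22t_c8_K_ok (ws := [nat_lit 0x15100c1406170104]) (by decide +kernel)

theorem m22t_c8_le : grp 24 m22t_c8_K ≤ (grp 24 m22_E0) :=
  (m22_le86.trans m22_T47_s0.le)

theorem m22t_c8_mem : Net.toPerm 24 m22_g85 ∈ (grp 24 m22_E0) :=
  m22t_c8_le (toPerm_mem_grp (E := m22t_c8_K) (List.Mem.head _))

theorem m22t_c8_sym : Sym 24 (grp 24 m22_E0) [m22_g85] m22t_c8_K 0 :=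
  Sym.of_lab m22_hn m22_hk (okE_cons.2 ⟨m22_g85_ok, okE_nil _⟩) m22t_c8_K_ok m22t_c8_le (kT := 0) (by decide +kernel)

noncomputable def m22t_c8_cnt_L : List ℕ := [0, 2, m22_T47_s0_O, 0, 0, 5, 10, m22_T47_s5_O, 1, 0]

theorem m22t_c8_cnt_P : Prob 24 5 (grp 24 m22_E0) m22t_c8_cnt_EG [m22_g85] [m22_g85] m22t_c8_K m22t_c8_cnt_L 0 0 :=
  Sym.prob m22_hn m22_hk m22t_c8_sym m22t_c8_cnt_EG_ok (grp_cons_le m22_g31_m22_T47 (grp_cons_le m22_g32_m22_T47 (grp_cons_le m22_g27_m22_T47 (grp_cons_le m22_g33_m22_T47 (grp_cons_le m22_g25_m22_T47 (grp_cons_le m22_g26_m22_T47 (grp_cons_le m22_g28_m22_T47 (grp_cons_le m22_g19_m22_T47 (grp_cons_le m22_g18_m22_T47 (grp_cons_le m22_g20_m22_T47 (grp_cons_le m22_g12_m22_T47 (grp_cons_le m22_g13_m22_T47 (grp_cons_le m22_g9_m22_T47 (grp_cons_le m22_g5_m22_T47 (grp_cons_le m22_g6_m22_T47 (grp_cons_le m22_g1_m22_T47 (grp_cons_le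 m22_g2_m22_T47 (grp_nil_le _)))))))))))))))))) (Frames.cons m22_T47_s0_F (Frames.cons m22_T47_s5_F Frames.nil)) (okE_cons.2 ⟨m22_g85_ok, okE_nil _⟩) _

noncomputable def m22t_c8_cnt_t : BT := (BT.fix (nat_lit 1) (BT.dif (nat_lit 3) (nat_lit 0) (BT.br (nat_lit 0) (nat_lit 1) [nat_lit 1] (BT.dead (nat_lit 2) (BT.img (nat_lit 1) (nat_lit 0) (BT.img (nat_lit 1) (nat_lit 0) (BT.img (nat_lit 1) (nat_lit 0) (BT.img (nat_lit 1) (nat_lit 0) (BT.img (nat_lit 1) (nat_lit 0) (BT.frm (nat_lit 0) (nat_lit 0) (nat_lit 0) [] (BT.pln (nat_lit 0) (nat_lit 0) (BT.dif (nat_lit 9) (nat_lit 0) (BT.pln (nat_lit 2) (nat_lit 1) (BT.dif (nat_lit 1) (nat_lit 0) (BT.frm (nat_lit 1) (nat_lit 0xd1015072013) (nat_lit 0x50f15051a0b2013) [nat_lit 8, nat_lit 5, nat_lit 9, nat_lit 10, nat_lit 0] (BT.pln (nat_lit 0) (nat_lit 5) (BT.and (nat_lit 0) (nat_lit 9) (BT.cnt (nat_lit 0)))))))))))))))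 (BT.dead (nat_lit 4) (BT.img (nat_lit 1) (nat_lit 0) (BT.img (nat_lit 1) (nat_lit 0) (BT.img (nat_lit 1) (nat_lit 0) (BT.img (nat_lit 1) (nat_lit 0) (BT.img (nat_lit 1) (nat_lit 0) (BT.frm (nat_lit 0) (nat_lit 0) (nat_lit 0) [] (BT.pln (nat_lit 0) (nat_lit 0) (BT.dif (nat_lit 9) (nat_lit 0) (BT.pln (nat_lit 2) (nat_lit 1) (BT.dif (nat_lit 1) (nat_lit 0) (BT.frm (nat_lit 1) (nat_lit 0xd1015072013) (nat_lit 0x151519182013) [nat_lit 8, nat_lit 5, nat_lit 9, nat_lit 10, nat_lit 0] (BT.pln (nat_lit 0) (nat_lit 5) (BT.and (nat_lit 0) (nat_lit 8) (BT.cnt (nat_lit 0))))))))))))))) (BT.kid (nat_lit 1) (nat_lit 1) (BT.img (nat_lit 1) (nat_lit 0) (BT.img (nat_lit 1) (nat_lit 0) (BT.img (nat_lit 1) (nat_lit 0) (BT.img (nat_lit 1) (nat_lit 0) (BT.img (nat_lit 1) (nat_lit 0) (BT.frm (nat_lit 0) (nat_lit 0) (nat_lit 0) [] (BT.pln (nat_lit 0) (nat_lit 0) (BT.dif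 (nat_lit 9) (nat_lit 0) (BT.pln (nat_lit 2) (nat_lit 1) (BT.dif (nat_lit 1) (nat_lit 0) (BT.one (nat_lit 1) (nat_lit 0xd1015072013) (nat_lit 0xd1015072013) [nat_lit 8, nat_lit 5, nat_lit 9, nat_lit 10, nat_lit 0]))))))))))) BT.nil))))))

theorem m22t_c8_cnt : Cnt 24 (grp 24 m22_E0) [m22_g85] [m22_g85] 0 0 0 0 7 :=
  BT.sound m22t_c8_cnt_P Known.nil (t := m22t_c8_cnt_t) (d := 0) (by decide +kernel)

theorem m22t_c8_ge : 7 ≤ Nat.card (grp 24 m22t_c8_K) :=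
  Ch.le_card_grp (k := 5) (L := (lab 24 5)) m22_hn m22t_c8_K_ok (c := (Ch.cons (nat_lit 1) [nat_lit 1] Ch.nil)) (by decide +kernel)

theorem m22t_c8_eq : (grp 24 m22_E0) ⊓ Subgroup.centralizer {Net.toPerm 24 m22_g85} = grp 24 m22t_c8_K :=
  cent_eq m22t_c8_sym m22t_c8_cnt m22t_c8_ge

theorem m22t_c8_card : Nat.card ↥((grp 24 m22_E0) ⊓ Subgroup.centralizer {Net.toPerm 24 m22_g85}) = 7 :=
  card_cent m22t_c8_sym m22t_c8_cnt m22t_c8_ge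

theorem m22t_c8_ord : orderOf (Net.toPerm 24 m22_g85) = 7 :=
  orderOf_net m22_hn m22_hk m22_g85_ok (by decide) (ps := [7]) (by set_option linter.unusedSimpArgs false in simp [Nat.primeFactorsList_ofNat]) (by decide +kernel)

theorem m22_le88 : grp 24 m22t_c9_K ≤ grp 24 m22_E0 :=
  grp_le_of_memB m22_hn m22_hk m22_E0_ok m22t_c9_K_ok (ws := [nat_lit 0x191f0f0b1706170213, nat_lit 0x190f0b15060b]) (by decide +kernel)

theorem m22t_c9_le : grp 24 m22t_c9_K ≤ (grp 24 m22_E0) :=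
  (m22_le88.trans m22_T47_s0.le)

theorem m22t_c9_mem : Net.toPerm 24 m22_g87 ∈ (grp 24 m22_E0) :=
  m22t_c9_le (toPerm_mem_grp (E := m22t_c9_K) (List.Mem.head _))

theorem m22t_c9_sym : Sym 24 (grp 24 m22_E0) [m22_g87] m22t_c9_K 0 :=
  Sym.of_lab m22_hn m22_hk (okE_cons.2 ⟨m22_g87_ok, okE_nil _⟩) m22t_c9_K_ok m22t_c9_le (kT := 0) (by decide +kernel)

noncomputable def m22t_c9_cnt_L : List ℕ := [3, 6, m22_T47_s3_O, 0, 0, 5, 10, m22_T47_s5_O, 1, 0]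

theorem m22t_c9_cnt_P : Prob 24 5 (grp 24 m22_E0) m22t_c9_cnt_EG [m22_g87] [m22_g87] m22t_c9_K m22t_c9_cnt_L 0 0 :=
  Sym.prob m22_hn m22_hk m22t_c9_sym m22t_c9_cnt_EG_ok (grp_cons_le m22_g12_m22_T47 (grp_cons_le m22_g13_m22_T47 (grp_cons_le m22_g19_m22_T47 (grp_cons_le m22_g18_m22_T47 (grp_cons_le m22_g20_m22_T47 (grp_cons_le m22_g31_m22_T47 (grp_cons_le m22_g32_m22_T47 (grp_cons_le m22_g27_m22_T47 (grp_cons_le m22_g33_m22_T47 (grp_cons_le m22_g25_m22_T47 (grp_cons_le m22_g26_m22_T47 (grp_cons_le m22_g28_m22_T47 (grp_cons_le m22_g9_m22_T47 (grp_cons_le m22_g5_m22_T47 (grp_cons_le m22_g6_m22_T47 (grp_cons_le m22_g1_m22_T47 (grp_cons_le m22_g2_m22_T47 (grp_nil_le _)))))))))))))))))) (Frames.cons m22_T47_s3_F (Frames.cons m22_T47_s5_F Frames.nil)) (okE_cons.2 ⟨m22_g87_ok, okE_nil _⟩) _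

noncomputable def m22t_c9_cnt_t : BT := (BT.fix (nat_lit 0x1010101) (BT.fix (nat_lit 257) (BT.dif (nat_lit 1) (nat_lit 0) (BT.br (nat_lit 0) (nat_lit 4) [nat_lit 1] (BT.kid (nat_lit 4) (nat_lit 2) (BT.dif (nat_lit 6) (nat_lit 3) (BT.br (nat_lit 0) (nat_lit 2) [nat_lit 3] (BT.dead (nat_lit 12) (BT.img (nat_lit 1) (nat_lit 2) (BT.img (nat_lit 1) (nat_lit 0) (BT.frm (nat_lit 0) (nat_lit 0x111192002) (nat_lit 0x111192002) [nat_lit 0, nat_lit 1, nat_lit 4] (BT.pln (nat_lit 0) (nat_lit 3) (BT.dif (nat_lit 0) (nat_lit 8) (BT.frm (nat_lit 1) (nat_lit 0xd170111192002) (nat_lit 0xd150111192002) [nat_lit 5, nat_lit 0, nat_lit 3, nat_lit 4, nat_lit 7] (BT.pln (nat_lit 0) (nat_lit 5) (BT.img (nat_lit 1) (nat_lit 7) (BT.img (nat_lit 1) (nat_lit 0) (BT.img (nat_lit 1) (nat_lit 0) (BT.and (nat_lit 3) (nat_lit 0) (BT.cnt (nat_lit 0))))))))))))) (BT.dead (nat_lit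 5) (BT.img (nat_lit 1) (nat_lit 2) (BT.img (nat_lit 1) (nat_lit 0) (BT.frm (nat_lit 0) (nat_lit 0x111192002) (nat_lit 0x111192002) [nat_lit 0, nat_lit 1, nat_lit 4] (BT.pln (nat_lit 0) (nat_lit 3) (BT.dif (nat_lit 0) (nat_lit 8) (BT.frm (nat_lit 1) (nat_lit 0xd170111192002) (nat_lit 0xd0f0111192002) [nat_lit 5, nat_lit 0, nat_lit 3, nat_lit 4, nat_lit 7] (BT.pln (nat_lit 0) (nat_lit 6) (BT.img (nat_lit 1) (nat_lit 7) (BT.img (nat_lit 1) (nat_lit 0) (BT.img (nat_lit 1) (nat_lit 0) (BT.and (nat_lit 3) (nat_lit 0) (BT.cnt (nat_lit 0))))))))))))) (BT.dead (nat_lit 9) (BT.img (nat_lit 1) (nat_lit 2) (BT.img (nat_lit 1) (nat_lit 0) (BT.frm (nat_lit 0) (nat_lit 0x111192002) (nat_lit 0x111192002) [nat_lit 0, nat_lit 1, nat_lit 4] (BT.pln (nat_lit 0) (nat_lit 3) (BT.dif (nat_lit 0) (nat_lit 8) (BT.frm (nat_lit 1) (nat_lit 0xd170111192002) (nat_lit 0xd110111192002)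 [nat_lit 5, nat_lit 0, nat_lit 3, nat_lit 4, nat_lit 7] (BT.pln (nat_lit 0) (nat_lit 5) (BT.img (nat_lit 1) (nat_lit 7) (BT.and (nat_lit 1) (nat_lit 0) (BT.cnt (nat_lit 0))))))))))) (BT.dead (nat_lit 15) (BT.img (nat_lit 1) (nat_lit 2) (BT.img (nat_lit 1) (nat_lit 0) (BT.frm (nat_lit 0) (nat_lit 0x111192002) (nat_lit 0x111192002) [nat_lit 0, nat_lit 1, nat_lit 4] (BT.pln (nat_lit 0) (nat_lit 3) (BT.dif (nat_lit 0) (nat_lit 8) (BT.frm (nat_lit 1) (nat_lit 0xd170111192002) (nat_lit 0x110111192002) [nat_lit 5, nat_lit 0, nat_lit 3, nat_lit 4, nat_lit 7] (BT.pln (nat_lit 0) (nat_lit 5) (BT.img (nat_lit 1) (nat_lit 7) (BT.and (nat_lit 1) (nat_lit 0) (BT.cnt (nat_lit 0))))))))))) (BT.dead (nat_lit 8) (BT.img (nat_lit 1) (nat_lit 2) (BT.img (nat_lit 1) (nat_lit 0) (BT.frm (nat_lit 0) (nat_lit 0x111192002) (nat_lit 0x111192002) [nat_lit 0, nat_lit 1, nat_lit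 4] (BT.pln (nat_lit 0) (nat_lit 3) (BT.dif (nat_lit 0) (nat_lit 8) (BT.frm (nat_lit 1) (nat_lit 0xd170111192002) (nat_lit 0xb0111192002) [nat_lit 5, nat_lit 0, nat_lit 3, nat_lit 4, nat_lit 7] (BT.pln (nat_lit 0) (nat_lit 5) (BT.img (nat_lit 1) (nat_lit 7) (BT.and (nat_lit 1) (nat_lit 0) (BT.cnt (nat_lit 0))))))))))) (BT.dead (nat_lit 7) (BT.img (nat_lit 1) (nat_lit 2) (BT.img (nat_lit 1) (nat_lit 0) (BT.frm (nat_lit 0) (nat_lit 0x111192002) (nat_lit 0x111192002) [nat_lit 0, nat_lit 1, nat_lit 4] (BT.pln (nat_lit 0) (nat_lit 3) (BT.dif (nat_lit 0) (nat_lit 8) (BT.frm (nat_lit 1) (nat_lit 0xd170111192002) (nat_lit 0x150111192002) [nat_lit 5, nat_lit 0, nat_lit 3, nat_lit 4, nat_lit 7] (BT.pln (nat_lit 0) (nat_lit 5) (BT.img (nat_lit 1) (nat_lit 7) (BT.and (nat_lit 1) (nat_lit 0) (BT.cnt (nat_lit 0))))))))))) (BT.dead (nat_lit 6) (BT.img (nat_lit 1)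 (nat_lit 2) (BT.img (nat_lit 1) (nat_lit 0) (BT.frm (nat_lit 0) (nat_lit 0x111192002) (nat_lit 0x111192002) [nat_lit 0, nat_lit 1, nat_lit 4] (BT.pln (nat_lit 0) (nat_lit 3) (BT.dif (nat_lit 0) (nat_lit 8) (BT.frm (nat_lit 1) (nat_lit 0xd170111192002) (nat_lit 0xf0111192002) [nat_lit 5, nat_lit 0, nat_lit 3, nat_lit 4, nat_lit 7] (BT.pln (nat_lit 0) (nat_lit 5) (BT.img (nat_lit 1) (nat_lit 7) (BT.and (nat_lit 1) (nat_lit 0) (BT.cnt (nat_lit 0))))))))))) (BT.kid (nat_lit 2) (nat_lit 1) (BT.img (nat_lit 1) (nat_lit 2) (BT.img (nat_lit 1) (nat_lit 0) (BT.frm (nat_lit 0) (nat_lit 0x111192002) (nat_lit 0x111192002) [nat_lit 0, nat_lit 1, nat_lit 4] (BT.pln (nat_lit 0) (nat_lit 3) (BT.dif (nat_lit 0) (nat_lit 8) (BT.one (nat_lit 1) (nat_lit 0xd170111192002) (nat_lit 0xd170111192002) [nat_lit 5, nat_lit 0, nat_lit 3, nat_lit 4, nat_lit 7])))))) BT.nil))))))))))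 BT.nil)))))

theorem m22t_c9_cnt : Cnt 24 (grp 24 m22_E0) [m22_g87] [m22_g87] 0 0 0 0 8 :=
  BT.sound m22t_c9_cnt_P Known.nil (t := m22t_c9_cnt_t) (d := 0) (by decide +kernel)

theorem m22t_c9_ge : 8 ≤ Nat.card (grp 24 m22t_c9_K) :=
  Ch.le_card_grp (k := 5) (L := (lab 24 5)) m22_hn m22t_c9_K_ok (c := (Ch.cons (nat_lit 4) [nat_lit 1] (Ch.cons (nat_lit 2) [nat_lit 3] Ch.nil))) (by decide +kernel)

theorem m22t_c9_eq : (grp 24 m22_E0) ⊓ Subgroup.centralizer {Net.toPerm 24 m22_g87} = grp 24 m22t_c9_K :=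
  cent_eq m22t_c9_sym m22t_c9_cnt m22t_c9_ge

theorem m22t_c9_card : Nat.card ↥((grp 24 m22_E0) ⊓ Subgroup.centralizer {Net.toPerm 24 m22_g87}) = 8 :=
  card_cent m22t_c9_sym m22t_c9_cnt m22t_c9_ge

theorem m22t_c9_ord : orderOf (Net.toPerm 24 m22_g87) = 8 :=
  orderOf_net m22_hn m22_hk m22_g87_ok (by decide) (ps := [2]) (by set_option linter.unusedSimpArgs false in simp [Nat.primeFactorsList_ofNat]) (by decide +kernel)

theorem m22_le90 : grp 24 m22t_c10_K ≤ grp 24 m22_E0 :=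
  grp_le_of_memB m22_hn m22_hk m22_E0_ok m22t_c10_K_ok (ws := [nat_lit 0x191f0e080e0108]) (by decide +kernel)

theorem m22t_c10_le : grp 24 m22t_c10_K ≤ (grp 24 m22_E0) :=
  (m22_le90.trans m22_T47_s0.le)

theorem m22t_c10_mem : Net.toPerm 24 m22_g89 ∈ (grp 24 m22_E0) :=
  m22t_c10_le (toPerm_mem_grp (E := m22t_c10_K) (List.Mem.head _))

theorem m22t_c10_sym : Sym 24 (grp 24 m22_E0) [m22_g89] m22t_c10_K 0 :=
  Sym.of_lab m22_hn m22_hk (okE_cons.2 ⟨m22_g89_ok, okE_nil _⟩) m22t_c10_K_ok m22t_c10_le (kT := 0) (by decide +kernel)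

noncomputable def m22t_c10_cnt_L : List ℕ := [3, 6, m22_T47_s3_O, 0, 0, 5, 10, m22_T47_s5_O, 1, 0]

theorem m22t_c10_cnt_P : Prob 24 5 (grp 24 m22_E0) m22t_c10_cnt_EG [m22_g89] [m22_g89] m22t_c10_K m22t_c10_cnt_L 0 0 :=
  Sym.prob m22_hn m22_hk m22t_c10_sym m22t_c10_cnt_EG_ok (grp_cons_le m22_g12_m22_T47 (grp_cons_le m22_g13_m22_T47 (grp_cons_le m22_g19_m22_T47 (grp_cons_le m22_g18_m22_T47 (grp_cons_le m22_g20_m22_T47 (grp_cons_le m22_g31_m22_T47 (grp_cons_le m22_g32_m22_T47 (grp_cons_le m22_g27_m22_T47 (grp_cons_le m22_g33_m22_T47 (grp_cons_le m22_g25_m22_T47 (grp_cons_le m22_g26_m22_T47 (grp_cons_le m22_g28_m22_T47 (grp_cons_le m22_g9_m22_T47 (grp_cons_le m22_g5_m22_T47 (grp_cons_le m22_g6_m22_T47 (grp_cons_le m22_g1_m22_T47 (grp_cons_le m22_g2_m22_T47 (grp_nil_le _)))))))))))))))))) (Frames.cons m22_T47_s3_F (Frames.cons m22_T47_s5_F Frames.nil))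 (okE_cons.2 ⟨m22_g89_ok, okE_nil _⟩) _

noncomputable def m22t_c10_cnt_t : BT := (BT.fix (nat_lit 1) (BT.dif (nat_lit 3) (nat_lit 0) (BT.br (nat_lit 0) (nat_lit 1) [nat_lit 1] (BT.dead (nat_lit 3) (BT.img (nat_lit 1) (nat_lit 0) (BT.img (nat_lit 1) (nat_lit 0) (BT.frm (nat_lit 0) (nat_lit 68380) (nat_lit 0x10d1c042009) [nat_lit 0, nat_lit 1, nat_lit 2] (BT.pln (nat_lit 0) (nat_lit 3) (BT.img (nat_lit 1) (nat_lit 2) (BT.img (nat_lit 1) (nat_lit 0) (BT.and (nat_lit 2) (nat_lit 0) (BT.cnt (nat_lit 0))))))))) (BT.kid (nat_lit 1) (nat_lit 1) (BT.img (nat_lit 1) (nat_lit 0) (BT.img (nat_lit 1) (nat_lit 0) (BT.img (nat_lit 1) (nat_lit 0) (BT.img (nat_lit 1) (nat_lit 0) (BT.img (nat_lit 1) (nat_lit 0) (BT.img (nat_lit 1) (nat_lit 0) (BT.one (nat_lit 1) (nat_lit 0x1105010b1c) (nat_lit 0x1105010b1c) [nat_lit 3, nat_lit 0, nat_lit 4, nat_lit 5, nat_lit 6])))))))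 BT.nil)))))

theorem m22t_c10_cnt : Cnt 24 (grp 24 m22_E0) [m22_g89] [m22_g89] 0 0 0 0 11 :=
  BT.sound m22t_c10_cnt_P Known.nil (t := m22t_c10_cnt_t) (d := 0) (by decide +kernel)

theorem m22t_c10_ge : 11 ≤ Nat.card (grp 24 m22t_c10_K) :=
  Ch.le_card_grp (k := 5) (L := (lab 24 5)) m22_hn m22t_c10_K_ok (c := (Ch.cons (nat_lit 1) [nat_lit 1] Ch.nil)) (by decide +kernel)

theorem m22t_c10_eq : (grp 24 m22_E0) ⊓ Subgroup.centralizer {Net.toPerm 24 m22_g89} = grp 24 m22t_c10_K :=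
  cent_eq m22t_c10_sym m22t_c10_cnt m22t_c10_ge

theorem m22t_c10_card : Nat.card ↥((grp 24 m22_E0) ⊓ Subgroup.centralizer {Net.toPerm 24 m22_g89}) = 11 :=
  card_cent m22t_c10_sym m22t_c10_cnt m22t_c10_ge

theorem m22t_c10_ord : orderOf (Net.toPerm 24 m22_g89) = 11 :=
  orderOf_net m22_hn m22_hk m22_g89_ok (by decide) (ps := [11]) (by set_option linter.unusedSimpArgs false in simp [Nat.primeFactorsList_ofNat]) (by decide +kernel)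

theorem m22_le92 : grp 24 m22t_c11_K ≤ grp 24 m22_E0 :=
  grp_le_of_memB m22_hn m22_hk m22_E0_ok m22t_c11_K_ok (ws := [nat_lit 0x151f100d1b0104]) (by decide +kernel)

theorem m22t_c11_le : grp 24 m22t_c11_K ≤ (grp 24 m22_E0) :=
  (m22_le92.trans m22_T47_s0.le)

theorem m22t_c11_mem : Net.toPerm 24 m22_g91 ∈ (grp 24 m22_E0) :=
  m22t_c11_le (toPerm_mem_grp (E := m22t_c11_K) (List.Mem.head _))

theorem m22t_c11_sym : Sym 24 (grp 24 m22_E0) [m22_g91] m22t_c11_K 0 :=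
  Sym.of_lab m22_hn m22_hk (okE_cons.2 ⟨m22_g91_ok, okE_nil _⟩) m22t_c11_K_ok m22t_c11_le (kT := 0) (by decide +kernel)

noncomputable def m22t_c11_cnt_L : List ℕ := [3, 6, m22_T47_s3_O, 0, 0, 5, 10, m22_T47_s5_O, 1, 0]

theorem m22t_c11_cnt_P : Prob 24 5 (grp 24 m22_E0) m22t_c11_cnt_EG [m22_g91] [m22_g91] m22t_c11_K m22t_c11_cnt_L 0 0 :=
  Sym.prob m22_hn m22_hk m22t_c11_sym m22t_c11_cnt_EG_ok (grp_cons_le m22_g12_m22_T47 (grp_cons_le m22_g13_m22_T47 (grp_cons_le m22_g19_m22_T47 (grp_cons_le m22_g18_m22_T47 (grp_cons_le m22_g20_m22_T47 (grp_cons_le m22_g31_m22_T47 (grp_cons_le m22_g32_m22_T47 (grp_cons_le m22_g27_m22_T47 (grp_cons_le m22_g33_m22_T47 (grp_cons_le m22_g25_m22_T47 (grp_cons_le m22_g26_m22_T47 (grp_cons_le m22_g28_m22_T47 (grp_cons_le m22_g9_m22_T47 (grp_cons_le m22_g5_m22_T47 (grp_cons_le m22_g6_m22_T47 (grp_cons_le m22_g1_m22_T47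 (grp_cons_le m22_g2_m22_T47 (grp_nil_le _)))))))))))))))))) (Frames.cons m22_T47_s3_F (Frames.cons m22_T47_s5_F Frames.nil)) (okE_cons.2 ⟨m22_g91_ok, okE_nil _⟩) _

noncomputable def m22t_c11_cnt_t : BT := (BT.fix (nat_lit 1) (BT.dif (nat_lit 3) (nat_lit 0) (BT.br (nat_lit 0) (nat_lit 1) [nat_lit 1] (BT.dead (nat_lit 3) (BT.img (nat_lit 1) (nat_lit 0) (BT.img (nat_lit 1) (nat_lit 0) (BT.frm (nat_lit 0) (nat_lit 0x1041a17) (nat_lit 0x4191b2009) [nat_lit 0, nat_lit 1, nat_lit 2] (BT.pln (nat_lit 0) (nat_lit 3) (BT.img (nat_lit 1) (nat_lit 2) (BT.img (nat_lit 1) (nat_lit 0) (BT.and (nat_lit 2) (nat_lit 0) (BT.cnt (nat_lit 0))))))))) (BT.kid (nat_lit 1) (nat_lit 1) (BT.img (nat_lit 1) (nat_lit 0) (BT.img (nat_lit 1) (nat_lit 0) (BT.img (nat_lit 1) (nat_lit 0) (BT.img (nat_lit 1) (nat_lit 0) (BT.one (nat_lit 1) (nat_lit 0x130501041a17) (nat_lit 0x130501041a17)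 [nat_lit 1, nat_lit 0, nat_lit 2, nat_lit 3, nat_lit 4]))))) BT.nil)))))

theorem m22t_c11_cnt : Cnt 24 (grp 24 m22_E0) [m22_g91] [m22_g91] 0 0 0 0 11 :=
  BT.sound m22t_c11_cnt_P Known.nil (t := m22t_c11_cnt_t) (d := 0) (by decide +kernel)

theorem m22t_c11_ge : 11 ≤ Nat.card (grp 24 m22t_c11_K) :=
  Ch.le_card_grp (k := 5) (L := (lab 24 5)) m22_hn m22t_c11_K_ok (c := (Ch.cons (nat_lit 1) [nat_lit 1] Ch.nil)) (by decide +kernel)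

theorem m22t_c11_eq : (grp 24 m22_E0) ⊓ Subgroup.centralizer {Net.toPerm 24 m22_g91} = grp 24 m22t_c11_K :=
  cent_eq m22t_c11_sym m22t_c11_cnt m22t_c11_ge

theorem m22t_c11_card : Nat.card ↥((grp 24 m22_E0) ⊓ Subgroup.centralizer {Net.toPerm 24 m22_g91}) = 11 :=
  card_cent m22t_c11_sym m22t_c11_cnt m22t_c11_ge

theorem m22t_c11_ord : orderOf (Net.toPerm 24 m22_g91) = 11 :=
  orderOf_net m22_hn m22_hk m22_g91_ok (by decide) (ps := [11]) (by set_option linter.unusedSimpArgs false in simp [Nat.primeFactorsList_ofNat]) (by decide +kernel)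

noncomputable def m22t_xs : List Net := [Net.nil, m22_g48, m22_g62, m22_g69, m22_g73, m22_g78, m22_g80, m22_g83, m22_g85, m22_g87, m22_g89, m22_g91]

noncomputable def m22t_cs : List ℕ := [443520, 384, 36, 32, 16, 5, 12, 7, 7, 8, 11, 11]

noncomputable def m22t_os : List ℕ := [1, 2, 3, 4, 4, 5, 6, 7, 7, 8, 11, 11]

theorem m22t_reps : Reps 24 (grp 24 m22_E0) m22t_xs m22t_cs m22t_os :=
  (Reps.cons rfl (one_mem _) (card_cent_nil m22_card0) orderOf_one (Reps.cons m22_g48_ok m22t_c1_mem m22t_c1_card m22t_c1_ord (Reps.cons m22_g62_ok m22t_c2_mem m22t_c2_card m22t_c2_ord (Reps.cons m22_g69_ok m22t_c3_mem m22t_c3_card m22t_c3_ord (Reps.cons m22_g73_ok m22t_c4_mem m22t_c4_card m22t_c4_ord (Reps.cons m22_g78_ok m22t_c5_mem m22t_c5_card m22t_c5_ord (Reps.cons m22_g80_ok m22t_c6_mem m22t_c6_card m22t_c6_ord (Reps.cons m22_g83_ok m22t_c7_mem m22t_c7_card m22t_c7_ord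 (Reps.cons m22_g85_ok m22t_c8_mem m22t_c8_card m22t_c8_ord (Reps.cons m22_g87_ok m22t_c9_mem m22t_c9_card m22t_c9_ord (Reps.cons m22_g89_ok m22t_c10_mem m22t_c10_card m22t_c10_ord (Reps.cons m22_g91_ok m22t_c11_mem m22t_c11_card m22t_c11_ord Reps.nil))))))))))))

noncomputable def m22t_nc8_7_cnt_L : List ℕ := [0, 2, m22_T47_s0_O, 0, 0, 3, 6, m22_T47_s3_O, 0, 0]

theorem m22t_nc8_7_cnt_P : Prob 24 5 (grp 24 m22_E0) m22t_nc8_7_cnt_EG [m22_g85] [m22_g83] m22t_c7_K m22t_nc8_7_cnt_L 0 0 :=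
  Sym.prob m22_hn m22_hk m22t_c7_sym m22t_nc8_7_cnt_EG_ok (grp_cons_le m22_g12_m22_T47 (grp_cons_le m22_g13_m22_T47 (grp_cons_le m22_g19_m22_T47 (grp_cons_le m22_g18_m22_T47 (grp_cons_le m22_g20_m22_T47 (grp_cons_le m22_g31_m22_T47 (grp_cons_le m22_g32_m22_T47 (grp_cons_le m22_g27_m22_T47 (grp_cons_le m22_g33_m22_T47 (grp_cons_le m22_g25_m22_T47 (grp_cons_le m22_g26_m22_T47 (grp_cons_le m22_g28_m22_T47 (grp_cons_le m22_g9_m22_T47 (grp_cons_le m22_g5_m22_T47 (grp_cons_le m22_g6_m22_T47 (grp_cons_le m22_g1_m22_T47 (grp_cons_le m22_g2_m22_T47 (grp_nil_le _)))))))))))))))))) (Frames.cons m22_T47_s0_F (Frames.cons m22_T47_s3_F Frames.nil)) (okE_cons.2 ⟨m22_g85_ok, okE_nil _⟩) _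

noncomputable def m22t_nc8_7_cnt_t : BT := (BT.fix (nat_lit 1) (BT.dif (nat_lit 3) (nat_lit 0) (BT.br (nat_lit 0) (nat_lit 1) [nat_lit 1] (BT.dead (nat_lit 4) (BT.img (nat_lit 1) (nat_lit 0) (BT.frm (nat_lit 0) (nat_lit 0) (nat_lit 0) [] (BT.pln (nat_lit 0) (nat_lit 0) (BT.dif (nat_lit 5) (nat_lit 0) (BT.pln (nat_lit 2) (nat_lit 1) (BT.dif (nat_lit 1) (nat_lit 0) (BT.frm (nat_lit 1) (nat_lit 0x1112009) (nat_lit 0x1010619042009) [nat_lit 5, nat_lit 6, nat_lit 0] (BT.pln (nat_lit 0) (nat_lit 3) (BT.img (nat_lit 1) (nat_lit 7) (BT.img (nat_lit 1) (nat_lit 0) (BT.and (nat_lit 2) (nat_lit 0) (BT.cnt (nat_lit 0))))))))))))) (BT.dead (nat_lit 2) (BT.img (nat_lit 1) (nat_lit 0) (BT.frm (nat_lit 0) (nat_lit 0) (nat_lit 0) [] (BT.pln (nat_lit 0) (nat_lit 0) (BT.dif (nat_lit 5) (nat_lit 0) (BT.pln (nat_lit 2) (nat_lit 1) (BT.dif (nat_lit 1) (nat_lit 0) (BT.frm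 (nat_lit 1) (nat_lit 0x1112009) (nat_lit 0x41a152009) [nat_lit 5, nat_lit 6, nat_lit 0] (BT.pln (nat_lit 0) (nat_lit 3) (BT.img (nat_lit 1) (nat_lit 7) (BT.img (nat_lit 1) (nat_lit 0) (BT.and (nat_lit 2) (nat_lit 0) (BT.cnt (nat_lit 0))))))))))))) (BT.dead (nat_lit 1) (BT.img (nat_lit 1) (nat_lit 0) (BT.frm (nat_lit 0) (nat_lit 0) (nat_lit 0) [] (BT.pln (nat_lit 0) (nat_lit 0) (BT.dif (nat_lit 5) (nat_lit 0) (BT.pln (nat_lit 2) (nat_lit 1) (BT.dif (nat_lit 1) (nat_lit 0) (BT.frm (nat_lit 1) (nat_lit 0x1112009) (nat_lit 0x1042009) [nat_lit 5, nat_lit 6, nat_lit 0] (BT.pln (nat_lit 0) (nat_lit 3) (BT.img (nat_lit 1) (nat_lit 7) (BT.img (nat_lit 1) (nat_lit 0) (BT.and (nat_lit 2) (nat_lit 0) (BT.cnt (nat_lit 0))))))))))))) BT.nil))))))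

theorem m22t_nc8_7_cnt : Cnt 24 (grp 24 m22_E0) [m22_g85] [m22_g83] 0 0 0 0 0 :=
  BT.sound m22t_nc8_7_cnt_P Known.nil (t := m22t_nc8_7_cnt_t) (d := 0) (by decide +kernel)

theorem m22t_nc8_7 : ¬ CjIn (grp 24 m22_E0) (Net.toPerm 24 m22_g85) (Net.toPerm 24 m22_g83) :=
  not_cjIn m22t_nc8_7_cnt

noncomputable def m22_T47_s4_O : ℕ := (nat_lit 0x800000080000040000000001000002008000002000020000)

theorem m22_T47_s4_F : Frame 24 (grp 24 m22_E0) 4 8 m22_T47_s4_O 0 1 :=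
  Stab.frame m22_hn m22_T47_s4 (by decide +kernel)

noncomputable def m22t_nc11_10_cnt_L : List ℕ := [3, 6, m22_T47_s3_O, 0, 0, 4, 8, m22_T47_s4_O, 0, 0]

theorem m22t_nc11_10_cnt_P : Prob 24 5 (grp 24 m22_E0) m22t_nc11_10_cnt_EG [m22_g91] [m22_g89] m22t_c10_K m22t_nc11_10_cnt_L 0 0 :=
  Sym.prob m22_hn m22_hk m22t_c10_sym m22t_nc11_10_cnt_EG_ok (grp_cons_le m22_g12_m22_T47 (grp_cons_le m22_g13_m22_T47 (grp_cons_le m22_g19_m22_T47 (grp_cons_le m22_g18_m22_T47 (grp_cons_le m22_g20_m22_T47 (grp_cons_le m22_g31_m22_T47 (grp_cons_le m22_g32_m22_T47 (grp_cons_le m22_g27_m22_T47 (grp_cons_le m22_g33_m22_T47 (grp_cons_le m22_g25_m22_T47 (grp_cons_le m22_g26_m22_T47 (grp_cons_le m22_g28_m22_T47 (grp_cons_le m22_g9_m22_T47 (grp_cons_le m22_g5_m22_T47 (grp_cons_le m22_g6_m22_T47 (grp_cons_le m22_g1_m22_T47 (grp_cons_le m22_g2_m22_T47 (grp_nil_le _))))))))))))))))))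 (Frames.cons m22_T47_s3_F (Frames.cons m22_T47_s4_F Frames.nil)) (okE_cons.2 ⟨m22_g91_ok, okE_nil _⟩) _

noncomputable def m22t_nc11_10_cnt_t : BT := (BT.fix (nat_lit 1) (BT.dif (nat_lit 3) (nat_lit 0) (BT.br (nat_lit 0) (nat_lit 1) [nat_lit 1] (BT.dead (nat_lit 3) (BT.img (nat_lit 1) (nat_lit 0) (BT.img (nat_lit 1) (nat_lit 0) (BT.img (nat_lit 1) (nat_lit 0) (BT.img (nat_lit 1) (nat_lit 0) (BT.frm (nat_lit 1) (nat_lit 0x501041a17) (nat_lit 0x6010d1c042009) [nat_lit 0, nat_lit 2, nat_lit 3, nat_lit 4] (BT.pln (nat_lit 0) (nat_lit 5) (BT.img (nat_lit 1) (nat_lit 2) (BT.img (nat_lit 1) (nat_lit 0) (BT.img (nat_lit 1) (nat_lit 0) (BT.and (nat_lit 3) (nat_lit 0) (BT.cnt (nat_lit 0)))))))))))) (BT.dead (nat_lit 1) (BT.img (nat_lit 1) (nat_lit 0) (BT.img (nat_lit 1) (nat_lit 0) (BT.frm (nat_lit 0) (nat_lit 0x1041a17) (nat_lit 68380) [nat_lit 0, nat_lit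 1, nat_lit 2] (BT.pln (nat_lit 0) (nat_lit 3) (BT.img (nat_lit 1) (nat_lit 2) (BT.img (nat_lit 1) (nat_lit 0) (BT.and (nat_lit 2) (nat_lit 0) (BT.cnt (nat_lit 0))))))))) BT.nil)))))

theorem m22t_nc11_10_cnt : Cnt 24 (grp 24 m22_E0) [m22_g91] [m22_g89] 0 0 0 0 0 :=
  BT.sound m22t_nc11_10_cnt_P Known.nil (t := m22t_nc11_10_cnt_t) (d := 0) (by decide +kernel)

theorem m22t_nc11_10 : ¬ CjIn (grp 24 m22_E0) (Net.toPerm 24 m22_g91) (Net.toPerm 24 m22_g89) :=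
  not_cjIn m22t_nc11_10_cnt

theorem m22t_exc : Exc 24 (grp 24 m22_E0) m22t_xs [11010, 8007] :=
  (Exc.cons 11 10 (by decide) m22t_nc11_10 (Exc.cons 8 7 (by decide) m22t_nc8_7 Exc.nil))

theorem m22t : Table 24 (grp 24 m22_E0) m22t_xs m22t_cs m22t_os :=
  Reps.table (D := 1) m22_hn m22_hk m22t_reps m22t_exc m22_card0 (by decide +kernel)

end Cfsg.Agent.H22
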