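import Mathlib
import Cfsg.Agent.H22.PSolvHeight
import Cfsg.Agent.H11.PermChar

/-!
# The Alperin--Dade theorem on isomorphic principal blocks
-/

namespace Cfsg.Agent.H22

open Cfsg Cfsg.Agent.H8
open Cfsg.Agent.H19 hiding block_nonempty block_eq_of_mem mem_blockOf_self isPBlock_blockOf
  isPBlock_principalBlock
open Cfsg.Agent.H17 hiding trunc cj_ZG cj_incl incl_trunc
open Cfsg.Agent.H18 hiding stab mem_stab stabilizesBlock_iff
open scoped ComplexConjugate Pointwise MonoidAlgebra commutatorElement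
open MonoidAlgebra (single)

variable {G H : Type*} [Group G] [Group H] {M : Ideal AlgInt} {p : ℕ}

section Alg

variable {S : Type*} [CommRing S]

theorem cj_qG_of (f : G →* H) {h : H} {g : G} (hx : ∀ x, h * f x * h⁻¹ = f (g * x * g⁻¹))
    (a : S[G]) : cj h (qG f a) = qG f (cj g a) := by
  induction a using MonoidAlgebra.induction_linear with
  | zero => simp
  | add a b ha hb => simp [ha, hb]
  | single x r => rw [qG_single, cj_single, cj_single, qG_single, hx]

theorem qG_qG {K : Type*} [Group K] (f : G →* H) (f' : H →* K) (a : S[G]) :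
    qG f' (qG f a) = qG (f'.comp f) a := by
  induction a using MonoidAlgebra.induction_linear with
  | zero => simp
  | add a b ha hb => simp [ha, hb]
  | single x r => rw [qG_single, qG_single, qG_single]; rfl

theorem incl_eq_qG (K : Subgroup G) (a : S[K]) : incl K a = qG K.subtype a := rfl

theorem coeff_qG_of_notMem (f : G →* H) (a : S[G]) {h : H} (hh : h ∉ f.range) :
    (qG f a).coeff h = 0 := by
  classical
  induction a using MonoidAlgebra.induction_linear with
  | zero => simp
  | add a b ha hb => rw [map_add, coeff_add_apply, ha, hb, add_zero]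
  | single x r =>
    rw [qG_single, MonoidAlgebra.coeff_single, Finsupp.single_apply, if_neg]
    rintro rfl
    exact hh ⟨x, rfl⟩

theorem comm_of_cj {b : S[G]} (hb : ∀ g, cj g b = b) (a : S[G]) : a * b = b * a :=
  commute_of_supp (K := ⊤) (fun x hx => absurd (Subgroup.mem_top x) hx) fun h _ => hb h

theorem cj_qG_inl {a : S[G]} (ha : ∀ g, cj g a = a) (x : G × H) :
    cj x (qG (MonoidHom.inl G H) a) = qG (MonoidHom.inl G H) a := by
  rw [cj_qG_of (g := x.1), ha]
  intro y
  ext <;> simp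

theorem cj_qG_inr {a : S[H]} (ha : ∀ g, cj g a = a) (x : G × H) :
    cj x (qG (MonoidHom.inr G H) a) = qG (MonoidHom.inr G H) a := by
  rw [cj_qG_of (g := x.2), ha]
  intro y
  ext <;> simp

theorem mul_eq_aug_smul {a : S[G]} (ha : ∀ g, single g 1 * a = a) (b : S[G]) :
    b * a = aug b • a := by
  induction b using MonoidAlgebra.induction_linear with
  | zero => simp
  | add b c hb hc => rw [add_mul, hb, hc, map_add, add_smul]
  | single x r =>
    rw [aug_single, show single x r = r • single x (1 : S) by simp, smul_mul_assoc, ha]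

/-- If `g • e = e` on the support of `a`, then the diagonal image of `a` acts on `e ⊗ 1` like
`1 ⊗ ā`. -/
theorem qG_diag_mul [Finite G] (f : G →* H) {a e : S[G]}
    (h : ∀ g, a.coeff g ≠ 0 → single g 1 * e = e) :
    qG ((MonoidHom.id G).prod f) a * qG (MonoidHom.inl G H) e =
      qG (MonoidHom.inr G H) (qG f a) * qG (MonoidHom.inl G H) e := by
  haveI := Fintype.ofFinite G
  rw [eq_sum_single a, map_sum, map_sum, map_sum, Finset.sum_mul, Finset.sum_mul]
  refine Finset.sum_congr rfl fun g _ => ?_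
  by_cases hg : a.coeff g = 0
  · simp [hg]
  · rw [qG_single, qG_single, qG_single]
    conv_rhs => rw [← h g hg, map_mul, qG_single, ← mul_assoc, MonoidAlgebra.single_mul_single]
    congr 2
    · ext <;> simp
    · simp

end Alg

section Blocks

variable [Finite G] [Finite H]

theorem qG_gid_equiv (e : G ≃* H) {B : Set (IrrCharacter G)} (hB : LamClosed M B) :
    qG e.toMonoidHom (gid M B) = gid M (irrMap e '' B) := by
  rw [qG_gid (f := e.toMonoidHom) e.surjective hB]
  congr 1
  ext ψ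
  rw [mem_image_irrMap]
  rfl

theorem qG_bid (f : G →* H) (hf : Function.Injective f) (K : Subgroup G)
    {b : Set (IrrCharacter K)} (hb : LamClosed M b) :
    qG f (bid M K b) = bid M (K.map f) (irrMap (K.equivMapOfInjective f hf) '' b) := by
  rw [bid, bid, ← qG_gid_equiv _ hb, incl_eq_qG, incl_eq_qG, qG_qG, qG_qG]
  rfl

variable [Fact p.Prime]

omit [Finite H] in
theorem br_gid_principal (hM : IsPModular p M) {P : Subgroup G} (hP : IsPGroup p P) :
    br P (gid M (principalBlock M G)) = bid M (Cz P) (principalBlock M (Cz P)) := by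
  haveI := charP_kk hM
  have hmax : M.IsMaximal := hM.2.1
  have hB := lamClosed_of_isPBlock hmax (isPBlock_principalBlock (M := M) (G := G))
  have h0 : br P (gid M (principalBlock M G)) ∈ fixAlg (kk M) (Cz P) (Cz P) := by
    have := br_mem_fixAlg (P := P) (gid_mem (M := M) (principalBlock M G)) le_top (Cz_le_Nz P)
    rwa [top_inf_eq] at this
  obtain ⟨A, hA, he⟩ := exists_bid_eq_of_idem h0 (br_idem hP (fun g _ => cj_gid _ g) (gid_idem hB))
  rw [← he]
  congr 1
  ext ξ
  rw [← (H20.truncMul_Cz hM hP).locSet_principal hM,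
    (H20.truncMul_Cz hM hP).mem_locSet_iff_blockOf hmax ξ isPBlock_principalBlock,
    isInducedBlock_Cz_iff_of_eq hM hP isPBlock_principalBlock hA he (isPBlock_blockOf ξ)]
  exact ⟨fun h => blockOf_subset hmax hA h, fun h => h (mem_blockOf_self hmax ξ)⟩

omit [Finite H] [Fact p.Prime] in
theorem single_mul_gid {B : Set (IrrCharacter G)} {k : G} (hk : ∀ χ ∈ B, χ.1 k = χ.1 1) :
    single k 1 * gid M B = gid M B := by
  apply ga_ext
  intro g
  rw [MonoidAlgebra.coeff_single_mul_apply, one_mul, coeff_gid, coeff_gid]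
  congr 1
  unfold blockCoeff
  congr 1
  refine finsum_mem_congr rfl fun χ hχ => ?_
  rw [H11.apply_mul_of_mem_charKer ((H11.charKer χ.1).inv_mem
    ((H11.mem_charKer_irr_iff χ.2).2 (hk χ hχ)))]

omit [Finite H] in
/-- If a Sylow subgroup is central, `p`-regular elements lie in the kernel of the principal
block. -/
theorem principal_apply_of_central (hM : IsPModular p M) (P : Sylow p G)
    (hP : (P : Subgroup G) ≤ Subgroup.center G) {χ : IrrCharacter G} (hχ : χ ∈ principalBlock M G)
    {k : G} (hk : ¬ p ∣ orderOf k) : χ.1 k = χ.1 1 := by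
  obtain ⟨c, hc⟩ := reg_eq_mul_canonical hM (sup_Cz_of_le_center hP) isPBlock_principalBlock
    (isDefectGroup_principal_sylow hM P) (trivIrr_mem_principalBlock hM.2.1) (fun _ _ => rfl) hχ
  rw [hc k hk, hc 1 not_dvd_orderOf_one]
  rfl

omit [Finite H] in
theorem single_mul_br_principal (hM : IsPModular p M) (P : Sylow p G) {k : G}
    (hkC : k ∈ Cz (P : Subgroup G)) (hk : ¬ p ∣ orderOf k) :
    single k 1 * br (P : Subgroup G) (gid M (principalBlock M G)) =
      br (P : Subgroup G) (gid M (principalBlock M G)) := by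
  rw [br_gid_principal hM P.isPGroup', bid]
  have h1 : IsSylowIn p ((P : Subgroup G) ⊓ Cz P) (Nz P ⊓ Cz P) :=
    (isSylowIn_of_le P Subgroup.le_normalizer).inf_of_le_normalizer (Nz_le_Nz_Cz _)
  rw [inf_of_le_right (Cz_le_Nz _)] at h1
  have h2 : single k (1 : kk M) = incl (Cz (P : Subgroup G)) (single ⟨k, hkC⟩ 1) := by
    rw [incl_single]
  rw [h2, ← map_mul, single_mul_gid]
  intro χ hχ
  refine principal_apply_of_central hM h1.toSylow ?_ hχ (by rwa [← Subgroup.orderOf_coe])
  intro x hx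
  rw [h1.coe_toSylow] at hx
  rw [Subgroup.mem_center_iff]
  intro g
  exact Subtype.ext (mem_Cz.1 g.2 x hx.1).symm

omit [Finite H] in
theorem sylow_le_of_not_dvd_index {N : Subgroup G} [N.Normal] (h : ¬ p ∣ N.index)
    {P : Subgroup G} (hP : IsPGroup p P) : P ≤ N := by
  rw [← Subgroup.relIndex_eq_one]
  obtain ⟨n, hn⟩ := IsPGroup.iff_card.1 hP
  obtain ⟨j, -, hj⟩ := (Nat.dvd_prime_pow Fact.out).1 (hn ▸ Subgroup.relIndex_dvd_card N P)
  rcases j with _ | j
  · simpa using hj
  · exact absurd ((Dvd.intro_left _ (pow_succ p j).symm).trans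
      (hj ▸ Subgroup.relIndex_dvd_index_of_normal N P)) h

omit [Finite H] in
/-- The key vanishing modulo `p`. -/
theorem dade_key (hM : IsPModular p M) {N : Subgroup G} [N.Normal] (hidx : ¬ p ∣ N.index)
    (P : Sylow p G) (hsup : N ⊔ Cz (P : Subgroup G) = ⊤) :
    qG ((MonoidHom.id G).prod (QuotientGroup.mk' N)) (gid M (principalBlock M G)) *
      qG (MonoidHom.inl G (G ⧸ N)) (gid M (principalBlock M G)) *
      qG (MonoidHom.inr G (G ⧸ N)) (gid M {trivIrr (G ⧸ N)}ᶜ) = 0 := by
  haveI := charP_kk hM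
  have hmax : M.IsMaximal := hM.2.1
  set δ := (MonoidHom.id G).prod (QuotientGroup.mk' N)
  set ι := MonoidHom.inl G (G ⧸ N)
  set j := MonoidHom.inr G (G ⧸ N)
  set e := gid M (principalBlock M G) with he
  set u := gid M ({trivIrr (G ⧸ N)}ᶜ : Set (IrrCharacter (G ⧸ N))) with hu
  have hB := lamClosed_of_isPBlock hmax (isPBlock_principalBlock (M := M) (G := G))
  have hb := lamClosed_of_isPBlock hmax (isPBlock_principalBlock (M := M) (G := N))
  have hT : LamClosed M ({trivIrr (G ⧸ N)} : Set (IrrCharacter (G ⧸ N))) :=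
    lamClosed_of_not_dvd hM hidx _
  have hι : Function.Injective ι := fun a b h => congrArg Prod.fst h
  have hPN : (P : Subgroup G) ≤ N := sylow_le_of_not_dvd_index hidx P.isPGroup'
  have hδι : ∀ n ∈ N, δ n = ι n := fun n hn =>
    Prod.ext rfl ((QuotientGroup.eq_one_iff n).2 hn)
  have hce : ∀ x, cj x (qG ι e) = qG ι e := cj_qG_inl (cj_gid _)
  have hcu : ∀ x, cj x (qG j u) = qG j u := cj_qG_inr (cj_gid _)
  have hcδ : ∀ x ∈ N.map ι, cj x (qG δ e) = qG δ e := by
    rintro _ ⟨n, hn, rfl⟩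
    rw [← hδι n hn, cj_qG, cj_gid]
  haveI : (N.map ι).Normal := ⟨by
    rintro _ ⟨n, hn, rfl⟩ x
    exact ⟨x.1 * n * x.1⁻¹, Subgroup.Normal.conj_mem inferInstance n hn _, by ext <;> simp [ι]⟩⟩
  by_contra hne
  have hc := isPrim_bid hmax (isPBlock_principalBlock (M := M) (G := N.map ι))
  have hec : qG ι e * bid M (N.map ι) (principalBlock M (N.map ι)) = qG ι e := by
    rw [← principalBlock_image (N.equivMapOfInjective ι hι), ← qG_bid ι hι N hb, ← map_mul,
      ← gid_above_of_stab _ (mem_stab_principal (N := N)), he, gid_mul hB (lamClosed_above N hb),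
      Set.inter_eq_left.2 ((covers_principal (N := N) hmax).subset hmax isPBlock_principalBlock
        isPBlock_principalBlock)]
  have hεc : qG δ e * qG ι e * qG j u * bid M (N.map ι) (principalBlock M (N.map ι)) =
      qG δ e * qG ι e * qG j u := by
    rw [mul_assoc, ← comm_of_cj hcu, ← mul_assoc, mul_assoc (qG δ e), hec]
  have hP' : IsPGroup p ((P : Subgroup G).map ι) := P.isPGroup'.map ι
  have hPN' : (P : Subgroup G).map ι ≤ N.map ι := Subgroup.map_mono hPN
  have key := br_mul_ne_zero_of_isPrim hc (e := qG δ e * qG ι e * qG j u) ?_ ?_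
    (by rwa [hεc]) hPN' hP' ?_
  · apply key
    have hPδ : (P : Subgroup G).map ι = (P : Subgroup G).map δ := by
      ext x
      constructor
      · rintro ⟨y, hy, rfl⟩; exact ⟨y, hy, hδι y (hPN hy)⟩
      · rintro ⟨y, hy, rfl⟩; exact ⟨y, hy, (hδι y (hPN hy)).symm⟩
    have h1 : br ((P : Subgroup G).map ι) (qG j u) = qG j u := by
      rw [br_eq_self_iff]
      intro x hx
      refine coeff_qG_of_notMem j u fun ⟨γ, hγ⟩ => hx ?_
      rw [mem_Cz]
      rintro _ ⟨y, -, rfl⟩
      rw [← hγ]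
      ext <;> simp [ι, j]
    set E := br (P : Subgroup G) e with hE
    have hkE : ∀ k ∈ Cz (P : Subgroup G), ¬ p ∣ orderOf k → single k 1 * E = E := fun k hk hp =>
      single_mul_br_principal hM P hk hp
    rw [hεc, br_mul hP' (fun g hg => by rw [map_mul, hcδ g (hPN' hg), hce]) (fun g _ => hcu g),
      br_mul hP' (fun g hg => hcδ g (hPN' hg)) (fun g _ => hce g), h1,
      br_qG ι P.isPGroup' (fun g _ => cj_gid _ g), hPδ,
      br_qG δ P.isPGroup' (fun g _ => cj_gid _ g), ← hE, qG_diag_mul]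
    · have h2 : ∀ γ : G ⧸ N, single γ 1 * qG (QuotientGroup.mk' N) E =
          qG (QuotientGroup.mk' N) E := by
        intro γ
        obtain ⟨g, rfl⟩ := QuotientGroup.mk_surjective γ
        have hg : g ∈ N ⊔ Cz (P : Subgroup G) := hsup ▸ Subgroup.mem_top g
        obtain ⟨n, hn, c, hc, rfl⟩ := Subgroup.mem_sup_of_normal_left.1 hg
        obtain ⟨z, hz⟩ := H20.exists_pPart (Fact.out : p.Prime) c
        have hzC := H20.pPart_mem Fact.out hz hc
        have hzN : z ∈ N := sylow_le_of_not_dvd_index hidx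
          (H20.isPGroup_zpowers (H20.pPart_isPElt hz)) (Subgroup.mem_zpowers z)
        obtain ⟨y, rfl, -, -, hy⟩ := hz
        have hyC : y ∈ Cz (P : Subgroup G) := by
          have := (Cz (P : Subgroup G)).mul_mem ((Cz (P : Subgroup G)).inv_mem hzC) hc
          simpa using this
        rw [QuotientGroup.mk_mul, QuotientGroup.mk_mul, (QuotientGroup.eq_one_iff n).2 hn,
          (QuotientGroup.eq_one_iff z).2 hzN, one_mul, one_mul, ← QuotientGroup.mk'_apply,
          ← qG_single, ← map_mul, hkE y hyC hy]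
      have h3 : u * qG (QuotientGroup.mk' N) E = 0 := by
        rw [mul_eq_aug_smul h2, hu, gid, ← lam_trivIrr, lam_eB_of_notMem hT.compl (by simp),
          zero_smul]
      rw [comm_of_cj hcu, ← mul_assoc, ← map_mul, h3, map_zero, zero_mul]
    · intro g hg
      by_cases hgC : g ∈ Cz (P : Subgroup G)
      · rw [hE, coeff_br_of_mem _ hgC] at hg
        exact hkE g hgC (not_dvd_of_coeff_gid hM hB hg)
      · exact absurd (coeff_br_of_not_mem _ hgC) hg
  · have h1 : qG δ e * qG δ e = qG δ e := by rw [← map_mul, gid_idem hB]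
    have h2 : qG ι e * qG ι e = qG ι e := by rw [← map_mul, gid_idem hB]
    have h3 : qG j u * qG j u = qG j u := by rw [← map_mul, gid_idem hT.compl]
    exact IsIdempotentElem.mul_of_commute (comm_of_cj hcu _)
      (IsIdempotentElem.mul_of_commute (comm_of_cj hce _) h1 h2) h3
  · intro n hn
    rw [map_mul, map_mul, hcδ n hn, hce, hcu]
  · intro h
    have := aug_br hP' (a := bid M (N.map ι) (principalBlock M (N.map ι)))
      (fun g hg => (mem_fixAlg.1 hc.mem).2 g (hPN' hg))
    rw [h, map_zero, aug_bid_principal hmax] at this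
    exact zero_ne_one this

omit [Finite H] in
theorem dade_key_C (hM : IsPModular p M) {N : Subgroup G} [N.Normal] (hidx : ¬ p ∣ N.index)
    (P : Sylow p G) (hsup : N ⊔ Cz (P : Subgroup G) = ⊤) :
    qG ((MonoidHom.id G).prod (QuotientGroup.mk' N)) (fC (principalBlock M G)).1 *
      qG (MonoidHom.inl G (G ⧸ N)) (fC (principalBlock M G)).1 *
      qG (MonoidHom.inr G (G ⧸ N)) (fC {trivIrr (G ⧸ N)}ᶜ).1 = 0 := by
  have hmax : M.IsMaximal := hM.2.1
  set δ := (MonoidHom.id G).prod (QuotientGroup.mk' N)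
  set ι := MonoidHom.inl G (G ⧸ N)
  set j := MonoidHom.inr G (G ⧸ N)
  have hB := lamClosed_of_isPBlock hmax (isPBlock_principalBlock (M := M) (G := G))
  have hT : LamClosed M ({trivIrr (G ⧸ N)} : Set (IrrCharacter (G ⧸ N))) :=
    lamClosed_of_not_dvd hM hidx _
  set e := (fR M (principalBlock M G)).1 with he
  set u := (fR M ({trivIrr (G ⧸ N)}ᶜ : Set (IrrCharacter (G ⧸ N)))).1 with hu
  have hce : ∀ x, cj x (qG ι e) = qG ι e := cj_qG_inl (cj_ZG _)
  have hcu : ∀ x, cj x (qG j u) = qG j u := cj_qG_inr (cj_ZG _)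
  have hee : e * e = e := congrArg Subtype.val (fR_mul_self hB)
  have huu : u * u = u := congrArg Subtype.val (fR_mul_self hT.compl)
  have h0 : qG δ e * qG ι e * qG j u = 0 := by
    apply idem_eq_zero_of_piG
    · have h1 : qG δ e * qG δ e = qG δ e := by rw [← map_mul, hee]
      have h2 : qG ι e * qG ι e = qG ι e := by rw [← map_mul, hee]
      have h3 : qG j u * qG j u = qG j u := by rw [← map_mul, huu]
      exact IsIdempotentElem.mul_of_commute (comm_of_cj hcu _)
        (IsIdempotentElem.mul_of_commute (comm_of_cj hce _) h1 h2) h3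
    · rw [map_mul, map_mul, piG, mapRingHom_qG, mapRingHom_qG, mapRingHom_qG]
      have h1 : MonoidAlgebra.mapRingHom G (resR M) e = gid M (principalBlock M G) :=
        congrArg Subtype.val (piZ_fR (M := M) (principalBlock M G))
      have h2 : MonoidAlgebra.mapRingHom (G ⧸ N) (resR M) u = gid M {trivIrr (G ⧸ N)}ᶜ :=
        congrArg Subtype.val (piZ_fR (M := M) _)
      rw [h1, h2]
      exact dade_key hM hidx P hsup
  have h1 := congrArg (iotaG M (G × (G ⧸ N))) h0
  rw [map_mul, map_mul, iotaG, mapRingHom_qG, mapRingHom_qG, mapRingHom_qG, map_zero] at h1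
  have h2 : MonoidAlgebra.mapRingHom G (Vr M).subtype e = (fC (principalBlock M G)).1 :=
    congrArg Subtype.val (iotaZ_fR hB)
  have h3 : MonoidAlgebra.mapRingHom (G ⧸ N) (Vr M).subtype u = (fC {trivIrr (G ⧸ N)}ᶜ).1 :=
    congrArg Subtype.val (iotaZ_fR hT.compl)
  rwa [h2, h3] at h1

omit [Finite G] [Finite H] [Fact p.Prime] in
theorem dade_inner_mul [Fintype G] [Fact p.Prime] (hM : IsPModular p M) {N : Subgroup G}
    [N.Normal] (hidx : ¬ p ∣ N.index) (P : Sylow p G) (hsup : N ⊔ Cz (P : Subgroup G) = ⊤)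
    {χ θ : IrrCharacter G} (hχ : χ ∈ principalBlock M G) (hθ : θ ∈ principalBlock M G)
    {β : IrrCharacter (G ⧸ N)} (hβ : β ≠ trivIrr (G ⧸ N)) :
    classInner (fun g : G => χ.1 g * β.1 g) θ.1 = 0 := by
  have h0 := dade_key_C hM hidx P hsup
  set δ := (MonoidHom.id G).prod (QuotientGroup.mk' N)
  set ι := MonoidHom.inl G (G ⧸ N)
  set j := MonoidHom.inr G (G ⧸ N)
  let ψ : IrrCharacter (G × (G ⧸ N)) := ⟨_, H11.isIrrCharacter_prod_mul χ.2 β.2⟩
  let a : ZG (G × (G ⧸ N)) ℂ := ⟨qG ι (fC (principalBlock M G)).1, mem_fixAlg_top_iff.1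
    (mem_fixAlg.2 ⟨fun x hx => absurd (Subgroup.mem_top x) hx,
      fun x _ => cj_qG_inl (cj_ZG _) x⟩)⟩
  let b : ZG (G × (G ⧸ N)) ℂ := ⟨qG j (fC {trivIrr (G ⧸ N)}ᶜ).1, mem_fixAlg_top_iff.1
    (mem_fixAlg.2 ⟨fun x hx => absurd (Subgroup.mem_top x) hx,
      fun x _ => cj_qG_inr (cj_ZG _) x⟩)⟩
  have ha : omegaZ ψ a = 1 := by
    rw [omegaZ_apply]
    change charLift ψ.1 (qG ι _) / (χ.1 1 * β.1 1) = 1
    rw [charLift_qG]
    have : (fun g => ψ.1 (ι g)) = β.1 1 • χ.1 := by
      ext g; simp [ψ, ι, mul_comm]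
    rw [this, charLift_smul_fun, charLift_ZG, omegaZ_fC_of_mem hχ, one_mul, mul_comm,
      div_self (mul_ne_zero (irr_one_ne_zero χ) (irr_one_ne_zero β))]
  have hb : omegaZ ψ b = 1 := by
    rw [omegaZ_apply]
    change charLift ψ.1 (qG j _) / (χ.1 1 * β.1 1) = 1
    rw [charLift_qG]
    have : (fun g => ψ.1 (j g)) = χ.1 1 • β.1 := by
      ext g; simp [ψ, j]
    rw [this, charLift_smul_fun, charLift_ZG, omegaZ_fC_of_mem hβ, one_mul,
      div_self (mul_ne_zero (irr_one_ne_zero χ) (irr_one_ne_zero β))]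
  have h1 : b.1 * (a.1 * qG δ (fC {θ}).1) = 0 := by
    have h2 : (fC {θ}).1 * (fC (principalBlock M G)).1 = (fC {θ}).1 := by
      rw [← MulMemClass.coe_mul, fC_mul, Set.singleton_inter_of_mem hθ]
    rw [ZG.comm b, ZG.comm a, ← h2, map_mul, mul_assoc, mul_assoc, ← mul_assoc (qG δ _) a.1]
    change qG δ _ * (qG δ _ * qG ι _ * qG j _) = 0
    rw [h0, mul_zero]
  have h3 := congrArg (charLift ψ.1) h1
  rw [charLift_ZG_mul, charLift_ZG_mul, ha, hb, one_mul, one_mul, map_zero, charLift_qG,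
    charLift_fC_singleton] at h3
  exact (mul_eq_zero.1 h3).resolve_right (irr_one_ne_zero θ)

omit [Finite G] [Finite H] [Fact p.Prime] in
theorem dade_inner_res [Fintype G] [Fact p.Prime] (hM : IsPModular p M) {N : Subgroup G}
    [N.Normal] [Fintype N] (hidx : ¬ p ∣ N.index) (P : Sylow p G)
    (hsup : N ⊔ Cz (P : Subgroup G) = ⊤) {χ θ : IrrCharacter G} (hχ : χ ∈ principalBlock M G)
    (hθ : θ ∈ principalBlock M G) :
    classInner (fun n : N => χ.1 n) (fun n : N => θ.1 n) = classInner χ.1 θ.1 := by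
  classical
  haveI := Fintype.ofFinite (IrrCharacter G)
  haveI := Fintype.ofFinite (IrrCharacter (G ⧸ N))
  rw [H14.inner_res_res_eq_sum N (irr_isClassFunction χ) (irr_isClassFunction θ),
    H11.sum_irr_le_charKer N (fun β => β 1 * classInner (β * χ.1) θ.1),
    Finset.sum_eq_single (trivIrr (G ⧸ N))]
  · change 1 * classInner ((fun _ => 1) * χ.1) θ.1 = _
    rw [one_mul]
    congr 1
    ext g
    simp
  · intro β _ hβ
    have := dade_inner_mul hM hidx P hsup hχ hθ hβ
    rw [mul_comm _ χ.1]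
    exact mul_eq_zero_of_right _ this
  · simp

omit [Finite H] in
/-- Alperin--Dade. -/
theorem alperin_dade (hM : IsPModular p M) {N : Subgroup G} [N.Normal] (hidx : ¬ p ∣ N.index)
    (P : Sylow p G) (hsup : N ⊔ Cz (P : Subgroup G) = ⊤) :
    (∀ χ ∈ principalBlock M G, ∃ θ ∈ principalBlock M N, ∀ n : N, χ.1 n = θ.1 n) ∧
      ∀ θ ∈ principalBlock M N, ∃! χ : IrrCharacter G,
        χ ∈ principalBlock M G ∧ ∀ n : N, χ.1 n = θ.1 n := by
  haveI := Fintype.ofFinite G
  haveI := Fintype.ofFinite N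
  have hmax : M.IsMaximal := hM.2.1
  have hirr : ∀ χ ∈ principalBlock M G, IsIrrCharacter N fun n : N => χ.1 n := fun χ hχ =>
    H11.isIrrCharacter_of_classInner_self
      (H11.isCharacter_restrict (H11.irr_isCharacter χ) N)
      (by rw [dade_inner_res hM hidx P hsup hχ hχ, H11.classInner_irr_self χ.2])
  refine ⟨fun χ hχ => ⟨⟨_, hirr χ hχ⟩, mem_principal_of_over hmax hχ
    (over_of_res_eq fun _ => rfl), fun _ => rfl⟩, fun θ hθ => ?_⟩
  obtain ⟨χ, hχ, ho⟩ := (covers_principal (N := N) hmax).exists_over hmax isPBlock_principalBlock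
    isPBlock_principalBlock hθ
  have h1 := eq_of_over_of_res_eq (θ := ⟨_, hirr χ hχ⟩) (fun _ => rfl) ho
  refine ⟨χ, ⟨hχ, fun n => by rw [h1]⟩, fun ψ hψ => ?_⟩
  have h2 := dade_inner_res hM hidx P hsup hψ.1 hχ
  have h3 : (fun n : N => ψ.1 n) = fun n : N => χ.1 n := by
    ext n; rw [hψ.2, h1]
  rw [h3, H11.classInner_irr_self (hirr χ hχ)] at h2
  exact Subtype.ext (H11.irr_eq_of_classInner_ne_zero ψ.2 χ.2 (h2 ▸ one_ne_zero))

end Blocks

end Cfsg.Agent.H22
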