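/-
S1758, piece T4: the `HS` endgame.
-/
import Cfsg.Agent.H22.SyHb
import Cfsg.Agent.H22.SyI
import Cfsg.Agent.H62.ElemAb
import Cfsg.Agent.H17.HSZ

set_option autoImplicit false

namespace Cfsg.Agent.H22.SyH

open Subgroup Cfsg.Agent.H71.Sy

universe u

variable {G : Type u} [Group G] [Finite G] {i j k z t m : G}

theorem lin_map (R : U →ₗ[ZMod 2] U) : lin (R e1) (R e2) (R e3) (R e4) = R := by
  funext u
  conv_rhs => rw [← lin_e u]
  simp only [lin, map_add, map_smul]

theorem Iso.ne {R : U →ₗ[ZMod 2] U} (h : Iso R) {u : U} (hu : u ≠ 0) : R u ≠ 0 := fun e =>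
  hu (Bf_nondeg u fun v => by rw [← h u v, e]; simp [Bf])

theorem Co.exists_sigma (C : Co i j k z t) :
    ∃ σ : centralizer ({z} : Set G) →* Equiv.Perm (Fin 5), Function.Surjective σ ∧
      (∀ x, σ x = 1 ↔ (x : G) ∈ OC z) ∧ ∀ x u, u ≠ 0 → σ x (β u) = β (C.ρ x u) := by
  classical
  have hz : ∀ x : centralizer ({z} : Set G), (x : G) * z = z * x := fun x =>
    mem_centralizer_singleton_iff.1 x.2
  have key : ∀ (x : centralizer ({z} : Set G)) u, u ≠ 0 →
      β (C.ρ x (PP (β u))) = β (C.ρ x u) := fun x u hu =>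
    C.blk (hz x) _ (β_PP _).2 _ hu (β_PP _).1
  let s : centralizer ({z} : Set G) →* Function.End (Fin 5) :=
    { toFun := fun x a => β (C.ρ x (PP a))
      map_one' := funext fun a => by
        change β (C.ρ 1 (PP a)) = a
        rw [(C.ρ_eq (by simp)).2 (one_mem _), (β_PP a).1]
      map_mul' := fun x y => funext fun a => by
        change β (C.ρ (x * y) (PP a)) = β (C.ρ x (PP (β (C.ρ y (PP a)))))
        rw [key x _ ((C.iso (hz y)).ne (β_PP a).2), C.ρ_mul (hz x) (hz y)] }
  have hs : ∀ x a, s.toHomPerm x a = β (C.ρ x (PP a)) := fun _ _ => rfl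
  refine ⟨s.toHomPerm, ?_, fun x => ⟨fun h => ?_, fun h => ?_⟩, key⟩
  · have mk : ∀ {g} (hg : g * z = z * g) {c : Equiv.Perm (Fin 5)}, (∀ a, β (C.ρ g (PP a)) = c a) →
        c ∈ s.toHomPerm.range := fun hg c h =>
      ⟨⟨_, mem_centralizer_singleton_iff.2 hg⟩, Equiv.ext h⟩
    obtain ⟨g1, a1, b1⟩ := C.tau (u := e1) (v := e2) (by decide) (by decide) (by decide) (by decide)
    obtain ⟨g2, a2, b2⟩ := C.tau (u := e2) (v := e2 + e1) (by decide) (by decide) (by decide)
      (by decide)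
    obtain ⟨g3, a3, b3⟩ := C.tau (u := e1) (v := e1 + e2) (by decide) (by decide) (by decide)
      (by decide)
    obtain ⟨g4, a4, b4⟩ := C.tau (u := e3) (v := e3 + e4) (by decide) (by decide) (by decide)
      (by decide)
    obtain ⟨y, a5, b5, b6⟩ := C.swap
    have h5 : c5 ∈ s.toHomPerm.range := mk (Commute.mul_left a1 a4).eq fun a => by
      rw [C.ρ_mul a1 a4, b1, b4, D7.1]
    have h2 : Equiv.swap 3 4 ∈ s.toHomPerm.range := by
      have e := lin_map (C.ρ y)
      rw [b5, b6] at e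
      have d := D6 (C.ρ y e3) (C.ρ y e4)
      rw [e] at d
      rcases d (C.iso a5) (C.blk a5) with h | h | h | h
      · exact mk a5 h
      · exact mk (Commute.mul_left a1 a5).eq fun a => by rw [C.ρ_mul a1 a5, b1, h]
      · exact mk (Commute.mul_left a2 a5).eq fun a => by rw [C.ρ_mul a2 a5, b2, h]
      · exact mk (Commute.mul_left a3 a5).eq fun a => by rw [C.ρ_mul a3 a5, b3, h]
    have : Fact (Nat.Prime 5) := ⟨by norm_num⟩
    refine MonoidHom.range_eq_top.1 (Equiv.Perm.subgroup_eq_top_of_swap_mem (by simpa using this.out)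
      ?_ h2 ⟨3, 4, by decide, rfl⟩)
    rw [Fintype.card_fin, ← Nat.card_eq_fintype_card]
    exact (orderOf_eq_prime D7.2.1 D7.2.2).symm.dvd.trans (orderOf_dvd_natCard _ h5)
  · have h1 : ∀ u, u ≠ 0 → β (C.ρ x u) = β u := fun u hu => by
      rw [← key x u hu, ← hs, h, Equiv.Perm.one_apply]
    have := D4 _ (h1 e1 (by decide)) _ (h1 e2 (by decide)) _ (h1 e3 (by decide)) _
      (h1 e4 (by decide))
    rw [lin_map] at this
    exact (C.ρ_eq (hz x)).1 (this (C.iso (hz x)) h1)
  · ext a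
    rw [hs, (C.ρ_eq (hz x)).2 h, (β_PP a).1, Equiv.Perm.one_apply]

theorem Co.card_W (C : Co i j k z t) (s : Rs i z) : Nat.card (OC z) = 64 := by
  let φ : OC z →* Multiplicative U := MonoidHom.mk' (fun x => Multiplicative.ofAdd (C.π x))
    fun x y => congrArg Multiplicative.ofAdd (C.π_mul x.2 y.2)
  have h1 : φ.ker = (zpowers i).subgroupOf (OC z) := Subgroup.ext fun x => C.π_zero x.2
  have h2 : φ.range = ⊤ := MonoidHom.range_eq_top.2 fun v => by
    obtain ⟨x, hx, e⟩ := C.π_surj v.toAdd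
    exact ⟨⟨x, hx⟩, congrArg Multiplicative.ofAdd e⟩
  have h3 : orderOf i = 2 ^ (1 + 1) := orderOf_eq_prime_pow (p := 2)
    (by rw [pow_one, pow_two, s.sq_eq]; exact s.ne) (by rw [← s.four, ← pow_two, ← pow_two, ← pow_mul]; rfl)
  have h := φ.ker.card_mul_index
  rw [index_ker, h1, h2, Nat.card_congr (subgroupOfEquivOfLe s.zp_le).toEquiv, Nat.card_zpowers, h3,
    card_top] at h
  rw [← h]
  simp

omit [Finite G] in
theorem card_adj {A : Subgroup G} {b : G} (hn : ∀ x ∈ A, b * x * b⁻¹ ∈ A) (hb : b * b ∈ A)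
    (h : b ∉ A) : Nat.card (SyI.adj A b hn hb) = Nat.card A * 2 := by
  have h1 : A ≤ SyI.adj A b hn hb := fun x hx => Or.inl hx
  have h2 : A.relIndex (SyI.adj A b hn hb) = 2 :=
    relIndex_eq_two_iff_exists_notMem_and.2 ⟨b⁻¹, inv_mem (Or.inr (by simp)), by simpa using h,
      fun x hx => hx.symm⟩
  have h3 := (A.subgroupOf (SyI.adj A b hn hb)).card_mul_index
  rw [Nat.card_congr (subgroupOfEquivOfLe h1).toEquiv] at h3
  rw [← h3]
  exact congrArg _ h2

theorem exists_B (l : Ln i j k z t) (h1 : ¬ InL z t (i * j * k)) :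
    ∃ B : Subgroup G, Nat.card B = 8 ∧ ∀ x, x ∈ B ↔ InL z t x ∨ InL z t (x * (i * j * k)) := by
  have hz : ∀ x ∈ zpowers z, t * x * t⁻¹ = x := fun x hx => by
    rw [SyI.comm_of_zpowers hx l.tz, mul_inv_cancel_right]
  let L := SyI.adj (zpowers z) t (fun x hx => (hz x hx).symm ▸ hx) (l.rj.zz ▸ one_mem _)
  have hL : ∀ x, x ∈ L ↔ InL z t x := fun x => by
    simp only [L, SyI.mem_adj, H49.mem_zpowers_invol l.ri.zz, InL, mul_inv_eq_iff_eq_mul, one_mul,
      or_assoc]
  have hf : ∀ x ∈ L, i * j * k * x * (i * j * k)⁻¹ = x := fun x hx => by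
    rw [mul_inv_eq_iff_eq_mul]
    rcases (hL x).1 hx with rfl | rfl | rfl | rfl
    · simp
    · exact OC_comm l.fW
    · exact OC_comm l.fW2
    · exact (Commute.mul_right (OC_comm l.fW) (OC_comm l.fW2)).eq
  refine ⟨SyI.adj L _ (fun x hx => (hf x hx).symm ▸ hx) (l.ff ▸ one_mem _), ?_, fun x => ?_⟩
  · rw [card_adj _ _ fun h => h1 ((hL _).1 h), card_adj _ _ fun h =>
      ((H49.mem_zpowers_invol l.ri.zz).1 h).elim l.rj.ne l.ne,
      H49.card_zpowers_invol l.ri.ne l.ri.zz]
  · rw [SyI.mem_adj, hL, hL, inv_eq_of_mul_eq_one_right l.ff]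

open Cfsg.Agent.H17.HS Cfsg.Agent.H44 Cfsg.Agent.H70 in
theorem exists_MD' {V M : Subgroup G} (hM : M = normalizer (V : Set G)) {A : Subgroup M}
    [A.Normal] (hA : AH A) (hV : {v : M | v ∈ A ∧ v * v = 1} = V.subgroupOf M) (eM : M ⧸ A ≃* L3)
    {z : G} (hz : z ∈ V) (z1 : z ≠ 1) (hc : ∀ c : G, c ^ 7 = 1 → c ≠ 1 → c * z ≠ z * c) :
    ∃ a b e c d s : G, MD M V a b e c d s ∧ a * a = z := by
  have VM : V ≤ M := hM ▸ le_normalizer
  have hz' : (⟨z, VM hz⟩ : M) ∈ {v : M | v ∈ A ∧ v * v = 1} := hV.ge hz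
  obtain ⟨hX, a, b, e, c, d, s, h, hB, aa, c1, ss, k, hg⟩ := exists_gens hA eM (z := ⟨z, VM hz⟩)
    hz'.1 hz'.2 (fun e => z1 (congrArg Subtype.val e))
    fun c h7 h1 e => hc c (congrArg Subtype.val h7) (fun e => h1 (Subtype.ext e))
      (congrArg Subtype.val e)
  have r := h.toBR.regB hA hB c1 1 1 1
  have fd := H17.TB.fd r
  have ff := H17.TB.ff r
  simp only [lt] at fd ff
  have sq : ∀ x ∈ A, (x * x : G) ∈ V := fun x hx =>
    (hV.le ⟨mul_mem hx hx, by rw [← mul_assoc]; exact hA.four x hx⟩ : x * x ∈ V.subgroupOf M)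
  refine ⟨a, b, e, c, d, s, ⟨⟨⟨congrArg Subtype.val h.a4, congrArg Subtype.val h.b4,
    congrArg Subtype.val h.e4, congrArg Subtype.val h.ab, congrArg Subtype.val h.ae,
    congrArg Subtype.val h.be, congrArg Subtype.val h.ca, congrArg Subtype.val h.cb,
    congrArg Subtype.val h.ce, congrArg Subtype.val h.c7, congrArg Subtype.val h.d3,
    congrArg Subtype.val h.dc, congrArg Subtype.val h.da⟩, congrArg Subtype.val h.sa,
    congrArg Subtype.val h.sb, congrArg Subtype.val h.se, congrArg Subtype.val h.sd,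
    congrArg Subtype.val h.db⟩, congrArg Subtype.val ss,
    k.imp (congrArg Subtype.val) (congrArg Subtype.val), fun x y => ?_, hX,
    congrArg Subtype.val fd, ⟨fun e => ff.1 (Subtype.ext e), fun e => ff.2.1 (Subtype.ext e),
      fun e => ff.2.2.1 (Subtype.ext e), fun e => ff.2.2.2 (Subtype.ext e)⟩, sq _ hB.mb, sq _ hB.me,
    fun x h1 h2 h3 => ?_⟩, congrArg Subtype.val aa⟩
  · refine le_antisymm (gen_le.2 fun i h1 h2 => ?_) ?_
    · interval_cases i
      exacts [a.2, inv_mem a.2, b.2, inv_mem b.2, e.2, inv_mem e.2, c.2, inv_mem c.2, d.2,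
        inv_mem d.2, s.2]
    · set g := lt (a : G) b e c d s x y
      rw [← subgroupOf_eq_top]
      exact hg _ (mem_gen g (x := 1) (by norm_num) (by norm_num))
        (mem_gen g (x := 3) (by norm_num) (by norm_num))
        (mem_gen g (x := 5) (by norm_num) (by norm_num))
        (mem_gen g (x := 7) (by norm_num) (by norm_num))
        (mem_gen g (x := 9) (by norm_num) (by norm_num))
        (mem_gen g (x := 11) (by norm_num) (by norm_num))
  · rw [hM]
    refine centralizer_le_normalizer _ (mem_centralizer_iff.2 fun v hv => Eq.symm ?_)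
    have hv' : (⟨v, VM hv⟩ : M) ∈ {v : M | v ∈ A ∧ v * v = 1} := hV.ge hv
    have om := H17.TA.om (h.toBR.regA hA hB 1 1 1) _ ((hB.gen6 c d 1 1 1).symm ▸ hv'.1) hv'.2
    simp only [lt, Subtype.ext_iff, coe_mul, coe_one, mul_assoc] at om
    change Commute x v
    rcases om with rfl | rfl | rfl | rfl | rfl | rfl | rfl | rfl
    exacts [Commute.one_right x, h1, h2, h3, by simpa only [mul_assoc] using h1.mul_right h2,
      by simpa only [mul_assoc] using h1.mul_right h3,
      by simpa only [mul_assoc] using h2.mul_right h3,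
      by simpa only [mul_assoc] using (h1.mul_right h2).mul_right h3]

theorem hs_case (l : Ln i j k z t) (h1 : ¬ InL z t (i * j * k)) (h2 : IsConj z (i * j * k)) :
    Cfsg.Spor.IsoHS G := by
  obtain ⟨C⟩ := exists_co l h1 h2
  obtain ⟨σ, σs, σk, σb⟩ := C.exists_sigma
  obtain ⟨B, B8, hB⟩ := exists_B l h1
  obtain ⟨m, rm⟩ := l.ri.of_isConj h2
  obtain ⟨mi, mj, mk⟩ := root_comm l rm
  have cW := C.card_W l.ri
  have cH : Nat.card (centralizer ({z} : Set G)) = 7680 := by
    have h := σ.ker.card_mul_index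
    rw [index_ker, MonoidHom.range_eq_top.2 σs, card_top, Nat.card_perm,
      show σ.ker = (OC z).subgroupOf _ from Subgroup.ext σk, Nat.card_congr (subgroupOfEquivOfLe
        fun x hx => mem_centralizer_singleton_iff.2 (OC_comm hx)).toEquiv, cW] at h
    rw [← h]
    simp [Nat.factorial]
  have rd : H17.HS.RD z i (OC z) := ⟨l.ri.ne, l.ri.zz, cH, cW, fun h hh r hr => OC_conj hh hr,
    l.ri.sq, fun x hx y hy => l.ri.comm hx hy, l.ri.mem, l.ri.sq_eq,
    fun r hr => (l.ri.cen r hr).symm, fun x hx h => l.ri.mem_zp.1 (l.ri.ctr x hx h), σ, σs, σk⟩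
  have ff := l.ff
  have fW := l.fW
  have fW2 := l.fW2
  have πf := C.π_f
  have fc := f_comm l
  generalize hf : i * j * k = f at *
  have zB : z ∈ B := (hB z).2 (Or.inl (by simp [InL]))
  have tB : t ∈ B := (hB t).2 (Or.inl (by simp [InL]))
  have fB : f ∈ B := (hB f).2 (Or.inr (by simp [InL, ff]))
  have Ble : ∀ {K : Subgroup G}, z ∈ K → t ∈ K → f ∈ K → B ≤ K := fun {K} a b c x hx => by
    have : ∀ y, InL z t y → y ∈ K := by
      rintro y (rfl | rfl | rfl | rfl)
      exacts [one_mem _, a, b, mul_mem a b]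
    exact ((hB x).1 hx).elim (this x) fun h => (mul_mem_cancel_right c).1 (this _ h)
  have BW : B ≤ OC z := Ble l.ri.zmem l.tW fW
  have cB : ∀ {x}, x * z = z * x → x * t = t * x → x * f = f * x → x ∈ centralizer (B : Set G) :=
    fun a b c y hy => mem_centralizer_singleton_iff.1 (Ble (K := centralizer {_})
      (mem_centralizer_singleton_iff.2 a.symm) (mem_centralizer_singleton_iff.2 b.symm)
      (mem_centralizer_singleton_iff.2 c.symm) hy)
  have iA := cB l.ri.zi.symm l.it fc.1.symm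
  have jA := cB l.jz l.rj.zi.symm fc.2.1.symm
  have mA := cB (l.ri.comm_z_of_comm mi) (l.rj.comm_z_of_comm mj) rm.zi.symm
  have BA : B ≤ centralizer (B : Set G) :=
    Ble (l.ri.sq_eq ▸ mul_mem iA iA) (l.rj.sq_eq ▸ mul_mem jA jA) (rm.sq_eq ▸ mul_mem mA mA)
  have BB : ∀ x ∈ B, x * x = 1 := fun x hx => by
    rcases (hB x).1 hx with h | h
    · exact l.inL_sq h
    · have := l.inL_sq h
      rwa [mul_assoc, ← mul_assoc f, BA hx f fB, mul_assoc, ff, mul_one] at this
  have πz : C.π z = 0 := (C.π_zero l.ri.zmem).2 l.ri.z_zp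
  have π1 : C.π 1 = 0 := (C.π_zero (one_mem _)).2 (one_mem _)
  have βB : ∀ x ∈ B, β (C.π x) = 0 := fun x hx => by
    have : ∀ y, InL z t y → C.π y = 0 ∨ C.π y = e1 + e2 := by
      rintro y (rfl | rfl | rfl | rfl)
      exacts [Or.inl π1, Or.inl πz, Or.inr C.π_t,
        Or.inr (by rw [C.π_mul l.ri.zmem l.tW, πz, C.π_t, zero_add])]
    rcases (hB x).1 hx with h | h
    · rcases this x h with e | e <;> rw [e] <;> decide
    · have h3 := this _ h
      rw [C.π_mul (BW hx) fW, πf] at h3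
      revert h3
      generalize C.π x = u
      revert u
      decide
  have MB : ∀ w ∈ OC z, β (C.π w) = 0 → ∃ e ∈ B, e * w ∈ zpowers i := fun w hw h => by
    have : ∀ e ∈ B, C.π e = C.π w → ∃ e ∈ B, e * w ∈ zpowers i := fun e he h => ⟨e, he,
      (C.π_zero (mul_mem (BW he) hw)).1 (by rw [C.π_mul (BW he) hw, h, add_self2])⟩
    rcases (D8 _).1 h with e | e | e | e
    · exact this 1 (one_mem _) (π1.trans e.symm)
    · exact this f fB (πf.trans e.symm)
    · exact this (t * f) (mul_mem tB fB) (by rw [C.π_mul l.tW fW, C.π_t, πf, e]; decide)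
    · exact this t tB (C.π_t.trans e.symm)
  have MB2 : ∀ w ∈ OC z, β (C.π w) = 0 → w * w = 1 → w ∈ B := fun w hw h h2 => by
    obtain ⟨e, he, h3⟩ := MB w hw h
    have c : e * w = w * e := by
      have := SyI.comm_of_zpowers h3 (iA e he)
      rw [mul_assoc, mul_left_cancel_iff] at this
      exact this
    refine (mul_mem_cancel_left he).1 ?_
    rcases l.ri.of_zp_sq h3 (by
      rw [mul_assoc, ← mul_assoc w, ← c, mul_assoc, h2, mul_one, BB e he]) with a | a <;> rw [a]
    · exact one_mem _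
    · exact zB
  have dec : ∀ x ∈ centralizer (B : Set G), ∃ a, (a = 1 ∨ a = j ∨ a = m ∨ a = j * m) ∧
      a⁻¹ * x ∈ OC z ∧ β (C.π (a⁻¹ * x)) = 0 := fun x hx => by
    have xz := (hx z zB).symm
    have r1 : C.ρ x e1 = e1 := by
      rw [← πf, C.ρ_π xz fW, ← hx f fB, mul_inv_cancel_right]
    have r2 : C.ρ x e2 = e2 := by
      have := C.ρ_π xz l.tW
      rwa [← hx t tB, mul_inv_cancel_right, C.π_t, map_add, r1, add_right_inj] at this
    have key : ∀ a ∈ centralizer (B : Set G), (∀ u, C.ρ x u = C.ρ a u) →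
        a⁻¹ * x ∈ OC z ∧ β (C.π (a⁻¹ * x)) = 0 := fun a ha h => by
      have az := (ha z zB).symm
      have az' := SyI.inv_comm az
      have hw : a⁻¹ * x ∈ OC z := (C.ρ_eq (Commute.mul_left az' xz).eq).1 fun u => by
        rw [C.ρ_mul az' xz, h, ← C.ρ_mul az' az, inv_mul_cancel,
          (C.ρ_eq (by simp)).2 (one_mem _)]
      have hc := mul_mem (inv_mem ha) hx
      have b1 := (C.b_eq hw fW).2 (hc f fB).symm
      have b2 := (C.b_eq hw (mul_mem l.tW fW)).2 (hc _ (mul_mem tB fB)).symm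
      rw [C.π_mul l.tW fW, C.π_t, πf, show e1 + e2 + e1 = e2 by decide] at b2
      rw [πf] at b1
      exact ⟨hw, D9 _ b1 b2⟩
    have e := lin_map (C.ρ x)
    rw [r1, r2] at e
    have d := D5 (C.ρ x e3) (C.ρ x e4)
    rw [e] at d
    have rm' : Rs m (i * j * k) := hf ▸ rm
    rcases d (C.iso xz) (C.blk xz) with h | h | h | h
    · exact ⟨1, by simp, key 1 (one_mem _) fun u => by rw [h, (C.ρ_eq (by simp)).2 (one_mem _)]⟩
    · exact ⟨j, by simp, key j jA fun u => by rw [h, C.ρ_j]⟩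
    · exact ⟨m, by simp, key m mA fun u => by rw [h, C.ρ_m rm']⟩
    · exact ⟨j * m, by simp, key _ (mul_mem jA mA) fun u => by
        rw [h, C.ρ_mul l.jz (l.ri.comm_z_of_comm mi), C.ρ_j, C.ρ_m rm']⟩
  have Ale : ∀ {K : Subgroup G}, i ∈ K → j ∈ K → m ∈ K → centralizer (B : Set G) ≤ K :=
    fun {K} a b c x hx => by
      obtain ⟨y, hy, hw, h⟩ := dec x hx
      obtain ⟨e, he, h3⟩ := MB _ hw h
      have := (mul_mem_cancel_left (Ble (l.ri.sq_eq ▸ mul_mem a a) (l.rj.sq_eq ▸ mul_mem b b)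
        (rm.sq_eq ▸ mul_mem c c) he)).1 (zpowers_le.2 a h3)
      refine (mul_mem_cancel_left (inv_mem ?_)).1 this
      rcases hy with rfl | rfl | rfl | rfl
      exacts [one_mem _, b, c, mul_mem b c]
  have mc : ∀ {x y : G}, x * y = y * x → x ∈ centralizer ({y} : Set G) :=
    fun h => mem_centralizer_singleton_iff.2 h
  have Ac : ∀ x ∈ centralizer (B : Set G), ∀ y ∈ centralizer (B : Set G), x * y = y * x := by
    intro x hx y hy
    refine mem_centralizer_singleton_iff.1 (Ale (mc ?_) (mc ?_) (mc ?_) hx) <;> symm <;>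
      refine mem_centralizer_singleton_iff.1 (Ale ?_ ?_ ?_ hy)
    exacts [mc rfl, mc l.ij, mc mi, mc l.ij.symm, mc rfl, mc mj, mc mi.symm, mc mj.symm, mc rfl]
  have om : ∀ x ∈ centralizer (B : Set G), x * x = 1 → x ∈ B := fun x hx h2 => by
    obtain ⟨a, ha, hw, h⟩ := dec x hx
    have key : a ∈ centralizer (B : Set G) → a * a = 1 ∨ a * a = z := fun aA => by
      have e : a⁻¹ * x * (a⁻¹ * x) = (a * a)⁻¹ := by
        rw [mul_assoc, ← mul_assoc x, Ac x hx _ (inv_mem aA), mul_assoc, h2]; group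
      have := l.ri.sq _ hw
      rwa [e, inv_eq_one, inv_eq_iff_eq_inv, l.ri.zinv] at this
    rcases ha with rfl | rfl | rfl | rfl
    · rw [inv_one, one_mul] at hw h
      exact MB2 x hw h h2
    · exact absurd (l.rj.sq_eq ▸ key jA) (not_or.2 ⟨l.rj.ne, l.ne⟩)
    · exact absurd (rm.sq_eq ▸ key mA) fun e => h1 (by rcases e with e | e <;> simp [InL, e])
    · have e : j * m * (j * m) = t * f := by
        rw [mul_assoc, ← mul_assoc m, mj, ← l.rj.sq_eq, ← rm.sq_eq]; group
      refine absurd (e ▸ key (mul_mem jA mA)) fun e => h1 ?_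
      rcases e with e | e <;> rw [← eq_inv_mul_iff_mul_eq, l.rj.zinv] at e
      · simp [InL, e]
      · simp [InL, e, l.tz]
  let sq : centralizer (B : Set G) →* G := MonoidHom.mk' (fun x => x * x) fun x y => by
    simp only [coe_mul]
    rw [mul_assoc, ← mul_assoc (y : G), Ac _ y.2 _ x.2]; group
  have sqr : sq.range = B := by
    refine le_antisymm ?_ (Ble ⟨⟨i, iA⟩, l.ri.sq_eq⟩ ⟨⟨j, jA⟩, l.rj.sq_eq⟩ ⟨⟨m, mA⟩, rm.sq_eq⟩)
    rintro _ ⟨x, rfl⟩
    have : centralizer (B : Set G) ≤ (B.comap sq).map (centralizer (B : Set G)).subtype :=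
      Ale ⟨⟨i, iA⟩, show i * i ∈ B from l.ri.sq_eq ▸ zB, rfl⟩
        ⟨⟨j, jA⟩, show j * j ∈ B from l.rj.sq_eq ▸ tB, rfl⟩
        ⟨⟨m, mA⟩, show m * m ∈ B from rm.sq_eq ▸ fB, rfl⟩
    obtain ⟨y, hy, e⟩ := this x.2
    exact (Subtype.ext e : y = x) ▸ hy
  have cA : Nat.card (centralizer (B : Set G)) = 64 := by
    have h := sq.ker.card_mul_index
    rw [index_ker, sqr, show sq.ker = B.subgroupOf _ from Subgroup.ext fun x =>
      ⟨om x x.2, BB x⟩, Nat.card_congr (subgroupOfEquivOfLe BA).toEquiv, B8] at h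
    exact h.symm
  obtain ⟨M, hM⟩ : ∃ M, M = normalizer (B : Set G) := ⟨_, rfl⟩
  have BM : B ≤ M := hM ▸ le_normalizer
  have AM : centralizer (B : Set G) ≤ M := hM ▸ centralizer_le_normalizer _
  have hN : (B.subgroupOf M).Normal := by subst hM; infer_instance
  obtain ⟨d, hd3, φ, hφ⟩ := H62.exists_hom_GL_ker_eq_centralizer (B.subgroupOf M) (p := 2)
    ⟨⟨fun x y => Subtype.ext (Subtype.ext (BA y.2 _ x.2))⟩⟩
    fun x hx => Subtype.ext ((pow_two _).trans (BB x hx))
  rw [Nat.card_congr (subgroupOfEquivOfLe BM).toEquiv, B8] at hd3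
  obtain rfl : 3 = d := Nat.pow_right_injective (le_refl 2) hd3
  have hk : φ.ker = (centralizer (B : Set G)).subgroupOf M := by
    rw [hφ]
    ext x
    exact ⟨fun a y hy => congrArg Subtype.val (a ⟨y, BM hy⟩ hy), fun a y hy => Subtype.ext (a y hy)⟩
  have cK : Nat.card φ.ker = 64 := by
    rw [hk, Nat.card_congr (subgroupOfEquivOfLe AM).toEquiv, cA]
  have φs : Function.Surjective φ := by
    have c1 := φ.ker.card_mul_index
    rw [index_ker, cK] at c1
    have c2 := H7.card_inf_mul_relIndex M (centralizer ({z} : Set G))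
    have c5 : M.relIndex (centralizer ({z} : Set G)) = 5 := by
      have : M.subgroupOf (centralizer ({z} : Set G)) =
          (MulAction.stabilizer (Equiv.Perm (Fin 5)) (0 : Fin 5)).comap σ := by
        ext x
        have xz := mem_centralizer_singleton_iff.1 x.2
        change (x : G) ∈ M ↔ σ x 0 = 0
        rw [hM]
        constructor
        · intro h
          have := σb x e1 (by decide)
          rw [← πf, C.ρ_π xz fW, βB _ ((mem_normalizer_iff.1 h f).1 fB), βB f fB] at this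
          exact this
        · intro h
          refine mem_normalizer_fintype fun y hy => MB2 _ (OC_conj xz (BW hy)) ?_ (by
            rw [conj_mul, BB y hy]; group)
          rw [← C.ρ_π xz (BW hy)]
          by_cases h0 : C.π y = 0
          · rw [h0, map_zero]; decide
          · rw [← σb x _ h0, βB y hy, h]
      rw [relIndex, this, index_comap_of_surjective _ σs, MulAction.index_stabilizer_of_transitive]
      simp
    have c3 := H7.card_inf_mul_relIndex (centralizer ({z} : Set G)) M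
    have c4 : (centralizer ({z} : Set G)).relIndex M ≠ 1 := fun h => by
      obtain ⟨y, hy, e⟩ := l.rj.exists_conj l.zW (l.rj.inv_not_zp l.ri.zz l.ri.ne l.ne.symm)
      have yM : y ∈ M := hM ▸ mem_normalizer_fintype fun x hx => by
        rcases l.rj.conj hy (Ble l.zW l.rj.zmem fW2 hx) with a | a <;> rw [a]
        exacts [hx, mul_mem hx tB]
      rw [mem_centralizer_singleton_iff.1 (relIndex_eq_one.1 h yM), mul_inv_cancel_right] at e
      exact l.rj.ne (left_eq_mul.1 e)
    have c6 := φ.range.card_subgroup_dvd_card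
    rw [H91.card_GL3] at c6
    have c7 : Nat.card φ.range = 24 * (centralizer ({z} : Set G)).relIndex M := by
      rw [inf_comm] at c3
      rw [c5, cH] at c2
      generalize (centralizer ({z} : Set G)).relIndex M = n at *
      have : Nat.card ↥(M ⊓ centralizer ({z} : Set G)) = 1536 := by omega
      rw [this] at c3
      omega
    rw [c7, show 168 = 24 * 7 from rfl, Nat.mul_dvd_mul_iff_left (by norm_num),
      Nat.dvd_prime (by norm_num)] at c6
    rw [c6.resolve_left c4] at c7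
    exact MonoidHom.range_eq_top.1 (eq_top_of_card_eq _ (c7.trans H91.card_GL3.symm))
  have hV : {v : M | v ∈ φ.ker ∧ v * v = 1} = B.subgroupOf M := by
    rw [hk]
    ext v
    exact ⟨fun h => om v h.1 (congrArg Subtype.val h.2), fun h => ⟨BA h, Subtype.ext (BB v h)⟩⟩
  have hA : H17.HS.AH φ.ker := by
    refine ⟨?_, ?_, ?_, cK, ?_⟩
    · rw [hk]
      exact fun x hx y hy => Subtype.ext (Ac x hx y hy)
    · rw [hk]
      intro x hx
      have := BB _ (sqr.le ⟨⟨x, hx⟩, rfl⟩)
      exact Subtype.ext (by rw [mul_assoc]; exact this)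
    · intro v hv h
      obtain ⟨x, hx⟩ := sqr.ge (hV.le ⟨hv, h⟩ : v ∈ B.subgroupOf M)
      exact ⟨⟨x, AM x.2⟩, hk.ge x.2, Subtype.ext hx⟩
    · rw [hV, ← B8, ← Nat.card_congr (subgroupOfEquivOfLe BM).toEquiv]
      rfl
  obtain ⟨a, b, e, c, d, s, h, rfl⟩ := exists_MD' hM hA hV
    (QuotientGroup.quotientKerEquivOfSurjective φ φs) zB rd.z1 rd.seven
  have RM : OC (a * a) ≤ M := hM ▸ rd.le_normalizer BW zB
  exact H17.HS.Ctx.isoHS ⟨h, rd.of_MD h RM, BW, RM⟩

end Cfsg.Agent.H22.SyH
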