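import Mathlib

/-! The "logarithmic derivative" `D` of an additive function `b` of the characteristic polynomial:
`∑_{W invariant} D(g|W) = b(χ_g)`; its primitivity (vanishing of Harish-Chandra restrictions). -/

namespace Cfsg.Agent.H22.Cusp
open Polynomial Module

universe u v w
variable {F : Type u} [Field F]

section Basic
variable {V : Type v} [AddCommGroup V] [Module F V]

/-- `W` is `g`-invariant -/
def Inv (g : End F V) (W : Submodule F V) : Prop := ∀ x ∈ W, g x ∈ W

theorem inv_top (g : End F V) : Inv g ⊤ := fun _ _ => trivial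
theorem inv_bot (g : End F V) : Inv g ⊥ := fun x hx => by
  rw [Submodule.mem_bot] at hx ⊢; rw [hx, map_zero]

variable [Finite V]

/-- the invariant subspaces of `W` -/
noncomputable def invs (g : End F V) (W : Submodule F V) : Finset (Submodule F V) :=
  (Set.toFinite {X | X ≤ W ∧ Inv g X}).toFinset

theorem mem_invs {g : End F V} {W X : Submodule F V} : X ∈ invs g W ↔ X ≤ W ∧ Inv g X := by
  simp [invs]

open Classical in
/-- characteristic polynomial on an invariant subspace -/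
noncomputable def chp (g : End F V) (W : Submodule F V) : F[X] :=
  if h : Inv g W then (g.restrict h).charpoly else 1

theorem chp_eq {g : End F V} {W : Submodule F V} (h : Inv g W) :
    chp g W = (g.restrict h).charpoly := dif_pos h

open Classical in
/-- the Möbius transform of `b ∘ chp` -/
noncomputable def Dr (b : F[X] → ℂ) (g : End F V) (W : Submodule F V) : ℂ :=
  b (chp g W) - ∑ X ∈ ((invs g W).erase W).attach, Dr b g X.1
termination_by finrank F W
decreasing_by
  have := X.2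
  rw [Finset.mem_erase, mem_invs] at this
  exact Submodule.finrank_lt_finrank_of_lt (lt_of_le_of_ne this.2.1 this.1)

variable (b : F[X] → ℂ)

open Classical in
theorem Dr_eq (g : End F V) (W : Submodule F V) :
    Dr b g W = b (chp g W) - ∑ X ∈ (invs g W).erase W, Dr b g X := by
  rw [Dr, Finset.sum_attach ((invs g W).erase W) (fun X => Dr b g X)]

theorem sum_Dr {g : End F V} {W : Submodule F V} (h : Inv g W) :
    ∑ X ∈ invs g W, Dr b g X = b (chp g W) := by
  classical
  rw [← Finset.add_sum_erase _ _ (mem_invs.2 ⟨le_rfl, h⟩), Dr_eq]; ring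

theorem Dr_unique {g : End F V} (E : Submodule F V → ℂ)
    (hE : ∀ W, Inv g W → ∑ X ∈ invs g W, E X = b (chp g W)) {W : Submodule F V} (h : Inv g W) :
    E W = Dr b g W := by
  classical
  induction W using WellFoundedLT.induction with
  | _ W ih =>
    have h1 := hE W h
    rw [← Finset.add_sum_erase _ _ (mem_invs.2 ⟨le_rfl, h⟩)] at h1
    rw [Dr_eq, ← h1, Finset.sum_congr rfl fun X hX => ih X ?_ ?_]
    · ring
    · rw [Finset.mem_erase, mem_invs] at hX
      exact lt_of_le_of_ne hX.2.1 hX.1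
    · rw [Finset.mem_erase, mem_invs] at hX
      exact hX.2.2

variable {V' : Type w} [AddCommGroup V'] [Module F V'] [Finite V']

omit [Finite V] [Finite V'] in
theorem inv_map_iff {g : End F V} {g' : End F V'} {φ : V →ₗ[F] V'} (hφ : Function.Injective φ)
    (hc : ∀ x, φ (g x) = g' (φ x)) {W : Submodule F V} : Inv g' (W.map φ) ↔ Inv g W := by
  constructor
  · intro h x hx
    obtain ⟨y, hy, e⟩ := h _ ⟨x, hx, rfl⟩
    rw [← hc] at e
    exact hφ e ▸ hy
  · rintro h _ ⟨x, hx, rfl⟩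
    exact ⟨g x, h x hx, hc x⟩

theorem charpoly_eq_of_equiv {g : End F V} {g' : End F V'} (e : V ≃ₗ[F] V')
    (hc : ∀ x, e (g x) = g' (e x)) : g'.charpoly = g.charpoly := by
  rw [← e.charpoly_conj g]
  congr 1
  ext y
  obtain ⟨x, rfl⟩ := e.surjective y
  simp [LinearEquiv.conj_apply, hc]

theorem chp_map {g : End F V} {g' : End F V'} {φ : V →ₗ[F] V'} (hφ : Function.Injective φ)
    (hc : ∀ x, φ (g x) = g' (φ x)) {W : Submodule F V} (h : Inv g W) :
    chp g' (W.map φ) = chp g W := by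
  rw [chp_eq h, chp_eq ((inv_map_iff hφ hc).2 h)]
  exact charpoly_eq_of_equiv (Submodule.equivMapOfInjective φ hφ W) fun x =>
    Subtype.ext (hc x)

theorem sum_invs_map {g : End F V} {g' : End F V'} {φ : V →ₗ[F] V'} (hφ : Function.Injective φ)
    (hc : ∀ x, φ (g x) = g' (φ x)) (W : Submodule F V) (E : Submodule F V' → ℂ) :
    ∑ X ∈ invs g W, E (X.map φ) = ∑ Y ∈ invs g' (W.map φ), E Y := by
  refine Finset.sum_bij (fun X _ => X.map φ) ?_ ?_ ?_ (fun _ _ => rfl)
  · intro X hX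
    rw [mem_invs] at hX ⊢
    exact ⟨Submodule.map_mono hX.1, (inv_map_iff hφ hc).2 hX.2⟩
  · intro X _ Y _ e
    exact Submodule.map_injective_of_injective hφ e
  · intro Y hY
    rw [mem_invs] at hY
    have e : (Y.comap φ).map φ = Y := Submodule.map_comap_eq_self
      (hY.1.trans (LinearMap.map_le_range))
    refine ⟨Y.comap φ, mem_invs.2 ⟨?_, (inv_map_iff hφ hc).1 (e.symm ▸ hY.2)⟩, e⟩
    rw [← Submodule.map_le_map_iff_of_injective hφ, e]; exact hY.1

theorem Dr_map {g : End F V} {g' : End F V'} {φ : V →ₗ[F] V'} (hφ : Function.Injective φ)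
    (hc : ∀ x, φ (g x) = g' (φ x)) {W : Submodule F V} (h : Inv g W) :
    Dr b g' (W.map φ) = Dr b g W :=
  Dr_unique b (fun X => Dr b g' (X.map φ)) (fun W hW => by
    rw [sum_invs_map hφ hc W (Dr b g'), sum_Dr b ((inv_map_iff hφ hc).2 hW), chp_map hφ hc hW]) h

/-- the function `D` -/
noncomputable def DD (g : End F V) : ℂ := Dr b g ⊤

theorem chp_top (g : End F V) : chp g ⊤ = g.charpoly := by
  rw [chp_eq (inv_top g)]
  exact (charpoly_eq_of_equiv Submodule.topEquiv fun _ => rfl).symm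

theorem DD_eq_Dr {g : End F V} {g' : End F V'} {φ : V →ₗ[F] V'} (hφ : Function.Injective φ)
    (hc : ∀ x, φ (g x) = g' (φ x)) : DD b g = Dr b g' (LinearMap.range φ) := by
  rw [DD, ← Dr_map b hφ hc (inv_top g), Submodule.map_top]

theorem DD_restrict {g : End F V} {W : Submodule F V} (h : Inv g W) :
    DD b (g.restrict h) = Dr b g W := by
  rw [DD_eq_Dr b (g' := g) W.injective_subtype (fun _ => rfl), Submodule.range_subtype]

theorem DD_congr {g : End F V} {g' : End F V'} {φ : V →ₗ[F] V'} (hφ : Function.Bijective φ)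
    (hc : ∀ x, φ (g x) = g' (φ x)) : DD b g = DD b g' := by
  rw [DD_eq_Dr b hφ.1 hc, LinearMap.range_eq_top.2 hφ.2, DD]

theorem sum_DD (g : End F V) : ∑ X ∈ invs g ⊤, Dr b g X = b g.charpoly := by
  rw [sum_Dr b (inv_top g), chp_top]

theorem Dr_bot (hb : b 1 = 0) (g : End F V) : Dr b g ⊥ = 0 := by
  classical
  have h1 := sum_Dr b (inv_bot g)
  have : invs g ⊥ = {⊥} := by
    ext X; simp only [mem_invs, le_bot_iff, Finset.mem_singleton]
    exact ⟨fun h => h.1, fun h => ⟨h, h ▸ inv_bot g⟩⟩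
  rw [this, Finset.sum_singleton, chp_eq (inv_bot g)] at h1
  rw [h1, ← hb]
  congr 1
  exact (LinearMap.charpoly_monic _).natDegree_eq_zero.1 (by simp [LinearMap.charpoly_natDegree])

end Basic

section Prim
variable {V₁ V₂ : Type v} [AddCommGroup V₁] [Module F V₁] [AddCommGroup V₂] [Module F V₂]

/-- block upper triangular endomorphism -/
def tri (a : End F V₁) (d : End F V₂) (c : V₂ →ₗ[F] V₁) : End F (V₁ × V₂) :=
  (a.coprod c).prod (d ∘ₗ LinearMap.snd F V₁ V₂)

@[simp] theorem tri_apply (a : End F V₁) (d : End F V₂) (c : V₂ →ₗ[F] V₁) (x : V₁ × V₂) :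
    tri a d c x = (a x.1 + c x.2, d x.2) := rfl

theorem charpoly_tri [Finite V₁] [Finite V₂] (a : End F V₁) (d : End F V₂) (c : V₂ →ₗ[F] V₁) :
    (tri a d c).charpoly = a.charpoly * d.charpoly := by
  let b₁ := Module.Free.chooseBasis F V₁
  let b₂ := Module.Free.chooseBasis F V₂
  rw [← LinearMap.charpoly_toMatrix a b₁, ← LinearMap.charpoly_toMatrix d b₂,
    ← LinearMap.charpoly_toMatrix _ (b₁.prod b₂),
    ← Matrix.charpoly_fromBlocks_zero₂₁ _ (LinearMap.toMatrix b₂ b₁ c)]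
  congr 1
  ext (i | i) (j | j) <;> simp [LinearMap.toMatrix_apply]

/-- the shear attached to `s` -/
def shear (s : V₂ →ₗ[F] V₁) : End F (V₁ × V₂) := tri 1 1 s

theorem shear_inj (s : V₂ →ₗ[F] V₁) : Function.Injective (shear s) := by
  rintro ⟨x, y⟩ ⟨x', y'⟩ h
  simp only [shear, tri_apply, End.one_apply, Prod.mk.injEq] at h
  obtain ⟨h1, rfl⟩ := h
  rw [add_right_cancel h1]

theorem shear_tri (a : End F V₁) (d : End F V₂) (c s : V₂ →ₗ[F] V₁) (x : V₁ × V₂) :
    shear s (tri a d c x) = tri a d (c + s ∘ₗ d - a ∘ₗ s) (shear s x) := by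
  simp [shear]; abel

theorem exists_shear (X : Submodule F (V₁ × V₂)) : ∃ s : V₂ →ₗ[F] V₁,
    X = ((X.comap (LinearMap.inl F V₁ V₂)).prod (X.map (LinearMap.snd F V₁ V₂))).map (shear s) := by
  let π : X →ₗ[F] X.map (LinearMap.snd F V₁ V₂) :=
    (LinearMap.snd F V₁ V₂).submoduleMap X
  obtain ⟨σ, hσ⟩ := π.exists_rightInverse_of_surjective
    (LinearMap.range_eq_top.2 (LinearMap.submoduleMap_surjective _ _))
  obtain ⟨s, hs⟩ := LinearMap.exists_extend (LinearMap.fst F V₁ V₂ ∘ₗ X.subtype ∘ₗ σ)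
  have key : ∀ y ∈ X.map (LinearMap.snd F V₁ V₂), (s y, y) ∈ X := by
    intro y hy
    have h1 := LinearMap.congr_fun hs ⟨y, hy⟩
    have h2 := congrArg Subtype.val (LinearMap.congr_fun hσ ⟨y, hy⟩)
    have : (s y, y) = (σ ⟨y, hy⟩ : V₁ × V₂) := Prod.ext h1 h2.symm
    rw [this]; exact (σ ⟨y, hy⟩).2
  refine ⟨s, le_antisymm ?_ ?_⟩
  · rintro ⟨x, y⟩ h
    have hy : y ∈ X.map (LinearMap.snd F V₁ V₂) := ⟨_, h, rfl⟩
    refine ⟨(x - s y, y), ⟨?_, hy⟩, by simp [shear]⟩
    simpa using X.sub_mem h (key y hy)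
  · rintro _ ⟨⟨x, y⟩, ⟨h1, h2⟩, rfl⟩
    simpa [shear] using X.add_mem h1 (key y h2)

theorem mem_map_shear {X₁ : Submodule F V₁} {X₂ : Submodule F V₂} {s : V₂ →ₗ[F] V₁}
    {x : V₁ × V₂} : x ∈ (X₁.prod X₂).map (shear s) ↔ x.1 - s x.2 ∈ X₁ ∧ x.2 ∈ X₂ := by
  constructor
  · rintro ⟨⟨x, y⟩, ⟨h1, h2⟩, rfl⟩
    simpa [shear] using ⟨h1, h2⟩
  · rintro ⟨h1, h2⟩
    exact ⟨(x.1 - s x.2, x.2), ⟨h1, h2⟩, by simp [shear]⟩

/-- maps sending `X₂` into `X₁` -/
def stabHom (X₁ : Submodule F V₁) (X₂ : Submodule F V₂) : AddSubgroup (V₂ →ₗ[F] V₁) where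
  carrier := {c | ∀ y ∈ X₂, c y ∈ X₁}
  add_mem' ha hb y hy := X₁.add_mem (ha y hy) (hb y hy)
  zero_mem' _ _ := X₁.zero_mem
  neg_mem' ha y hy := X₁.neg_mem (ha y hy)

theorem map_shear_eq_iff {X₁ Y₁ : Submodule F V₁} {X₂ Y₂ : Submodule F V₂} {s t : V₂ →ₗ[F] V₁} :
    (X₁.prod X₂).map (shear s) = (Y₁.prod Y₂).map (shear t) ↔
      X₁ = Y₁ ∧ X₂ = Y₂ ∧ s - t ∈ stabHom Y₁ Y₂ := by
  constructor
  · intro h
    have h' : ∀ x y, x - s y ∈ X₁ ∧ y ∈ X₂ ↔ x - t y ∈ Y₁ ∧ y ∈ Y₂ := fun x y => by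
      rw [← mem_map_shear (x := (x, y)), h, mem_map_shear]
    refine ⟨?_, ?_, fun y hy => ?_⟩
    · ext x; simpa using h' x 0
    · ext y
      exact ⟨fun hy => ((h' (s y) y).1 ⟨by simp, hy⟩).2, fun hy => ((h' (t y) y).2 ⟨by simp, hy⟩).2⟩
    · have h1 := ((h' (t y) y).2 ⟨by simp, hy⟩).2
      simpa using ((h' (s y) y).1 ⟨by simp, h1⟩).1
  · rintro ⟨rfl, rfl, h⟩
    ext ⟨x, y⟩
    simp only [mem_map_shear]
    refine and_congr_left fun hy => ?_
    have := h y hy
    rw [LinearMap.sub_apply] at this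
    constructor
    · intro h1; simpa using X₁.add_mem h1 this
    · intro h1; simpa using X₁.sub_mem h1 this

theorem inv_tri_prod {a : End F V₁} {d : End F V₂} {c : V₂ →ₗ[F] V₁} {X₁ : Submodule F V₁}
    {X₂ : Submodule F V₂} :
    Inv (tri a d c) (X₁.prod X₂) ↔ Inv a X₁ ∧ Inv d X₂ ∧ c ∈ stabHom X₁ X₂ := by
  constructor
  · intro h
    refine ⟨fun x hx => ?_, fun y hy => ?_, fun y hy => ?_⟩
    · simpa using (h (x, 0) ⟨hx, X₂.zero_mem⟩).1
    · simpa using (h (0, y) ⟨X₁.zero_mem, hy⟩).2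
    · simpa using (h (0, y) ⟨X₁.zero_mem, hy⟩).1
  · rintro ⟨h1, h2, h3⟩ ⟨x, y⟩ ⟨hx, hy⟩
    exact ⟨X₁.add_mem (h1 x hx) (h3 y hy), h2 y hy⟩

/-- restriction of a map stabilising `(X₁, X₂)` -/
def resHom (X₁ : Submodule F V₁) (X₂ : Submodule F V₂) : stabHom X₁ X₂ →+ (X₂ →ₗ[F] X₁) where
  toFun c := c.1.restrict c.2
  map_zero' := rfl
  map_add' _ _ := rfl

theorem resHom_surj (X₁ : Submodule F V₁) (X₂ : Submodule F V₂) :
    Function.Surjective (resHom X₁ X₂) := by
  intro f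
  obtain ⟨s, hs⟩ := LinearMap.exists_extend (X₁.subtype ∘ₗ f)
  have : ∀ y : X₂, s y = f y := fun y => LinearMap.congr_fun hs y
  exact ⟨⟨s, fun y hy => by rw [this ⟨y, hy⟩]; exact (f _).2⟩, by
    ext y; exact this y⟩

theorem sum_comp_surj {A B : Type*} [AddGroup A] [AddGroup B] [Fintype A] [Fintype B]
    (f : A →+ B) (hf : Function.Surjective f) (E : B → ℂ) :
    (Fintype.card B : ℂ) * ∑ x, E (f x) = Fintype.card A * ∑ y, E y := by
  classical
  have h : ∀ E : B → ℂ, ∑ x, E (f x) = (Nat.card f.ker : ℂ) * ∑ y, E y := by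
    intro E
    rw [← Finset.sum_fiberwise_of_maps_to (s := Finset.univ) (t := Finset.univ) (g := f)
      (fun _ _ => Finset.mem_univ _), Finset.mul_sum]
    refine Finset.sum_congr rfl fun y _ => ?_
    rw [Finset.sum_congr rfl (g := fun _ => E y) (fun x hx => by
      rw [(Finset.mem_filter.1 hx).2]), Finset.sum_const, nsmul_eq_mul]
    congr 2
    obtain ⟨x, rfl⟩ := hf y
    rw [← Fintype.card_subtype, ← Nat.card_eq_fintype_card]
    exact Nat.card_congr (f.fiberEquivKer x)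
  have h1 := h (fun _ => 1)
  simp only [Finset.sum_const, Finset.card_univ, nsmul_eq_mul, mul_one] at h1
  rw [h, h1]; ring

variable [Finite V₁] [Finite V₂] (b : F[X] → ℂ)

instance finiteHom : Finite (V₂ →ₗ[F] V₁) := DFunLike.finite _

/-- the Harish-Chandra restriction of `D` -/
noncomputable def RR (a : End F V₁) (d : End F V₂) : ℂ :=
  (Nat.card (V₂ →ₗ[F] V₁) : ℂ)⁻¹ * ∑ᶠ c, DD b (tri a d c)

open Classical in
theorem sum_prod_eq [Fintype (V₂ →ₗ[F] V₁)] (a : End F V₁) (d : End F V₂) (X₁ : Submodule F V₁)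
    (X₂ : Submodule F V₂) :
    ∑ c, (if Inv (tri a d c) (X₁.prod X₂) then Dr b (tri a d c) (X₁.prod X₂) else 0) =
      Nat.card (stabHom X₁ X₂) *
        if h : Inv a X₁ ∧ Inv d X₂ then RR b (a.restrict h.1) (d.restrict h.2) else 0 := by
  split_ifs with h
  · have := Fintype.ofFinite (X₂ →ₗ[F] X₁)
    have h1 := sum_comp_surj _ (resHom_surj X₁ X₂)
      (fun c => DD b (tri (a.restrict h.1) (d.restrict h.2) c))
    have h2 : ∑ c, (if Inv (tri a d c) (X₁.prod X₂) then Dr b (tri a d c) (X₁.prod X₂) else 0) =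
        ∑ c : stabHom X₁ X₂, DD b (tri (a.restrict h.1) (d.restrict h.2) (resHom X₁ X₂ c)) := by
      rw [← Finset.sum_filter]
      symm
      refine Finset.sum_bij (fun c _ => c.1) ?_ (fun _ _ _ _ e => Subtype.ext e) ?_ ?_
      · intro c _
        simp only [Finset.mem_filter, Finset.mem_univ, true_and, inv_tri_prod]
        exact ⟨h.1, h.2, c.2⟩
      · intro c hc
        simp only [Finset.mem_filter, Finset.mem_univ, true_and, inv_tri_prod] at hc
        exact ⟨⟨c, hc.2.2⟩, Finset.mem_univ _, rfl⟩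
      · intro c _
        rw [DD_eq_Dr b (g' := tri a d c) (φ := X₁.subtype.prodMap X₂.subtype)
          (X₁.injective_subtype.prodMap X₂.injective_subtype) (fun _ => rfl),
          LinearMap.range_prodMap, Submodule.range_subtype, Submodule.range_subtype]
    have h3 : (Fintype.card (X₂ →ₗ[F] X₁) : ℂ) ≠ 0 := Nat.cast_ne_zero.2 Fintype.card_ne_zero
    rw [h2, RR, finsum_eq_sum_of_fintype, Nat.card_eq_fintype_card, Nat.card_eq_fintype_card]
    field_simp
    linear_combination h1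
  · rw [mul_zero]
    refine Finset.sum_eq_zero fun c _ => if_neg fun h' => h ?_
    rw [inv_tri_prod] at h'
    exact ⟨h'.1, h'.2.1⟩

open Classical in
theorem sum_RR (hb : ∀ f g : F[X], f.Monic → g.Monic → b (f * g) = b f + b g)
    [Fintype (Submodule F V₁)] [Fintype (Submodule F V₂)] (a : End F V₁) (d : End F V₂) :
    ∑ X₁ : Submodule F V₁, ∑ X₂ : Submodule F V₂,
      (if h : Inv a X₁ ∧ Inv d X₂ then RR b (a.restrict h.1) (d.restrict h.2) else 0) =
      b a.charpoly + b d.charpoly := by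
  have := Fintype.ofFinite (V₂ →ₗ[F] V₁)
  have := Fintype.ofFinite (Submodule F (V₁ × V₂))
  let G : Submodule F (V₁ × V₂) → ℂ := fun X =>
    ∑ c, if Inv (tri a d c) X then Dr b (tri a d c) X else 0
  have h1 : ∑ X, G X = Fintype.card (V₂ →ₗ[F] V₁) * (b a.charpoly + b d.charpoly) := by
    rw [Finset.sum_comm, Finset.sum_congr rfl (g := fun _ => b a.charpoly + b d.charpoly)]
    · simp [mul_add]
    · intro c _
      rw [← hb _ _ (LinearMap.charpoly_monic _) (LinearMap.charpoly_monic _), ← charpoly_tri a d c,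
        ← sum_DD b, ← Finset.sum_filter]
      refine Finset.sum_congr ?_ fun _ _ => rfl
      ext X; simp [mem_invs]
  have h2 : ∀ X₁ X₂ s, G ((Submodule.prod X₁ X₂).map (shear s)) = Nat.card (stabHom X₁ X₂) *
      if h : Inv a X₁ ∧ Inv d X₂ then RR b (a.restrict h.1) (d.restrict h.2) else 0 := by
    intro X₁ X₂ s
    rw [← sum_prod_eq]
    symm
    refine Fintype.sum_equiv (Equiv.addRight (s ∘ₗ d - a ∘ₗ s)) _ _ fun c => ?_
    have e : (Equiv.addRight (s ∘ₗ d - a ∘ₗ s)) c = c + s ∘ₗ d - a ∘ₗ s :=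
      (add_sub_assoc _ _ _).symm
    rw [e, inv_map_iff (shear_inj s) (shear_tri a d c s)]
    split_ifs with h
    · rw [Dr_map b (shear_inj s) (shear_tri a d c s) h]
    · rfl
  have hs0 : ∀ (X₁ : Submodule F V₁) (X₂ : Submodule F V₂), (Nat.card (stabHom X₁ X₂) : ℂ) ≠ 0 :=
    fun _ _ => Nat.cast_ne_zero.2 Nat.card_pos.ne'
  have h3 : ∑ t : Submodule F V₁ × Submodule F V₂ × (V₂ →ₗ[F] V₁),
      (Nat.card (stabHom t.1 t.2.1) : ℂ)⁻¹ * G ((t.1.prod t.2.1).map (shear t.2.2)) = ∑ X, G X := by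
    rw [← Finset.sum_fiberwise_of_maps_to (s := Finset.univ) (t := Finset.univ)
      (g := fun t : Submodule F V₁ × Submodule F V₂ × (V₂ →ₗ[F] V₁) =>
        (t.1.prod t.2.1).map (shear t.2.2)) (fun _ _ => Finset.mem_univ _)]
    refine Finset.sum_congr rfl fun X _ => ?_
    obtain ⟨s, hs⟩ := exists_shear X
    generalize X.comap (LinearMap.inl F V₁ V₂) = Y₁ at hs
    generalize X.map (LinearMap.snd F V₁ V₂) = Y₂ at hs
    rw [Finset.sum_congr rfl (g := fun _ => (Nat.card (stabHom Y₁ Y₂) : ℂ)⁻¹ * G X),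
      Finset.sum_const, nsmul_eq_mul, ← mul_assoc]
    · have : (Finset.univ.filter fun t : Submodule F V₁ × Submodule F V₂ × (V₂ →ₗ[F] V₁) =>
          (t.1.prod t.2.1).map (shear t.2.2) = X).card = Nat.card (stabHom Y₁ Y₂) := by
        rw [Nat.card_eq_fintype_card, ← Finset.card_univ]
        symm
        refine Finset.card_bij (fun c _ => (Y₁, Y₂, c.1 + s)) ?_ ?_ ?_
        · intro c _
          simp only [Finset.mem_filter, Finset.mem_univ, true_and, hs, map_shear_eq_iff]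
          simp
        · intro c _ c' _ e
          exact Subtype.ext (by simpa using e)
        · rintro ⟨Z₁, Z₂, t⟩ ht
          simp only [Finset.mem_filter, Finset.mem_univ, true_and, hs, map_shear_eq_iff] at ht
          obtain ⟨rfl, rfl, h⟩ := ht
          exact ⟨⟨t - s, h⟩, Finset.mem_univ _, by simp⟩
      rw [this, mul_inv_cancel₀ (hs0 _ _), one_mul]
    · rintro ⟨Z₁, Z₂, t⟩ ht
      have ht' := (Finset.mem_filter.1 ht).2
      simp only at ht' ⊢
      rw [ht']
      rw [hs, map_shear_eq_iff] at ht'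
      rw [ht'.1, ht'.2.1]
  have h4 : (Fintype.card (V₂ →ₗ[F] V₁) : ℂ) ≠ 0 := Nat.cast_ne_zero.2 Fintype.card_ne_zero
  refine mul_left_cancel₀ h4 ?_
  rw [← h1, ← h3, Fintype.sum_prod_type, Finset.mul_sum]
  refine Finset.sum_congr rfl fun X₁ _ => ?_
  rw [Fintype.sum_prod_type, Finset.mul_sum]
  refine Finset.sum_congr rfl fun X₂ _ => ?_
  simp only [h2, ← mul_assoc, inv_mul_cancel₀ (hs0 _ _), one_mul, Finset.sum_const,
    Finset.card_univ, nsmul_eq_mul]

theorem RR_right [Subsingleton V₂] (a : End F V₁) (d : End F V₂) : RR b a d = DD b a := by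
  have : Unique (V₂ →ₗ[F] V₁) := LinearMap.uniqueOfLeft
  rw [RR, finsum_unique, Nat.card_unique, Nat.cast_one, inv_one, one_mul]
  symm
  refine DD_congr b (φ := LinearMap.inl F V₁ V₂) ⟨LinearMap.inl_injective, fun x => ⟨x.1, ?_⟩⟩ ?_
  · exact Prod.ext rfl (Subsingleton.elim _ _)
  · intro x; simp

theorem RR_left [Subsingleton V₁] (a : End F V₁) (d : End F V₂) : RR b a d = DD b d := by
  have : Unique (V₂ →ₗ[F] V₁) := LinearMap.uniqueOfRight
  rw [RR, finsum_unique, Nat.card_unique, Nat.cast_one, inv_one, one_mul]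
  symm
  refine DD_congr b (φ := LinearMap.inr F V₁ V₂) ⟨LinearMap.inr_injective, fun x => ⟨x.2, ?_⟩⟩ ?_
  · exact Prod.ext (Subsingleton.elim _ _) rfl
  · intro x; exact Prod.ext (Subsingleton.elim _ _) rfl

theorem RR_congr {W₁ W₂ : Type v} [AddCommGroup W₁] [Module F W₁] [AddCommGroup W₂] [Module F W₂]
    [Finite W₁] [Finite W₂] {a : End F V₁} {d : End F V₂} {a' : End F W₁} {d' : End F W₂}
    (e₁ : V₁ ≃ₗ[F] W₁) (e₂ : V₂ ≃ₗ[F] W₂) (h₁ : ∀ x, e₁ (a x) = a' (e₁ x))
    (h₂ : ∀ x, e₂ (d x) = d' (e₂ x)) : RR b a d = RR b a' d' := by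
  rw [RR, RR, Nat.card_congr (e₂.arrowCongr e₁).toEquiv,
    ← finsum_comp_equiv (e₂.arrowCongr e₁).toEquiv]
  congr 2
  funext c
  refine DD_congr b (φ := (e₁.prodCongr e₂ : V₁ × V₂ →ₗ[F] W₁ × W₂)) (e₁.prodCongr e₂).bijective ?_
  intro x
  simp [h₁, h₂]

end Prim

theorem b_one {b : F[X] → ℂ} (hb : ∀ f g : F[X], f.Monic → g.Monic → b (f * g) = b f + b g) :
    b 1 = 0 := by
  have := hb 1 1 monic_one monic_one
  rw [mul_one] at this
  linear_combination -this

theorem RR_eq_zero_aux {b : F[X] → ℂ}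
    (hb : ∀ f g : F[X], f.Monic → g.Monic → b (f * g) = b f + b g) (n : ℕ) :
    ∀ (V₁ V₂ : Type v) [AddCommGroup V₁] [Module F V₁] [AddCommGroup V₂] [Module F V₂]
      [Finite V₁] [Finite V₂] [Nontrivial V₁] [Nontrivial V₂] (a : End F V₁) (d : End F V₂),
      finrank F V₁ + finrank F V₂ = n → RR b a d = 0 := by
  classical
  induction n using Nat.strong_induction_on with
  | _ n ih =>
    intro V₁ V₂ _ _ _ _ _ _ _ _ a d hn
    have := Fintype.ofFinite (Submodule F V₁)
    have := Fintype.ofFinite (Submodule F V₂)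
    have h1 := sum_RR b hb a d
    have h2 : ∀ (X₁ : Submodule F V₁) (X₂ : Submodule F V₂),
        (if h : Inv a X₁ ∧ Inv d X₂ then RR b (a.restrict h.1) (d.restrict h.2) else 0) =
        (if X₂ = ⊥ then (if Inv a X₁ then Dr b a X₁ else 0) else 0) +
        (if X₁ = ⊥ then (if Inv d X₂ then Dr b d X₂ else 0) else 0) +
        (if X₂ = ⊤ then (if X₁ = ⊤ then RR b a d else 0) else 0) := by
      intro X₁ X₂
      by_cases e2 : X₂ = ⊥
      · subst e2
        have h0 := Dr_bot b (b_one hb) d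
        by_cases h : Inv a X₁
        · rw [dif_pos ⟨h, inv_bot d⟩, RR_right, DD_restrict]
          simp [h, h0]
        · simp [h, h0]
      by_cases e1 : X₁ = ⊥
      · subst e1
        by_cases h : Inv d X₂
        · rw [dif_pos ⟨inv_bot a, h⟩, RR_left, DD_restrict]
          simp [h, e2]
        · simp [h, e2]
      rw [if_neg e2, if_neg e1, zero_add, zero_add]
      by_cases e : X₂ = ⊤ ∧ X₁ = ⊤
      · obtain ⟨rfl, rfl⟩ := e
        rw [dif_pos ⟨inv_top a, inv_top d⟩, if_pos rfl, if_pos rfl]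
        exact RR_congr b Submodule.topEquiv Submodule.topEquiv (fun _ => rfl) (fun _ => rfl)
      · rw [← ite_and, if_neg e]
        split_ifs with h
        · have := Submodule.nontrivial_iff_ne_bot.2 e1
          have := Submodule.nontrivial_iff_ne_bot.2 e2
          refine ih _ ?_ X₁ X₂ _ _ rfl
          have l1 := Submodule.finrank_le X₁
          have l2 := Submodule.finrank_le X₂
          rcases not_and_or.1 e with e | e
          · have := Submodule.finrank_lt e; omega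
          · have := Submodule.finrank_lt e; omega
        · rfl
    have h3 : ∀ {V : Type v} [AddCommGroup V] [Module F V] [Finite V] [Fintype (Submodule F V)]
        (g : End F V), ∑ X, (if Inv g X then Dr b g X else 0) = b g.charpoly := by
      intro V _ _ _ _ g
      rw [← sum_DD b, ← Finset.sum_filter]
      refine Finset.sum_congr ?_ fun _ _ => rfl
      ext X; simp [mem_invs]
    simp only [h2, Finset.sum_add_distrib, Finset.sum_ite_eq', Finset.mem_univ, if_true, h3] at h1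
    rw [Finset.sum_comm] at h1
    simp only [Finset.sum_ite_eq', Finset.mem_univ, if_true, h3] at h1
    linear_combination h1

/-- **Primitivity** of `D`. -/
theorem sum_DD_tri {b : F[X] → ℂ}
    (hb : ∀ f g : F[X], f.Monic → g.Monic → b (f * g) = b f + b g) {V₁ V₂ : Type v}
    [AddCommGroup V₁] [Module F V₁] [AddCommGroup V₂] [Module F V₂] [Finite V₁] [Finite V₂]
    [Nontrivial V₁] [Nontrivial V₂] [Fintype (V₂ →ₗ[F] V₁)] (a : End F V₁) (d : End F V₂) :
    ∑ c, DD b (tri a d c) = 0 := by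
  have := RR_eq_zero_aux hb _ V₁ V₂ a d rfl
  rw [RR, finsum_eq_sum_of_fintype] at this
  exact (mul_eq_zero.1 this).resolve_left (inv_ne_zero (Nat.cast_ne_zero.2 Nat.card_pos.ne'))

end Cfsg.Agent.H22.Cusp
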