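import Mathlib
import Cfsg.Agent.H22.CuspA

/-! Inner products of the primitive functions `D`: the cyclic vector trick. -/

namespace Cfsg.Agent.H22.Cusp
open Polynomial Module
open scoped ComplexConjugate

universe u v w
variable {F : Type u} [Field F]

section Van
variable {V : Type v} [AddCommGroup V] [Module F V]

/-- endomorphisms mapping into `W` and killing `W` -/
def nilW (W : Submodule F V) : AddSubgroup (End F V) where
  carrier := {n | (∀ x, n x ∈ W) ∧ ∀ x ∈ W, n x = 0}
  add_mem' ha hb := ⟨fun x => W.add_mem (ha.1 x) (hb.1 x), fun x hx => by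
    simp [ha.2 x hx, hb.2 x hx]⟩
  zero_mem' := ⟨fun _ => W.zero_mem, fun _ _ => rfl⟩
  neg_mem' ha := ⟨fun x => W.neg_mem (ha.1 x), fun x hx => by simp [ha.2 x hx]⟩

theorem inv_add_iff {W : Submodule F V} {g n : End F V} (hn : n ∈ nilW W) :
    Inv (g + n) W ↔ Inv g W := by
  refine forall₂_congr fun x hx => ?_
  rw [LinearMap.add_apply, hn.2 x hx, add_zero]

theorem exists_tri {W W' : Submodule F V} (h : IsCompl W W') {g : End F V} (hg : Inv g W) :
    ∃ (a : End F W) (d : End F W') (c₀ : W' →ₗ[F] W), ∀ n (hn : n ∈ nilW W) x,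
      Submodule.prodEquivOfIsCompl W W' h
        (tri a d (c₀ + (n.codRestrict W hn.1).domRestrict W') x) =
      (g + n) (Submodule.prodEquivOfIsCompl W W' h x) := by
  let e := Submodule.prodEquivOfIsCompl W W' h
  refine ⟨g.restrict hg, LinearMap.snd F W W' ∘ₗ e.symm.toLinearMap ∘ₗ g ∘ₗ W'.subtype,
    LinearMap.fst F W W' ∘ₗ e.symm.toLinearMap ∘ₗ g ∘ₗ W'.subtype, ?_⟩
  rintro n hn ⟨x, y⟩
  have h1 : ((e.symm (g y)).1 : V) + (e.symm (g y)).2 = g y := e.apply_symm_apply (g y)
  have h2 := hn.2 x x.2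
  change g x + (((e.symm (g y)).1 : V) + n y) + (e.symm (g y)).2 = g (x + y) + n (x + y)
  rw [map_add, map_add, h2]
  linear_combination (norm := abel) h1

variable [Finite V] {b : F[X] → ℂ}

theorem charpoly_add {W : Submodule F V} {g n : End F V} (hg : Inv g W) (hn : n ∈ nilW W) :
    (g + n).charpoly = g.charpoly := by
  obtain ⟨W', h⟩ := W.exists_isCompl
  obtain ⟨a, d, c, hc⟩ := exists_tri h hg
  have h1 := charpoly_eq_of_equiv _ (hc n hn)
  have h2 := charpoly_eq_of_equiv _ (hc 0 (nilW W).zero_mem)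
  rw [add_zero] at h2
  rw [h1, h2, charpoly_tri, charpoly_tri]

theorem sum_DD_add (hb : ∀ f g : F[X], f.Monic → g.Monic → b (f * g) = b f + b g)
    {W : Submodule F V} (h0 : W ≠ ⊥) (h1 : W ≠ ⊤) {g : End F V} (hg : Inv g W)
    [Fintype (nilW W)] : ∑ n : nilW W, DD b (g + n.1) = 0 := by
  obtain ⟨W', h⟩ := W.exists_isCompl
  obtain ⟨a, d, c, hc⟩ := exists_tri h hg
  have := Submodule.nontrivial_iff_ne_bot.2 h0
  have : Nontrivial W' := Submodule.nontrivial_iff_ne_bot.2 (by
    rintro rfl; exact h1 (eq_top_of_isCompl_bot h))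
  have := Fintype.ofFinite (W' →ₗ[F] W)
  rw [← sum_DD_tri hb a d]
  refine Fintype.sum_bijective
    (fun n : nilW W => c + (n.1.codRestrict W n.2.1).domRestrict W') ⟨?_, ?_⟩ _ _ ?_
  · intro n n' e
    have e' := add_left_cancel e
    refine Subtype.ext (LinearMap.ext fun x => ?_)
    obtain ⟨⟨y, z⟩, rfl⟩ := (Submodule.prodEquivOfIsCompl W W' h).surjective x
    have := congrArg Subtype.val (LinearMap.congr_fun e' z)
    simp only [Submodule.coe_prodEquivOfIsCompl', map_add, n.2.2 y y.2, n'.2.2 y y.2, zero_add]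
    exact this
  · intro f
    refine ⟨⟨W.subtype ∘ₗ (f - c) ∘ₗ W'.projectionOnto W h.symm, fun x => ((f - c) _).2,
      fun x hx => ?_⟩, ?_⟩
    · simp [Submodule.projectionOnto_apply_of_mem_right h.symm hx]
    · ext y; simp
  · intro n
    exact (DD_congr b (φ := (Submodule.prodEquivOfIsCompl W W' h).toLinearMap)
      (Submodule.prodEquivOfIsCompl W W' h).bijective (hc n.1 n.2)).symm

theorem van (hb : ∀ f g : F[X], f.Monic → g.Monic → b (f * g) = b f + b g) [Fintype (End F V)]
    {W : Submodule F V} (h0 : W ≠ ⊥) (h1 : W ≠ ⊤) (Ψ : End F V → ℂ)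
    (hΨ : ∀ g, ¬ Inv g W → Ψ g = 0) (hΨ' : ∀ g, Inv g W → ∀ n ∈ nilW W, Ψ (g + n) = Ψ g) :
    ∑ g, DD b g * Ψ g = 0 := by
  have := Fintype.ofFinite (nilW W)
  have e : ∑ n : nilW W, ∑ g, DD b (g + n.1) * Ψ (g + n.1) = ∑ n : nilW W, ∑ g, DD b g * Ψ g :=
    Finset.sum_congr rfl fun n _ => Fintype.sum_equiv (Equiv.addRight n.1) _ _ fun _ => rfl
  rw [Finset.sum_comm, Finset.sum_const, Finset.card_univ, nsmul_eq_mul, Finset.sum_eq_zero] at e
  · exact (mul_eq_zero.1 e.symm).resolve_left (Nat.cast_ne_zero.2 Fintype.card_ne_zero)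
  · intro g _
    by_cases hg : Inv g W
    · rw [Finset.sum_congr rfl fun n _ => by rw [hΨ' g hg n n.2], ← Finset.sum_mul,
        sum_DD_add hb h0 h1 hg, zero_mul]
    · exact Finset.sum_eq_zero fun n _ => by rw [hΨ _ (by rwa [inv_add_iff n.2]), mul_zero]

theorem sum_DD_mul_conj (hb : ∀ f g : F[X], f.Monic → g.Monic → b (f * g) = b f + b g)
    [Fintype (End F V)] [Nontrivial V] {b' : F[X] → ℂ} (hb' : b' 1 = 0) (B : F[X] → ℂ) :
    ∑ g : End F V, DD b g * (B g.charpoly * conj (DD b' g)) =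
      ∑ g : End F V, DD b g * (B g.charpoly * conj (b' g.charpoly)) := by
  classical
  have := Fintype.ofFinite (Submodule F V)
  have h3 : ∀ g : End F V, b' g.charpoly = ∑ X, (if Inv g X then Dr b' g X else 0) := by
    intro g
    rw [← sum_DD b', ← Finset.sum_filter]
    refine Finset.sum_congr ?_ fun _ _ => rfl
    ext X; simp [mem_invs]
  simp only [h3, map_sum, Finset.mul_sum]
  symm
  rw [Finset.sum_comm, Finset.sum_eq_single ⊤]
  · simp [inv_top, DD]
  · intro W _ h1
    by_cases h0 : W = ⊥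
    · subst h0; simp [Dr_bot b' hb']
    refine van hb h0 h1 _ (fun g hg => by simp [hg]) fun g hg n hn => ?_
    rw [charpoly_add hg hn, if_pos hg, if_pos ((inv_add_iff hn).2 hg), ← DD_restrict b' hg,
      ← DD_restrict b' ((inv_add_iff hn).2 hg)]
    congr 3
    refine LinearMap.ext fun x => Subtype.ext ?_
    change g x + n x = g x
    rw [hn.2 x x.2, add_zero]
  · simp

end Van

section Cyc
variable {V : Type v} [AddCommGroup V] [Module F V]

/-- evaluation of polynomials in `g` at `v` -/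
noncomputable def evAt (g : End F V) (v : V) : F[X] →ₗ[F] V :=
  LinearMap.applyₗ v ∘ₗ (aeval g).toLinearMap

theorem evAt_apply (g : End F V) (v : V) (p : F[X]) : evAt g v p = aeval g p v := rfl

theorem evAt_X_mul (g : End F V) (v : V) (p : F[X]) : evAt g v (X * p) = g (evAt g v p) := by
  simp [evAt_apply]

theorem evAt_one (g : End F V) (v : V) : evAt g v 1 = v := by simp [evAt_apply]

theorem inv_range_evAt (g : End F V) (v : V) : Inv g (LinearMap.range (evAt g v)) := by
  rintro _ ⟨p, rfl⟩; exact ⟨X * p, evAt_X_mul g v p⟩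

theorem eq_evAt {g : End F V} {v : V} {φ : F[X] →ₗ[F] V} (h1 : φ 1 = v)
    (h2 : ∀ p, φ (X * p) = g (φ p)) : φ = evAt g v := by
  refine Polynomial.lhom_ext' fun n => LinearMap.ext_ring ?_
  simp only [LinearMap.comp_apply, monomial_one_right_eq_X_pow]
  induction n with
  | zero => rw [pow_zero, h1, evAt_one]
  | succ n ih => rw [pow_succ', h2, evAt_X_mul, ih]

theorem evAt_add {W : Submodule F V} {g n : End F V} (hg : Inv g W) (hn : n ∈ nilW W) {v : V}
    (hv : v ∈ W) : evAt (g + n) v = evAt g v := by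
  have h : ∀ p, evAt g v p ∈ W := fun p => aeval_apply_smul_mem_of_le_comap hv p g hg
  exact (eq_evAt (evAt_one g v) fun p => by
    rw [evAt_X_mul, LinearMap.add_apply, hn.2 _ (h p), add_zero]).symm

/-- multiplication by the root -/
noncomputable def mr (h : F[X]) : End F (AdjoinRoot h) := LinearMap.mulLeft F (AdjoinRoot.root h)

theorem mr_mk (h p : F[X]) : mr h (AdjoinRoot.mk h p) = AdjoinRoot.mk h (X * p) := by
  simp [mr]

/-- the map from the cyclic module -/
noncomputable def cycMap {h : F[X]} (hm : h.Monic) (g : End F V) (v : V) : AdjoinRoot h →ₗ[F] V :=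
  evAt g v ∘ₗ AdjoinRoot.modByMonicHom hm

theorem cycMap_mk {h : F[X]} (hm : h.Monic) {g : End F V} {v : V} (hv : aeval g h v = 0)
    (p : F[X]) : cycMap hm g v (AdjoinRoot.mk h p) = evAt g v p := by
  rw [cycMap, LinearMap.comp_apply, AdjoinRoot.modByMonicHom_mk]
  conv_rhs => rw [← modByMonic_add_div p h, map_add, mul_comm h]
  simp [evAt_apply, hv]

theorem cycMap_mr {h : F[X]} (hm : h.Monic) {g : End F V} {v : V} (hv : aeval g h v = 0)
    (x : AdjoinRoot h) : cycMap hm g v (mr h x) = g (cycMap hm g v x) := by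
  obtain ⟨p, rfl⟩ := AdjoinRoot.mk_surjective x
  rw [mr_mk, cycMap_mk hm hv, cycMap_mk hm hv, evAt_X_mul]

theorem finite_adjoinRoot [Finite F] {h : F[X]} (hm : h.Monic) : Finite (AdjoinRoot h) :=
  have := (AdjoinRoot.powerBasis' hm).finite
  Module.finite_of_finite F

theorem finrank_adjoinRoot {h : F[X]} (hm : h.Monic) : finrank F (AdjoinRoot h) = h.natDegree :=
  (AdjoinRoot.powerBasis' hm).finrank

theorem charpoly_mr {h : F[X]} (hm : h.Monic) [Module.Finite F (AdjoinRoot h)] :
    (mr h).charpoly = h := by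
  have h1 := charpoly_leftMulMatrix (AdjoinRoot.powerBasis hm.ne_zero)
  rw [AdjoinRoot.minpoly_powerBasis_gen_of_monic hm] at h1
  rw [← LinearMap.charpoly_toMatrix _ (AdjoinRoot.powerBasis hm.ne_zero).basis]
  convert h1 using 2
  rw [Algebra.leftMulMatrix_apply]; rfl

theorem evAt_mr (h e p : F[X]) :
    evAt (mr h) (AdjoinRoot.mk h e) p = AdjoinRoot.mk h (p * e) := by
  have := eq_evAt (g := mr h) (v := AdjoinRoot.mk h e)
    (φ := (AdjoinRoot.mkₐ h).toLinearMap ∘ₗ LinearMap.mulRight F e) (by simp)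
    (fun p => by simp [mr, mul_assoc])
  rw [← this]; simp

variable [Finite F] (b : F[X] → ℂ)

open Classical in
/-- the value of `D` on the cyclic module -/
noncomputable def Lam (h : F[X]) : ℂ :=
  if hm : h.Monic then (have := finite_adjoinRoot hm; DD b (mr h)) else 0

theorem Lam_eq {h : F[X]} (hm : h.Monic) [Finite (AdjoinRoot h)] : Lam b h = DD b (mr h) :=
  dif_pos hm

theorem finite_natDegree_le (n : ℕ) : {p : F[X] | p.natDegree ≤ n}.Finite := by
  refine Set.Finite.of_finite_image (f := fun p (i : Fin (n + 1)) => p.coeff i) (Set.toFinite _) ?_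
  intro p hp q hq e
  ext i
  by_cases hi : i < n + 1
  · exact congrFun e ⟨i, hi⟩
  · rw [coeff_eq_zero_of_natDegree_lt (lt_of_le_of_lt hp (by omega)),
      coeff_eq_zero_of_natDegree_lt (lt_of_le_of_lt hq (by omega))]

/-- monic divisors -/
noncomputable def mdiv (h : F[X]) : Finset F[X] := by
  classical exact (finite_natDegree_le h.natDegree).toFinset.filter fun d => d.Monic ∧ d ∣ h

theorem mem_mdiv {h d : F[X]} (h0 : h ≠ 0) : d ∈ mdiv h ↔ d.Monic ∧ d ∣ h := by
  simp only [mdiv, Finset.mem_filter, Set.Finite.mem_toFinset, Set.mem_ofPred_eq]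
  exact ⟨fun h => h.2, fun h => ⟨natDegree_le_of_dvd h.2 h0, h⟩⟩

theorem sum_Lam {h : F[X]} (hm : h.Monic) : ∑ d ∈ mdiv h, Lam b d = b h := by
  classical
  have := finite_adjoinRoot hm
  conv_rhs => rw [← charpoly_mr hm, ← sum_DD b]
  have key : ∀ d, ∀ hd : d.Monic, d ∣ h → aeval (mr h) d (AdjoinRoot.mk h (h /ₘ d)) = 0 ∧
      Function.Injective (cycMap hd (mr h) (AdjoinRoot.mk h (h /ₘ d))) := by
    intro d hd hdh
    have e : d * (h /ₘ d) = h := by
      have := modByMonic_add_div h d
      rwa [(modByMonic_eq_zero_iff_dvd hd).2 hdh, zero_add] at this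
    have h1 : aeval (mr h) d (AdjoinRoot.mk h (h /ₘ d)) = 0 := by
      rw [← evAt_apply, evAt_mr, e, AdjoinRoot.mk_self]
    refine ⟨h1, (injective_iff_map_eq_zero _).2 fun x hx => ?_⟩
    obtain ⟨p, rfl⟩ := AdjoinRoot.mk_surjective x
    rw [cycMap_mk hd h1, evAt_mr, AdjoinRoot.mk_eq_zero] at hx
    rw [AdjoinRoot.mk_eq_zero]
    have h0 : h /ₘ d ≠ 0 := fun h0 => hm.ne_zero (by rw [← e, h0, mul_zero])
    exact (mul_dvd_mul_iff_right h0).1 (e.symm ▸ hx)
  refine Finset.sum_bij (fun d hd => LinearMap.range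
    (cycMap ((mem_mdiv hm.ne_zero).1 hd).1 (mr h) (AdjoinRoot.mk h (h /ₘ d)))) ?_ ?_ ?_ ?_
  · intro d hd
    obtain ⟨h1, h2⟩ := (mem_mdiv hm.ne_zero).1 hd
    refine mem_invs.2 ⟨le_top, ?_⟩
    rintro _ ⟨x, rfl⟩
    exact ⟨mr d x, cycMap_mr h1 (key d h1 h2).1 x⟩
  · intro d hd d' hd' e
    obtain ⟨h1, h2⟩ := (mem_mdiv hm.ne_zero).1 hd
    obtain ⟨h1', h2'⟩ := (mem_mdiv hm.ne_zero).1 hd'
    have := finite_adjoinRoot h1
    have := finite_adjoinRoot h1'
    have a1 := chp_map (key d h1 h2).2 (cycMap_mr h1 (key d h1 h2).1) (inv_top _)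
    have a2 := chp_map (key d' h1' h2').2 (cycMap_mr h1' (key d' h1' h2').1) (inv_top _)
    rw [Submodule.map_top, chp_top, charpoly_mr h1] at a1
    rw [Submodule.map_top, chp_top, charpoly_mr h1'] at a2
    rw [← a1, ← a2, e]
  · intro W hW
    have hW' := (mem_invs.1 hW).2
    let I : Ideal F[X] :=
      { carrier := {p | AdjoinRoot.mk h p ∈ W}
        add_mem' := fun ha hb => by simpa using W.add_mem ha hb
        zero_mem' := by simp
        smul_mem' := fun c p hp => by
          change AdjoinRoot.mk h (c * p) ∈ W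
          rw [← evAt_mr]
          exact aeval_apply_smul_mem_of_le_comap hp c (mr h) hW' }
    have hI : h ∈ I := by change AdjoinRoot.mk h h ∈ W; simp
    obtain ⟨e, he⟩ := (IsPrincipalIdealRing.principal I).principal
    have he0 : e ≠ 0 := by
      rintro rfl
      rw [he] at hI
      exact hm.ne_zero (by simpa using hI)
    have he' : I = Ideal.span {normalize e} := by
      rw [he]; exact (Ideal.span_singleton_eq_span_singleton.2 (associated_normalize e))
    have hem : (normalize e).Monic := monic_normalize he0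
    generalize normalize e = f at he' hem
    obtain ⟨d, hd⟩ : f ∣ h := by rwa [he', Ideal.mem_span_singleton] at hI
    have hdm : d.Monic := hem.of_mul_monic_left (hd ▸ hm)
    have hdh : d ∣ h := ⟨f, by rw [hd, mul_comm]⟩
    have hf : h /ₘ d = f := by rw [hd, mul_comm, mul_divByMonic_cancel_left _ hdm]
    refine ⟨d, (mem_mdiv hm.ne_zero).2 ⟨hdm, hdh⟩, ?_⟩
    ext x
    obtain ⟨p, rfl⟩ := AdjoinRoot.mk_surjective x
    constructor
    · rintro ⟨y, hy⟩
      obtain ⟨r, rfl⟩ := AdjoinRoot.mk_surjective y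
      rw [cycMap_mk hdm (key d hdm hdh).1, evAt_mr, hf] at hy
      rw [← hy]
      change r * f ∈ I
      rw [he']; exact Ideal.mul_mem_left _ _ (Ideal.subset_span rfl)
    · intro hp
      have : p ∈ I := hp
      rw [he', Ideal.mem_span_singleton] at this
      obtain ⟨r, rfl⟩ := this
      exact ⟨AdjoinRoot.mk d r, by rw [cycMap_mk hdm (key d hdm hdh).1, evAt_mr, hf, mul_comm]⟩
  · intro d hd
    obtain ⟨h1, h2⟩ := (mem_mdiv hm.ne_zero).1 hd
    have := finite_adjoinRoot h1
    rw [Lam_eq b h1]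
    exact DD_eq_Dr b (key d h1 h2).2 (cycMap_mr h1 (key d h1 h2).1)

open Classical in
/-- von Mangoldt type function -/
noncomputable def LL (d : F[X]) : ℂ :=
  if h : ∃ f : F[X], f.Monic ∧ Irreducible f ∧ ∃ k, 0 < k ∧ d = f ^ k then b h.choose else 0

omit [Finite F] in
theorem eq_of_dvd_pow {f g : F[X]} (hf : f.Monic) (hf' : Irreducible f) (hg : g.Monic)
    (hg' : Irreducible g) {k : ℕ} (h : f ∣ g ^ k) : f = g :=
  eq_of_monic_of_associated hf hg
    ((hf'.dvd_irreducible_iff_associated hg').1 (hf'.prime.dvd_of_dvd_pow h))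

omit [Finite F] in
theorem LL_pow {f : F[X]} (hf : f.Monic) (hf' : Irreducible f) {k : ℕ} (hk : 0 < k) :
    LL b (f ^ k) = b f := by
  have h : ∃ g : F[X], g.Monic ∧ Irreducible g ∧ ∃ j, 0 < j ∧ f ^ k = g ^ j :=
    ⟨f, hf, hf', k, hk, rfl⟩
  rw [LL, dif_pos h]
  obtain ⟨h1, h2, j, -, e⟩ := h.choose_spec
  rw [← eq_of_dvd_pow hf hf' h1 h2 (e ▸ dvd_pow_self f hk.ne')]

variable {b}

theorem sum_LL (hb : ∀ f g : F[X], f.Monic → g.Monic → b (f * g) = b f + b g) {h : F[X]}
    (hm : h.Monic) : ∑ d ∈ mdiv h, LL b d = b h := by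
  classical
  induction hn : h.natDegree using Nat.strong_induction_on generalizing h with
  | _ n ih =>
    by_cases h1 : h = 1
    · subst h1
      rw [b_one hb]
      refine Finset.sum_eq_zero fun d hd => dif_neg ?_
      rintro ⟨f, -, hf, k, hk, rfl⟩
      exact hf.not_isUnit ((isUnit_pow_iff hk.ne').1
        (isUnit_of_dvd_one ((mem_mdiv one_ne_zero).1 hd).2))
    obtain ⟨f, hf, hf', r, rfl⟩ := exists_monic_irreducible_factor h
      (fun hu => h1 (hm.eq_one_of_isUnit hu))
    have hr : r.Monic := hf.of_mul_monic_left hm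
    have hlt : r.natDegree < n := by
      rw [← hn, hf.natDegree_mul hr]
      have := hf'.natDegree_pos
      omega
    obtain ⟨v, s, hs, rfl⟩ := WfDvdMonoid.max_power_factor hr.ne_zero hf'
    have hsub : mdiv (f ^ v * s) ⊆ mdiv (f * (f ^ v * s)) := fun d hd => by
      rw [mem_mdiv hr.ne_zero] at hd
      exact (mem_mdiv hm.ne_zero).2 ⟨hd.1, hd.2.mul_left _⟩
    rw [hb _ _ hf hr, ← ih _ hlt hr rfl, ← Finset.sum_sdiff hsub]
    congr 1
    rw [Finset.sum_eq_single (f ^ (v + 1)), LL_pow b hf hf' (Nat.succ_pos v)]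
    · intro d hd hne
      rw [Finset.mem_sdiff, mem_mdiv hm.ne_zero, mem_mdiv hr.ne_zero] at hd
      refine dif_neg ?_
      rintro ⟨g, hg, hg', k, hk, rfl⟩
      have h2 : ¬ g ^ k ∣ f ^ v * s := fun h => hd.2 ⟨hd.1.1, h⟩
      have h3 := hd.1.2
      by_cases e : g = f
      · subst e
        rw [← mul_assoc, ← pow_succ'] at h3
        have h4 : k ≤ v + 1 := by
          by_contra h4
          have : g ^ (v + 1) * g ∣ g ^ (v + 1) * s := by
            rw [← pow_succ]; exact (pow_dvd_pow g (by omega)).trans h3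
          exact hs ((mul_dvd_mul_iff_left (pow_ne_zero _ hg.ne_zero)).1 this)
        have h5 : k ≠ v + 1 := fun e => hne (by rw [e])
        exact h2 ((pow_dvd_pow g (by omega)).mul_right _)
      · refine h2 (IsCoprime.dvd_of_dvd_mul_left (IsCoprime.pow_left ?_) h3)
        exact (hg'.coprime_iff_not_dvd).2 fun h =>
          e (eq_of_dvd_pow hg hg' hf hf' (k := 1) (by rwa [pow_one]))
    · intro hn
      exfalso; apply hn
      rw [Finset.mem_sdiff, mem_mdiv hm.ne_zero, mem_mdiv hr.ne_zero]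
      refine ⟨⟨hf.pow _, s, by ring⟩, fun h => hs ?_⟩
      have := h.2
      rw [pow_succ] at this
      exact (mul_dvd_mul_iff_left (pow_ne_zero _ hf.ne_zero)).1 this

theorem Lam_eq_LL (hb : ∀ f g : F[X], f.Monic → g.Monic → b (f * g) = b f + b g) {h : F[X]}
    (hm : h.Monic) : Lam b h = LL b h := by
  classical
  induction hn : h.natDegree using Nat.strong_induction_on generalizing h with
  | _ n ih =>
    have h1 := (sum_Lam b hm).trans (sum_LL hb hm).symm
    have hh : h ∈ mdiv h := (mem_mdiv hm.ne_zero).2 ⟨hm, dvd_rfl⟩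
    rw [← Finset.add_sum_erase _ _ hh, ← Finset.add_sum_erase _ _ hh,
      Finset.sum_congr rfl fun d hd => ih d.natDegree ?_ ?_ rfl] at h1
    · exact add_right_cancel h1
    · rw [Finset.mem_erase, mem_mdiv hm.ne_zero] at hd
      rw [← hn]
      refine lt_of_le_of_ne (natDegree_le_of_dvd hd.2.2 hm.ne_zero) fun e => hd.1 ?_
      exact (eq_of_monic_of_dvd_of_natDegree_le hd.2.1 hm hd.2.2 e.ge).symm
    · rw [Finset.mem_erase, mem_mdiv hm.ne_zero] at hd
      exact hd.2.1

variable [Finite V]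

open Classical in
theorem sum_cyclic (hb : ∀ f g : F[X], f.Monic → g.Monic → b (f * g) = b f + b g)
    [Fintype (End F V)] [Fintype V] (B : F[X] → ℂ) (S : Finset F[X])
    (hS : ∀ h, h ∈ S ↔ h.Monic ∧ h.natDegree = finrank F V) :
    ∑ v : V, ∑ g : End F V, DD b g * (if LinearMap.range (evAt g v) = ⊤ then B g.charpoly else 0) =
      Nat.card (V ≃ₗ[F] V) * ∑ h ∈ S, LL b h * B h := by
  rw [← Fintype.sum_prod_type', ← Finset.sum_fiberwise_of_maps_to (s := Finset.univ) (t := S)
    (g := fun x : V × End F V => x.2.charpoly)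
    (fun x _ => (hS _).2 ⟨LinearMap.charpoly_monic _, LinearMap.charpoly_natDegree _⟩),
    Finset.mul_sum]
  refine Finset.sum_congr rfl fun h hh => ?_
  obtain ⟨hm, hd⟩ := (hS h).1 hh
  have := finite_adjoinRoot hm
  have hr : finrank F (AdjoinRoot h) = finrank F V := by rw [finrank_adjoinRoot hm, hd]
  have : Finite (AdjoinRoot h ≃ₗ[F] V) := DFunLike.finite _
  have := Fintype.ofFinite (AdjoinRoot h ≃ₗ[F] V)
  have hc : Nat.card (V ≃ₗ[F] V) = Fintype.card (AdjoinRoot h ≃ₗ[F] V) := by
    obtain ⟨e⟩ := FiniteDimensional.nonempty_linearEquiv_of_finrank_eq hr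
    rw [← Nat.card_eq_fintype_card]
    exact Nat.card_congr ⟨fun f => e.trans f, fun f => e.symm.trans f, fun f => by ext; simp,
      fun f => by ext; simp⟩
  simp only [mul_ite, mul_zero]
  rw [← Finset.sum_filter, hc, ← nsmul_eq_mul, ← Finset.card_univ, ← Finset.sum_const]
  have key : ∀ (e : AdjoinRoot h ≃ₗ[F] V) p,
      evAt (e.conj (mr h)) (e 1) p = e (AdjoinRoot.mk h p) := by
    intro e p
    have := eq_evAt (g := e.conj (mr h)) (v := e 1)
      (φ := e.toLinearMap ∘ₗ (AdjoinRoot.mkₐ h).toLinearMap) (by simp)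
      (fun p => by simp [LinearEquiv.conj_apply, mr])
    rw [← this]; rfl
  symm
  refine Finset.sum_bij (fun e _ => (e 1, e.conj (mr h))) ?_ ?_ ?_ ?_
  · intro e _
    simp only [Finset.mem_filter, Finset.mem_univ, true_and, LinearEquiv.charpoly_conj,
      charpoly_mr hm]
    rw [LinearMap.range_eq_top]
    intro x
    obtain ⟨y, rfl⟩ := e.surjective x
    obtain ⟨p, rfl⟩ := AdjoinRoot.mk_surjective y
    exact ⟨p, key e p⟩
  · intro e _ e' _ he
    simp only [Prod.mk.injEq] at he
    refine LinearEquiv.ext fun y => ?_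
    obtain ⟨p, rfl⟩ := AdjoinRoot.mk_surjective y
    rw [← key, ← key, he.1, he.2]
  · rintro ⟨v, g⟩ hx
    simp only [Finset.mem_filter, Finset.mem_univ, true_and] at hx
    have h0 : aeval g h v = 0 := by rw [← hx.1, LinearMap.aeval_self_charpoly]; rfl
    have hs : Function.Surjective (cycMap hm g v) := by
      intro x
      obtain ⟨p, rfl⟩ := LinearMap.range_eq_top.1 hx.2 x
      exact ⟨_, cycMap_mk hm h0 p⟩
    let e := LinearEquiv.ofBijective (cycMap hm g v)
      ⟨(LinearMap.injective_iff_surjective_of_finrank_eq_finrank hr).2 hs, hs⟩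
    refine ⟨e, Finset.mem_univ _, Prod.ext ?_ ?_⟩
    · change cycMap hm g v (AdjoinRoot.mk h 1) = v
      rw [cycMap_mk hm h0, evAt_one]
    · refine LinearMap.ext fun x => ?_
      obtain ⟨y, rfl⟩ := e.surjective x
      simp only [LinearEquiv.conj_apply, LinearMap.comp_apply, LinearEquiv.coe_coe,
        LinearEquiv.symm_apply_apply]
      exact cycMap_mr hm h0 y
  · intro e _
    simp only [LinearEquiv.charpoly_conj, charpoly_mr hm]
    rw [← Lam_eq_LL hb hm, Lam_eq b hm]
    congr 1
    exact DD_congr b (φ := e.toLinearMap) e.bijective fun x => by simp [LinearEquiv.conj_apply]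

theorem sum_DD_mul (hb : ∀ f g : F[X], f.Monic → g.Monic → b (f * g) = b f + b g)
    [Fintype (End F V)] [Nontrivial V] (B : F[X] → ℂ) (S : Finset F[X])
    (hS : ∀ h, h ∈ S ↔ h.Monic ∧ h.natDegree = finrank F V) :
    (Nat.card V - 1 : ℂ) * ∑ g : End F V, DD b g * B g.charpoly =
      Nat.card (V ≃ₗ[F] V) * ∑ h ∈ S, LL b h * B h := by
  classical
  have := Fintype.ofFinite V
  have := Fintype.ofFinite (Submodule F V)
  rw [← sum_cyclic hb B S hS]
  have h1 : ∀ v : V, v ≠ 0 → ∑ g : End F V, DD b g * B g.charpoly = ∑ g : End F V,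
      DD b g * (if LinearMap.range (evAt g v) = ⊤ then B g.charpoly else 0) := by
    intro v hv
    have e : ∀ g : End F V, DD b g * B g.charpoly =
        ∑ W, DD b g * (if LinearMap.range (evAt g v) = W then B g.charpoly else 0) := by
      intro g; simp
    rw [Finset.sum_congr rfl fun g _ => e g, Finset.sum_comm, Finset.sum_eq_single ⊤]
    · intro W _ h1
      by_cases h0 : v ∈ W
      · refine van hb (by rintro rfl; exact hv h0) h1 _ (fun g hg => if_neg ?_) fun g hg n hn => ?_
        · rintro rfl; exact hg (inv_range_evAt g v)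
        · rw [evAt_add hg hn h0, charpoly_add hg hn]
      · refine Finset.sum_eq_zero fun g _ => ?_
        rw [if_neg, mul_zero]
        rintro rfl; exact h0 ⟨1, evAt_one g v⟩
    · simp
  have h2 : ∑ g : End F V,
      DD b g * (if LinearMap.range (evAt g 0) = ⊤ then B g.charpoly else 0) = 0 := by
    refine Finset.sum_eq_zero fun g _ => ?_
    rw [if_neg, mul_zero]
    intro h
    obtain ⟨x, hx⟩ := exists_ne (0 : V)
    obtain ⟨p, rfl⟩ := LinearMap.range_eq_top.1 h x
    exact hx (by simp [evAt_apply])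
  rw [← Finset.add_sum_erase _ _ (Finset.mem_univ (0 : V)),
    ← Finset.sum_congr rfl fun v hv => h1 v (Finset.ne_of_mem_erase hv), Finset.sum_const,
    Finset.card_erase_of_mem (Finset.mem_univ _), Finset.card_univ, h2, zero_add,
    nsmul_eq_mul, Nat.card_eq_fintype_card, Nat.cast_sub Fintype.card_pos, Nat.cast_one]

end Cyc

section Deg
variable [Fintype F]

theorem card_sub {V : Type v} [AddCommGroup V] [Module F V] [Finite V] [Fintype (Submodule F V)]
    {k : ℕ} (hk : k ≤ finrank F V) :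
    (Finset.univ.filter fun W : Submodule F V => finrank F W = k).card *
      ∏ i : Fin k, (Fintype.card F ^ k - Fintype.card F ^ i.val) =
      ∏ i : Fin k, (Fintype.card F ^ finrank F V - Fintype.card F ^ i.val) := by
  classical
  have := Fintype.ofFinite V
  rw [← card_linearIndependent hk, Nat.card_eq_fintype_card,
    ← Finset.card_univ (α := {s : Fin k → V // LinearIndependent F s}),
    Finset.card_eq_sum_card_fiberwise (f := fun s : {s : Fin k → V // LinearIndependent F s} => Submodule.span F (Set.range s.1))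
      (t := Finset.univ.filter fun W : Submodule F V => finrank F W = k), ← smul_eq_mul,
    ← Finset.sum_const]
  · refine Finset.sum_congr rfl fun W hW => ?_
    have hW' := (Finset.mem_filter.1 hW).2
    have h1 := card_linearIndependent (K := F) (V := W) hW'.ge
    rw [hW'] at h1
    rw [← h1, Nat.card_eq_fintype_card,
      ← Finset.card_univ (α := {s : Fin k → W // LinearIndependent F s})]
    refine Finset.card_bij (fun s _ => ⟨W.subtype ∘ s.1, s.2.map' _ W.ker_subtype⟩) ?_ ?_ ?_
    · intro s _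
      simp only [Finset.mem_filter, Finset.mem_univ, true_and]
      rw [Set.range_comp, ← Submodule.map_span, s.2.span_eq_top_of_card_eq_finrank' (by simp [hW']),
        Submodule.map_top, Submodule.range_subtype]
    · intro s _ t _ e
      exact Subtype.ext (funext fun i => Subtype.ext (congrFun (congrArg Subtype.val e) i))
    · intro s hs
      simp only [Finset.mem_filter, Finset.mem_univ, true_and] at hs
      have hm : ∀ i, s.1 i ∈ W := fun i => hs ▸ Submodule.subset_span ⟨i, rfl⟩
      exact ⟨⟨fun i => ⟨s.1 i, hm i⟩, LinearIndependent.of_comp W.subtype s.2⟩, Finset.mem_univ _,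
        rfl⟩
  · intro s _
    simp only [Finset.coe_filter, Finset.mem_univ, true_and, Set.mem_ofPred_eq]
    rw [finrank_span_eq_card s.2, Fintype.card_fin]

theorem tele (q : ℂ) (n : ℕ) :
    ∑ j ∈ Finset.range (n + 1), q ^ (n - j) * ∏ i ∈ Finset.range j, (1 - q ^ (n - i)) = 1 := by
  have h := Finset.sum_range_sub' (fun j => ∏ i ∈ Finset.range j, (1 - q ^ (n - i))) (n + 1)
  rw [Finset.prod_range_succ _ n] at h
  simp only [Finset.prod_range_zero, Nat.sub_self, pow_zero, sub_self, mul_zero, sub_zero] at h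
  refine Eq.trans ?_ h
  refine Finset.sum_congr rfl fun j _ => ?_
  rw [Finset.prod_range_succ]; ring

theorem qsum {q : ℂ} (hq : ∀ k, 0 < k → 1 - q ^ k ≠ 0) (n : ℕ) :
    ∑ k ∈ Finset.range n, (∏ i ∈ Finset.range (k + 1), (1 - q ^ (n - i))) / (1 - q ^ (k + 1)) = n := by
  induction n with
  | zero => simp
  | succ n ih =>
    have h2 : ∑ k ∈ Finset.range (n + 1),
        (∏ i ∈ Finset.range (k + 1), (1 - q ^ (n - i))) / (1 - q ^ (k + 1)) = n := by
      rw [Finset.sum_range_succ, ih, Finset.prod_range_succ]; simp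
    push_cast
    refine Eq.trans ?_ (congrArg₂ (· + ·) h2 (tele q n))
    rw [← Finset.sum_add_distrib]
    refine Finset.sum_congr rfl fun k hk => ?_
    have hk' : k ≤ n := Nat.lt_succ_iff.1 (Finset.mem_range.1 hk)
    rw [Finset.prod_range_succ', Finset.prod_range_succ]
    simp only [Nat.add_sub_add_right, Nat.sub_zero]
    have e : q ^ (n + 1) = q ^ (n - k) * q ^ (k + 1) := by rw [← pow_add]; congr 1; omega
    have := hq (k + 1) (Nat.succ_pos k)
    rw [e]; field_simp; ring

theorem DD_one {b : F[X] → ℂ} (hb : ∀ f g : F[X], f.Monic → g.Monic → b (f * g) = b f + b g)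
    (h1 : b (X - 1) = 1) {V : Type v} [AddCommGroup V] [Module F V] [Finite V] [Nontrivial V] :
    DD b (1 : End F V) = ∏ i ∈ Finset.Ico 1 (finrank F V), (1 - (Fintype.card F : ℂ) ^ i) := by
  classical
  obtain ⟨q, hq⟩ : ∃ q : ℂ, q = Fintype.card F := ⟨_, rfl⟩
  have hq1 : ∀ k, 0 < k → 1 - q ^ k ≠ 0 := by
    intro k hk h
    have h2 : ((Fintype.card F ^ k : ℕ) : ℂ) = (1 : ℕ) := by push_cast; rw [← hq]; linear_combination -h
    have h3 := Nat.one_lt_pow hk.ne' (Fintype.one_lt_card (α := F))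
    exact h3.ne' (Nat.cast_injective h2)
  have hq0 : q ≠ 0 := hq ▸ Nat.cast_ne_zero.2 Fintype.card_ne_zero
  have hpow : ∀ n : ℕ, b ((X - 1 : F[X]) ^ n) = n := by
    intro n
    induction n with
    | zero => simp [b_one hb]
    | succ n ih =>
      have hm : (X - 1 : F[X]).Monic := monic_X_sub_C 1
      rw [pow_succ, hb _ _ (hm.pow n) hm, ih, h1]; simp
  let a : ℕ → ℂ := fun k => if k = 0 then 0 else ∏ i ∈ Finset.Ico 1 k, (1 - q ^ i)
  have main : ∀ (W : Type v) [AddCommGroup W] [Module F W] [Finite W] [Fintype (Submodule F W)],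
      ∑ Y : Submodule F W, a (finrank F Y) = finrank F W := by
    intro W _ _ _ _
    rw [← Finset.sum_fiberwise_of_maps_to (s := Finset.univ) (t := Finset.range (finrank F W + 1))
      (g := fun Y : Submodule F W => finrank F Y)
      (fun Y _ => Finset.mem_range.2 (Nat.lt_succ_of_le (Submodule.finrank_le Y))),
      Finset.sum_range_succ', ← qsum hq1 (finrank F W), Finset.sum_eq_zero (s := Finset.filter _ _)
        (fun Y hY => by simp [a, (Finset.mem_filter.1 hY).2]), add_zero]
    refine Finset.sum_congr rfl fun k hk => ?_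
    have hk' : k + 1 ≤ finrank F W := Finset.mem_range.1 hk
    rw [Finset.sum_congr rfl (g := fun _ => a (k + 1))
      (fun Y hY => by rw [(Finset.mem_filter.1 hY).2]), Finset.sum_const, nsmul_eq_mul]
    have h2 := congrArg (Nat.cast : ℕ → ℂ) (card_sub (F := F) hk')
    rw [Nat.cast_mul, Nat.cast_prod, Nat.cast_prod,
      Fin.prod_univ_eq_prod_range (fun i => ((Fintype.card F ^ (k + 1) - Fintype.card F ^ i : ℕ) : ℂ)),
      Fin.prod_univ_eq_prod_range
        (fun i => ((Fintype.card F ^ finrank F W - Fintype.card F ^ i : ℕ) : ℂ))] at h2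
    have h3 : ∀ m, k + 1 ≤ m → ∏ i ∈ Finset.range (k + 1),
        ((Fintype.card F ^ m - Fintype.card F ^ i : ℕ) : ℂ) =
        (∏ i ∈ Finset.range (k + 1), (-q ^ i)) * ∏ i ∈ Finset.range (k + 1), (1 - q ^ (m - i)) := by
      intro m hm
      rw [← Finset.prod_mul_distrib]
      refine Finset.prod_congr rfl fun i hi => ?_
      have hi' : i ≤ m := by have := Finset.mem_range.1 hi; omega
      rw [Nat.cast_sub (Nat.pow_le_pow_right Fintype.card_pos hi')]
      push_cast
      rw [← hq]
      have e : q ^ m = q ^ i * q ^ (m - i) := by rw [← pow_add]; congr 1; omega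
      rw [e]; ring
    rw [h3 _ le_rfl, h3 _ hk', mul_left_comm] at h2
    have h4 := mul_left_cancel₀ (Finset.prod_ne_zero_iff.2 fun i _ =>
      neg_ne_zero.2 (pow_ne_zero i hq0)) h2
    rw [← h4, eq_div_iff (hq1 _ (Nat.succ_pos k)), mul_assoc]
    congr 1
    simp only [a, Nat.succ_ne_zero, if_false]
    rw [← Finset.prod_Ico_succ_top (by omega) (fun i => 1 - q ^ i), Finset.prod_Ico_eq_prod_range,
      ← Finset.prod_range_reflect]
    refine Finset.prod_congr (by simp) fun i hi => ?_
    have := Finset.mem_range.1 hi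
    congr 2; omega
  have h := Dr_unique b (g := (1 : End F V)) (fun W => a (finrank F W)) (fun W hW => ?_) (inv_top _)
  · rw [DD, ← h, finrank_top, ← hq]
    exact if_neg finrank_pos.ne'
  · have := Fintype.ofFinite (Submodule F W)
    have h2 := sum_invs_map (g := (1 : End F W)) (g' := (1 : End F V)) W.injective_subtype
      (fun _ => rfl) ⊤ (fun Y => a (finrank F Y))
    rw [Submodule.map_top, Submodule.range_subtype] at h2
    rw [← h2, chp_eq hW]
    have e : LinearMap.restrict (1 : End F V) hW = 1 := rfl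
    rw [e, LinearMap.charpoly_one, hpow, ← main W]
    refine Finset.sum_congr ?_ fun Y _ => by rw [Submodule.finrank_map_subtype_eq]
    ext Y; simp [mem_invs, Inv]

end Deg

end Cfsg.Agent.H22.Cusp
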