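import Mathlib
import Cfsg.Agent.H22.CuspA
import Cfsg.Agent.H16.BrauerBlock
import Cfsg.Agent.H68.DadeVirt

/-! The Brauer lift `g ↦ ∑ θ(eigenvalues)` is a generalized character, and so is `D`. -/

namespace Cfsg.Agent.H22.Cusp
open Polynomial Module Cfsg Cfsg.Agent.H19 Cfsg.Agent.H17 Cfsg.Agent.H16
open scoped ComplexConjugate MonoidAlgebra TensorProduct

universe u v w

section Teich
variable (p : ℕ) (M : Ideal AlgInt)

open Classical in
/-- Teichmüller lift -/
noncomputable def teich (x : kk M) : ℂ :=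
  if h : ∃ z : ℂ, (∃ m, ¬ p ∣ m ∧ z ^ m = 1) ∧ red M z = x then h.choose else 0

variable {p M} (hM : IsPModular p M)
include hM

theorem teich_red {z : ℂ} {m : ℕ} (hm : ¬ p ∣ m) (hz : z ^ m = 1) : teich p M (red M z) = z := by
  have h : ∃ w : ℂ, (∃ m, ¬ p ∣ m ∧ w ^ m = 1) ∧ red M w = red M z := ⟨z, ⟨m, hm, hz⟩, rfl⟩
  rw [teich, dif_pos h]
  obtain ⟨⟨n, hn, h1⟩, h2⟩ := h.choose_spec
  exact eq_of_red_eq_of_pow_eq_one hM hn hm h1 hz h2

theorem teich_spec {x : kk M} {m : ℕ} (hm : ¬ p ∣ m) (hx : x ^ m = 1) :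
    teich p M x ^ m = 1 ∧ red M (teich p M x) = x := by
  obtain ⟨z, hz, rfl⟩ := exists_pow_eq_one_red_eq (by rintro rfl; exact hm (dvd_zero p)) hx
  rw [teich_red hM hm hz]; exact ⟨hz, rfl⟩

theorem teich_mul {x y : kk M} {m : ℕ} (hm : ¬ p ∣ m) (hx : x ^ m = 1) (hy : y ^ m = 1) :
    teich p M (x * y) = teich p M x * teich p M y := by
  have hm0 : m ≠ 0 := by rintro rfl; exact hm (dvd_zero p)
  obtain ⟨z, hz, rfl⟩ := exists_pow_eq_one_red_eq hm0 hx
  obtain ⟨w, hw, rfl⟩ := exists_pow_eq_one_red_eq hm0 hy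
  rw [← red_mul (mem_Vr_of_pow_eq_one hm0 hz) (mem_Vr_of_pow_eq_one hm0 hw), teich_red hM hm hz,
    teich_red hM hm hw, teich_red hM hm (by rw [mul_pow, hz, hw, one_mul])]

theorem teich_pow_eq_one_or (x : kk M) :
    teich p M x = 0 ∨ ∃ m, ¬ p ∣ m ∧ teich p M x ^ m = 1 ∧ x ^ m = 1 := by
  rw [teich]
  split_ifs with h
  · obtain ⟨⟨n, hn, h1⟩, h2⟩ := h.choose_spec
    refine Or.inr ⟨n, hn, h1, ?_⟩
    rw [← h2, ← red_pow (mem_Vr_of_pow_eq_one (by rintro rfl; exact hn (dvd_zero p)) h1), h1,
      red_one]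
  · exact Or.inl rfl

end Teich

theorem avg_idem {R A : Type*} [CommRing R] [Ring A] [Algebra R A] {y : A} {m : ℕ} (hy : y ^ m = 1)
    {μ : R} (hμ : μ * m = 1) : y * (μ • ∑ i ∈ Finset.range m, y ^ i) = μ • ∑ i ∈ Finset.range m, y ^ i ∧
      IsIdempotentElem (μ • ∑ i ∈ Finset.range m, y ^ i) := by
  have h1 : y * (μ • ∑ i ∈ Finset.range m, y ^ i) = μ • ∑ i ∈ Finset.range m, y ^ i := by
    have := mul_geom_sum y m
    rw [hy, sub_self, sub_mul, one_mul, sub_eq_zero] at this
    rw [mul_smul_comm, this]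
  have h2 : ∀ i, y ^ i * (μ • ∑ i ∈ Finset.range m, y ^ i) = μ • ∑ i ∈ Finset.range m, y ^ i := by
    intro i
    induction i with
    | zero => simp
    | succ i ih => rw [pow_succ, mul_assoc, h1, ih]
  refine ⟨h1, ?_⟩
  rw [IsIdempotentElem]
  nth_rewrite 1 [smul_mul_assoc]
  rw [Finset.sum_mul, Finset.sum_congr rfl fun i _ => h2 i, Finset.sum_const, Finset.card_range,
    ← Nat.cast_smul_eq_nsmul R, smul_smul, hμ, one_smul]

section BL
variable {p : ℕ} {M : Ideal AlgInt} (hM : IsPModular p M) {G : Type w} [Group G] [Finite G]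
  {V : Type*} [AddCommGroup V] [Module (kk M) V] [FiniteDimensional (kk M) V]
include hM

theorem count_le (X : (kk M)[G] →ₐ[kk M] End (kk M) V) {x : G} (hx : ¬ p ∣ orderOf x)
    {s : Multiset ℂ} (h1 : ∀ ε ∈ s, ε ^ orderOf x = 1)
    (h2 : ∀ k : ℕ, brChar p X (x ^ k) = (s.map fun ε => ε ^ k).sum) {ω : ℂ} (hω : ω ∈ s)
    [DecidableEq ℂ] :
    s.count ω ≤ finrank (kk M) (End.eigenspace (X (MonoidAlgebra.single x 1)) (red M ω)) := by
  have hm0 : orderOf x ≠ 0 := (orderOf_pos x).ne'
  have hω1 := h1 ω hω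
  have hω0 : ω ≠ 0 := by rintro rfl; simp [hm0] at hω1
  have hv := val_eq_one_of_pow_eq_one (M := M) hm0 hω1
  let w : Vr M := ⟨ω⁻¹, inv_mem_Vr_of_val_eq_one hv⟩
  let μ : Vr M := ⟨(orderOf x : ℂ)⁻¹, inv_natCast_mem_Vr hM hx⟩
  have hm0' : (orderOf x : ℂ) ≠ 0 := Nat.cast_ne_zero.2 hm0
  have hμ : μ * (orderOf x : ℕ) = 1 := Subtype.ext (by simp [μ, hm0'])
  have hy : (MonoidAlgebra.single x w : (Vr M)[G]) ^ orderOf x = 1 := by
    have : w ^ orderOf x = 1 := Subtype.ext (by simp [w, hω1])
    rw [MonoidAlgebra.single_pow, pow_orderOf_eq_one, this]; rfl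
  obtain ⟨e1, e2⟩ := avg_idem hy hμ
  have h3 := charLift_brChar_idem hM X e2
  have h4 : charLift (brChar p X) (iotaG M G (μ • ∑ i ∈ Finset.range (orderOf x),
      (MonoidAlgebra.single x w : (Vr M)[G]) ^ i)) = s.count ω := by
    simp only [iotaG_smul, map_smul, map_sum, MonoidAlgebra.single_pow, iotaG_single,
      charLift_single, h2, smul_eq_mul]
    have : ∀ t : Multiset ℂ, (∀ ε ∈ t, ε ^ orderOf x = 1) → ∑ i ∈ Finset.range (orderOf x),
        ω⁻¹ ^ i * (t.map fun ε => ε ^ i).sum = orderOf x * t.count ω := by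
      intro t ht
      induction t using Multiset.induction_on with
      | empty => simp
      | cons a t ih =>
        simp only [Multiset.map_cons, Multiset.sum_cons, mul_add, Finset.sum_add_distrib,
          ih fun ε hε => ht ε (Multiset.mem_cons_of_mem hε), Multiset.count_cons, ← mul_pow]
        split_ifs with h
        · subst h; simp [hω0]; ring
        · have h5 := mul_geom_sum (ω⁻¹ * a) (orderOf x)
          rw [mul_pow, inv_pow, hω1, ht a (Multiset.mem_cons_self _ _), inv_one, one_mul,
            sub_self] at h5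
          rw [(mul_eq_zero.1 h5).resolve_left]
          · simp
          · intro h6
            apply h
            field_simp at h6
            linear_combination -h6
    have h5 := this s h1
    change (orderOf x : ℂ)⁻¹ * ∑ i ∈ Finset.range (orderOf x), ((w ^ i : Vr M) : ℂ) * _ = _
    simp only [SubmonoidClass.coe_pow, w]
    rw [h5]; field_simp
  rw [h4, Nat.cast_inj] at h3
  rw [h3, rk]
  refine Submodule.finrank_mono ?_
  rintro _ ⟨v, rfl⟩
  have h5 := congrArg (fun a => X (piG M G a) v) e1
  simp only [map_mul, piG_single, End.mul_apply] at h5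
  rw [End.mem_eigenspace_iff]
  have h6 : (MonoidAlgebra.single x (resR M w) : (kk M)[G]) =
      (red M ω)⁻¹ • MonoidAlgebra.single x 1 := by
    rw [MonoidAlgebra.smul_single, smul_eq_mul, mul_one, ← red_inv hv]
    congr 1
    exact (red_coe w).symm
  have h7 : red M ω ≠ 0 := (red_ne_zero_iff (mem_Vr_of_pow_eq_one hm0 hω1)).2 hv
  rw [h6, map_smul, LinearMap.smul_apply] at h5
  conv_rhs => rw [← h5]
  rw [smul_smul, mul_inv_cancel₀ h7, one_smul]

theorem brChar_eq_roots (X : (kk M)[G] →ₐ[kk M] End (kk M) V) {g x : G} (hx : ¬ p ∣ orderOf x)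
    {a : ℕ} (hg : g ^ p ^ a = x ^ p ^ a) :
    brChar p X x = ((X (MonoidAlgebra.single g 1)).charpoly.roots.map (teich p M)).sum := by
  classical
  have := charP_kk hM
  have : Fact p.Prime := ⟨hM.1⟩
  have hc := isCharacter_brChar_restrict hM (H := Subgroup.zpowers x)
    (by rwa [Nat.card_zpowers]) X
  obtain ⟨s, h1, h2, h3⟩ := H11.exists_multiset_eigenvalues hc ⟨x, Subgroup.mem_zpowers x⟩
  rw [Subgroup.orderOf_mk] at h1
  have h3' : ∀ k : ℕ, brChar p X (x ^ k) = (s.map fun ε => ε ^ k).sum := fun k => by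
    simpa using h3 k
  have hle : s.map (red M) ≤ (X (MonoidAlgebra.single g 1)).charpoly.roots := by
    rw [Multiset.le_iff_count]
    intro l
    by_cases hl : l ∈ s.map (red M)
    · obtain ⟨ω, hω, rfl⟩ := Multiset.mem_map.1 hl
      rw [Multiset.count_map_eq_count _ _ (fun z hz w hw e =>
        eq_of_red_eq_of_pow_eq_one hM hx hx (h1 z hz) (h1 w hw) e) _ hω, count_roots,
        ← LinearMap.finrank_maxGenEigenspace_eq]
      refine (count_le hM X hx h1 h3' hω).trans (Submodule.finrank_mono fun v hv => ?_)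
      rw [End.mem_eigenspace_iff] at hv
      rw [End.mem_maxGenEigenspace]
      refine ⟨p ^ a, ?_⟩
      have e := congrArg (aeval (X (MonoidAlgebra.single g 1)))
        (sub_pow_char_pow (p := p) (n := a) (Polynomial.X : (kk M)[X]) (C (red M ω)))
      simp only [map_pow, map_sub, aeval_X, aeval_C, Algebra.algebraMap_eq_smul_one] at e
      have hpw : ∀ k : ℕ, (X (MonoidAlgebra.single x 1) ^ k) v = red M ω ^ k • v := by
        intro k
        induction k with
        | zero => simp
        | succ k ih => rw [pow_succ, End.mul_apply, hv, map_smul, ih, smul_smul, pow_succ']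
      rw [e, ← map_pow, MonoidAlgebra.single_pow, hg, ← MonoidAlgebra.single_pow, map_pow,
        LinearMap.sub_apply, hpw, _root_.smul_pow]
      simp
    · rw [Multiset.count_eq_zero_of_notMem hl]; exact Nat.zero_le _
  have hcard : (X (MonoidAlgebra.single g 1)).charpoly.roots.card ≤ (s.map (red M)).card := by
    refine (card_roots' _).trans ?_
    rw [LinearMap.charpoly_natDegree, Multiset.card_map]
    have := brChar_one hM X
    rw [show brChar p X 1 = _ from h2] at this
    exact (Nat.cast_injective (R := ℂ) this).ge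
  rw [← Multiset.eq_of_le_of_card_le hle hcard, Multiset.map_map]
  have := h3' 1
  rw [pow_one] at this
  rw [this]
  refine congrArg _ (Multiset.map_congr rfl fun ε hε => ?_)
  rw [pow_one, Function.comp_apply, teich_red hM hx (h1 ε hε)]

theorem isGen_roots (X : (kk M)[G] →ₐ[kk M] End (kk M) V) : IsGeneralizedCharacter G
    fun g => ((X (MonoidAlgebra.single g 1)).charpoly.roots.map (teich p M)).sum := by
  have hp := hM.1
  obtain ⟨N, h1, h2, h3⟩ := exists_regExp G p hp
  have hθ := isClassFunction_brChar (p := p) X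
  have e : (fun g => ((X (MonoidAlgebra.single g 1)).charpoly.roots.map (teich p M)).sum) =
      fun g => brChar p X (g ^ N) := by
    funext g
    refine (brChar_eq_roots hM X (h3 g) (a := (Nat.card G).factorization p) ?_).symm
    rw [← pow_mul, mul_comm, pow_mul, h1]
    have hn : Nat.card G ≠ 0 := Nat.card_pos.ne'
    have h4 : orderOf (g ^ p ^ (Nat.card G).factorization p) ∣
        Nat.card G / p ^ (Nat.card G).factorization p := by
      rw [orderOf_dvd_iff_pow_eq_one, ← pow_mul, Nat.ordProj_mul_ordCompl_eq_self, pow_card_eq_one']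
    exact fun h => Nat.not_dvd_ordCompl hp hn (h.trans h4)
  rw [e]
  refine H13.isGen_of_restrict_elementary ?_ ?_
  · intro g x
    simp only [conj_pow, hθ _ x]
  · intro E q hq hE
    let f : E →* E := MonoidHom.mk' (fun e => e ^ N) (pow_mul_of_isElementary hp hq h1 h2 E hE)
    let f' : E →* G := E.subtype.comp f
    have hK : ¬ p ∣ Nat.card f'.range := by
      intro hd
      have := Fact.mk hp
      obtain ⟨y, hy⟩ := exists_prime_orderOf_dvd_card' p hd
      obtain ⟨e, he⟩ := y.2
      have h4 := h3 (e : G)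
      have : (e : G) ^ N = y := he
      rw [this, Subgroup.orderOf_coe, hy] at h4
      exact h4 dvd_rfl
    exact H11.isGen_comp (H11.isGen_of_isCharacter (isCharacter_brChar_restrict hM hK X))
      f'.rangeRestrict

end BL

variable {F : Type u} [Field F]

/-- sum of `T` over the roots -/
noncomputable def bT {k : Type*} [Field k] [Algebra F k] (T : k → ℂ) (h : F[X]) : ℂ :=
  ((h.aroots k).map T).sum

theorem bT_mul {k : Type*} [Field k] [Algebra F k] (T : k → ℂ) (f g : F[X]) (hf : f.Monic)
    (hg : g.Monic) : bT T (f * g) = bT T f + bT T g := by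
  simp [bT, aroots_mul (mul_ne_zero hf.ne_zero hg.ne_zero)]

theorem isGen_bT {p : ℕ} {M : Ideal AlgInt} (hM : IsPModular p M) [Algebra F (kk M)] {G : Type w}
    [Group G] [Finite G] {W : Type*} [AddCommGroup W] [Module F W] [FiniteDimensional F W]
    (ρ : G →* End F W) : IsGeneralizedCharacter G fun g => bT (teich p M) (ρ g).charpoly := by
  have := isGen_roots hM (MonoidAlgebra.lift (kk M) (End (kk M) (kk M ⊗[F] W)) G
    ((End.baseChangeHom F (kk M) W).toMonoidHom.comp ρ))
  convert this using 3 with g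
  rw [MonoidAlgebra.lift_single, one_smul, bT, aroots_def, ← LinearMap.charpoly_baseChange]
  rfl

theorem isGen_sum_fixed {H Y : Type*} [Group H] [Finite H] [MulAction H Y] [Fintype Y]
    [DecidableEq Y] (φ : H → Y → ℂ) (hφ : ∀ x h y, φ (x * h * x⁻¹) (x • y) = φ h y)
    (hg : ∀ y, IsGeneralizedCharacter (MulAction.stabilizer H y) fun h => φ h y) :
    IsGeneralizedCharacter H fun h => ∑ y, if h • y = y then φ h y else 0 := by
  have := Fintype.ofFinite H
  have h := H68.orbit_sum_mem (Γ := H) (X := Y) (IsGeneralizedCharacter H) H11.isGen_zero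
    (fun _ _ => H11.isGen_add)
    (fun y h => ∑ x : H, if h • x • y = x • y then φ h (x • y) else 0) ?_ ?_
  · convert h using 1
    funext h
    simp only [Pi.smul_apply, Finset.sum_apply, smul_eq_mul]
    have e : ∀ x : H, ∑ y : Y, (if h • x • y = x • y then φ h (x • y) else 0) =
        ∑ y : Y, if h • y = y then φ h y else 0 := fun x =>
      Fintype.sum_equiv (MulAction.toPerm x) _ _ fun _ => rfl
    rw [Finset.sum_comm, Finset.sum_congr rfl fun x _ => e x]
    simp [← mul_assoc]
  · intro γ y
    funext h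
    exact Fintype.sum_equiv (Equiv.mulRight γ) _ _ fun x => by simp [mul_smul]
  · intro y
    convert H14.IsGeneralizedCharacter.indFun _ (hg y) using 1
    funext h
    rw [H14.indFun_apply, Pi.smul_apply, smul_eq_mul]
    congr 1
    refine Finset.sum_congr rfl fun x _ => ?_
    have e : x⁻¹ * h * x ∈ MulAction.stabilizer H y ↔ h • x • y = x • y := by
      rw [MulAction.mem_stabilizer_iff, mul_smul, mul_smul, inv_smul_eq_iff]
    split_ifs with h1
    · rw [H14.extendByZero_of_mem _ _ (e.2 h1), ← hφ x (x⁻¹ * h * x) y]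
      congr 1; group
    · rw [H14.extendByZero_of_not_mem _ _ (mt e.1 h1)]

theorem isGen_Dr {b : F[X] → ℂ} {V : Type v} [AddCommGroup V] [Module F V] [Finite V]
    (hβ : ∀ (H : Type w) [Group H] [Finite H] (W : Submodule F V) (ρ : H →* End F W),
      IsGeneralizedCharacter H fun h => b (ρ h).charpoly) (W : Submodule F V) :
    ∀ (H : Type w) [Group H] [Finite H] (τ : H →* End F V), (∀ h, Inv (τ h) W) →
      IsGeneralizedCharacter H fun h => Dr b (τ h) W := by
  classical
  induction W using WellFoundedLT.induction with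
  | _ W ih =>
    intro H _ _ τ hW
    have := Fintype.ofFinite (Submodule F V)
    have hinj : ∀ h, Function.Injective (τ h) := fun h => Function.LeftInverse.injective
      (g := τ h⁻¹) fun v => by rw [← End.mul_apply, ← map_mul, inv_mul_cancel, map_one]; rfl
    let _ : MulAction H (Submodule F V) :=
      { smul := fun h Y => Y.map (τ h)
        one_smul := fun Y => by change Y.map (τ 1) = Y; rw [map_one]; exact Submodule.map_id Y
        mul_smul := fun a c Y => by
          change Y.map (τ (a * c)) = (Y.map (τ c)).map (τ a)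
          rw [map_mul, ← Submodule.map_comp]; rfl }
    have hsm : ∀ (h : H) (Y : Submodule F V), h • Y = Y.map (τ h) := fun _ _ => rfl
    have hfix : ∀ h Y, h • Y = Y ↔ Inv (τ h) Y := by
      intro h Y
      rw [hsm]
      constructor
      · intro e x hx; rw [← e]; exact ⟨x, hx, rfl⟩
      · intro hY
        refine Submodule.eq_of_le_of_finrank_eq (by rintro _ ⟨x, hx, rfl⟩; exact hY x hx) ?_
        exact (Submodule.equivMapOfInjective _ (hinj h) Y).finrank_eq.symm
    have hc : ∀ x h v, τ x (τ h v) = τ (x * h * x⁻¹) (τ x v) := by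
      intro x h v
      rw [← End.mul_apply, ← End.mul_apply, ← map_mul, ← map_mul, inv_mul_cancel_right]
    have h1 := isGen_sum_fixed (fun h Y => if Y < W ∧ Inv (τ h) Y then Dr b (τ h) Y else 0) ?_ ?_
    · have h2 := hβ H W
        { toFun := fun h => (τ h).restrict (hW h)
          map_one' := LinearMap.ext fun x => Subtype.ext (by
            change τ 1 x = x; rw [map_one]; rfl)
          map_mul' := fun a c => LinearMap.ext fun x => Subtype.ext (by
            change τ (a * c) x = τ a (τ c x); rw [map_mul]; rfl) }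
      convert H11.isGen_sub h2 h1 using 1
      funext h
      rw [Dr_eq, chp_eq (hW h), Pi.sub_apply]
      congr 1
      simp only [hfix, ← ite_and]
      rw [← Finset.sum_filter]
      refine Finset.sum_congr ?_ fun _ _ => rfl
      ext Y
      simp only [Finset.mem_erase, mem_invs, Finset.mem_filter, Finset.mem_univ, true_and,
        lt_iff_le_and_ne]
      tauto
    · intro x h Y
      have e : x • Y < W ↔ Y < W := by
        conv_lhs => rw [← (hfix x W).2 (hW x), hsm, hsm]
        exact Submodule.map_lt_map_iff_of_injective (hinj x)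
      simp only [e]
      rw [hsm]
      simp only [inv_map_iff (hinj x) (hc x h)]
      split_ifs with h3
      · exact Dr_map b (hinj x) (hc x h) h3.2
      · rfl
    · intro Y
      by_cases hY : Y < W
      · convert ih Y hY _ (τ.comp (MulAction.stabilizer H Y).subtype)
          (fun h => (hfix _ _).1 h.2) using 2 with h
        rw [if_pos ⟨hY, (hfix _ _).1 h.2⟩]; rfl
      · simp only [hY, false_and, if_false]
        exact H11.isGen_zero

end Cfsg.Agent.H22.Cusp
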