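import Mathlib
import Cfsg.Agent.H22.CuspB
import Cfsg.Agent.H22.CuspC

/-! Inner products of the Green functions `DD (bT T)` on `GL_n(q)`, computed in a degree `n`
extension of the ground field. -/

set_option autoImplicit false

universe u

namespace Cfsg.Agent.H22.Cusp

open Polynomial Module Cfsg
open scoped ComplexConjugate MatrixGroups

section Orb

theorem sum_smul_orbit {G X : Type*} [Group G] [Fintype G] [MulAction G X] [Fintype X]
    [DecidableEq X] (t : X) (R : Finset X) (hR : ∀ s, s ∈ R ↔ s ∈ MulAction.orbit G t) :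
    ∃ c : ℕ, R.card * c = Fintype.card G ∧
      ∀ φ : X → ℂ, ∑ σ : G, φ (σ • t) = c * ∑ s ∈ R, φ s := by
  classical
  have key : ∀ φ : X → ℂ, ∑ σ : G, φ (σ • t) =
      (Finset.univ.filter fun σ : G => σ • t = t).card * ∑ s ∈ R, φ s := by
    intro φ
    rw [← Finset.sum_fiberwise_of_maps_to (s := Finset.univ) (t := R) (g := fun σ : G => σ • t)
      (fun σ _ => (hR _).2 ⟨σ, rfl⟩), Finset.mul_sum]
    refine Finset.sum_congr rfl fun s hs => ?_
    obtain ⟨τ, rfl⟩ := (hR s).1 hs
    rw [Finset.sum_congr rfl (g := fun _ => φ (τ • t)) (fun σ hσ => by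
      rw [(Finset.mem_filter.1 hσ).2]), Finset.sum_const, nsmul_eq_mul]
    congr 2
    refine Finset.card_bij' (fun σ _ => τ⁻¹ * σ) (fun σ _ => τ * σ) ?_ ?_ ?_ ?_
    · intro σ hσ
      simp only [Finset.mem_filter, Finset.mem_univ, true_and] at hσ ⊢
      rw [mul_smul, hσ, inv_smul_smul]
    · intro σ hσ
      simp only [Finset.mem_filter, Finset.mem_univ, true_and] at hσ ⊢
      rw [mul_smul, hσ]
    · intro σ _; simp
    · intro σ _; simp
  refine ⟨_, ?_, key⟩
  have := key fun _ => 1
  simp only [Finset.sum_const, Finset.card_univ, nsmul_eq_mul, mul_one] at this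
  rw [mul_comm]
  exact_mod_cast this.symm

end Orb

variable {F : Type u} [Field F] [Finite F] {K : Type*} [Field K] [Fintype K] [Algebra F K]
  {k : Type*} [Field k] [Algebra F k] (j : K →ₐ[F] k)

open Classical in
theorem aroots_minpoly (t : K) :
    (minpoly F t).aroots K = (Finset.univ.filter fun s : K => minpoly F s = minpoly F t).val := by
  have hi : IsIntegral F t := Algebra.IsIntegral.isIntegral t
  have h1 : ((minpoly F t).aroots K).Nodup :=
    nodup_roots (Separable.map (Algebra.IsSeparable.isSeparable F t))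
  refine (Multiset.Nodup.ext h1 (Finset.nodup _)).2 fun s => ?_
  rw [mem_aroots, ← Finset.mem_def, Finset.mem_filter]
  constructor
  · rintro ⟨-, h⟩
    exact ⟨Finset.mem_univ _,
      (minpoly.eq_of_irreducible_of_monic (minpoly.irreducible hi) h (minpoly.monic hi)).symm⟩
  · rintro ⟨-, h⟩
    exact ⟨minpoly.ne_zero hi, h ▸ minpoly.aeval F s⟩

open Classical in
theorem bT_minpoly (T : k → ℂ) (t : K) :
    bT T (minpoly F t) =
      ∑ s ∈ Finset.univ.filter fun s : K => minpoly F s = minpoly F t, T (j s) := by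
  have hs : ((minpoly F t).map (algebraMap F K)).Splits := Normal.splits inferInstance t
  have h1 : (minpoly F t).aroots k = ((minpoly F t).aroots K).map j := by
    have := hs.roots_map (j : K →+* k)
    rw [Polynomial.map_map, j.comp_algebraMap] at this
    exact this
  rw [bT, h1, aroots_minpoly, Multiset.map_map]
  rfl

open Classical in
theorem card_minpoly (t : K) :
    (Finset.univ.filter fun s : K => minpoly F s = minpoly F t).card =
      (minpoly F t).natDegree := by
  have hs : ((minpoly F t).map (algebraMap F K)).Splits := Normal.splits inferInstance t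
  have := hs.natDegree_eq_card_roots
  rw [natDegree_map] at this
  rw [this, Finset.card_def, ← aroots_minpoly]

variable (F) in
/-- The characteristic polynomial of `t` over the ground field. -/
noncomputable def PP (t : K) : F[X] := minpoly F t ^ (finrank F K / (minpoly F t).natDegree)

theorem natDegree_mul_div (t : K) :
    (minpoly F t).natDegree * (finrank F K / (minpoly F t).natDegree) = finrank F K :=
  Nat.mul_div_cancel' (minpoly.degree_dvd (Algebra.IsIntegral.isIntegral t))

theorem div_pos' (t : K) : 0 < finrank F K / (minpoly F t).natDegree := by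
  refine Nat.pos_of_ne_zero fun h => ?_
  have := natDegree_mul_div (F := F) t
  rw [h, mul_zero] at this
  exact (finrank_pos (R := F) (M := K)).ne this

theorem PP_monic (t : K) : (PP F t).Monic :=
  (minpoly.monic (Algebra.IsIntegral.isIntegral t)).pow _

theorem PP_natDegree (t : K) : (PP F t).natDegree = finrank F K := by
  rw [PP, natDegree_pow, mul_comm, natDegree_mul_div]

theorem PP_coeff {t : K} (ht : t ≠ 0) : (PP F t).coeff 0 ≠ 0 := by
  rw [PP, coeff_zero_eq_eval_zero, eval_pow, ← coeff_zero_eq_eval_zero]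
  exact pow_ne_zero _ (minpoly.coeff_zero_ne_zero (Algebra.IsIntegral.isIntegral t) ht)

theorem bT_PP (T : k → ℂ) (t : K) : bT T (PP F t) = ∑ σ : Gal(K/F), T (j (σ t)) := by
  classical
  obtain ⟨c, hc, h⟩ := sum_smul_orbit (G := Gal(K/F)) t
    (Finset.univ.filter fun s : K => minpoly F s = minpoly F t)
    (fun s => by rw [Finset.mem_filter, ← Normal.minpoly_eq_iff_mem_orbit]; simp)
  have h1 := h fun s => T (j s)
  simp only [AlgEquiv.smul_def] at h1
  rw [h1, ← bT_minpoly]
  rw [card_minpoly, Fintype.card_eq_nat_card, IsGalois.card_aut_eq_finrank] at hc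
  have hd : 0 < (minpoly F t).natDegree := minpoly.natDegree_pos (Algebra.IsIntegral.isIntegral t)
  have h2 : finrank F K / (minpoly F t).natDegree = c := by
    rw [← hc, Nat.mul_div_cancel_left _ hd]
  rw [PP, h2, bT, bT, aroots_pow, Multiset.map_nsmul, Multiset.sum_nsmul, nsmul_eq_mul]

theorem exists_minpoly_eq {f : F[X]} (hf : f.Monic) (hf' : Irreducible f)
    (hd : f.natDegree ∣ finrank F K) : ∃ t : K, minpoly F t = f := by
  have : Fact (Irreducible f) := ⟨hf'⟩
  have := finite_adjoinRoot hf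
  obtain ⟨φ⟩ := FiniteField.nonempty_algHom_of_finrank_dvd (F := F) (K := AdjoinRoot f) (L := K)
    (by rwa [finrank_adjoinRoot hf])
  refine ⟨φ (AdjoinRoot.root f), (minpoly.eq_of_irreducible_of_monic hf' ?_ hf).symm⟩
  rw [aeval_algHom_apply, AdjoinRoot.aeval_eq, AdjoinRoot.mk_self, map_zero]

theorem sum_LL_eq (T : k → ℂ) (B : F[X] → ℂ) (S : Finset F[X])
    (hS : ∀ h, h ∈ S ↔ h.Monic ∧ h.natDegree = finrank F K) :
    ∑ h ∈ S, LL (bT T) h * B h = ∑ t : K, T (j t) * B (PP F t) := by
  classical
  rw [← Finset.sum_fiberwise_of_maps_to (s := Finset.univ) (t := S) (g := PP F)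
    (fun t _ => (hS _).2 ⟨PP_monic t, PP_natDegree t⟩)]
  refine Finset.sum_congr rfl fun h hh => ?_
  rw [Finset.sum_congr rfl (g := fun t => T (j t) * B h) (fun t ht => by
    rw [(Finset.mem_filter.1 ht).2]), ← Finset.sum_mul]
  congr 1
  by_cases hex : ∃ f : F[X], f.Monic ∧ Irreducible f ∧ ∃ m, 0 < m ∧ h = f ^ m
  · obtain ⟨f, hf, hf', m, hm, rfl⟩ := hex
    have hdeg := ((hS _).1 hh).2
    rw [natDegree_pow] at hdeg
    obtain ⟨t₀, rfl⟩ := exists_minpoly_eq (K := K) hf hf' ⟨m, by rw [← hdeg, mul_comm]⟩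
    rw [LL_pow _ hf hf' hm, bT_minpoly j]
    refine Finset.sum_congr ?_ fun _ _ => rfl
    ext s
    simp only [Finset.mem_filter, Finset.mem_univ, true_and]
    have hi : IsIntegral F s := Algebra.IsIntegral.isIntegral s
    constructor
    · intro hs
      rw [PP, hs, ← hdeg, Nat.mul_div_cancel _ hf'.natDegree_pos]
    · intro hs
      refine eq_of_dvd_pow (minpoly.monic hi) (minpoly.irreducible hi) hf hf' (k := m) ?_
      rw [← hs]
      exact dvd_pow_self _ (div_pos' s).ne'
  · rw [LL, dif_neg hex]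
    refine (Finset.sum_eq_zero fun t ht => (hex ?_).elim).symm
    have hi : IsIntegral F t := Algebra.IsIntegral.isIntegral t
    exact ⟨_, minpoly.monic hi, minpoly.irreducible hi, _, div_pos' t,
      (Finset.mem_filter.1 ht).2.symm⟩

section GenLin

variable (F) (n : ℕ)

/-- The natural representation of `GL_n`. -/
noncomputable def natRep : GL (Fin n) F →* End F (Fin n → F) :=
  (Units.coeHom _).comp Matrix.GeneralLinearGroup.toLin.toMonoidHom

variable {F n}

omit [Finite F] in
theorem natRep_apply (g : GL (Fin n) F) (v : Fin n → F) :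
    natRep F n g v = (g : Matrix (Fin n) (Fin n) F).mulVec v := rfl

open Classical in
omit [Finite F] in
theorem sum_GL [Fintype (GL (Fin n) F)] [Fintype (End F (Fin n → F))]
    (Φ : End F (Fin n → F) → ℂ) :
    ∑ g : GL (Fin n) F, Φ (natRep F n g) =
      ∑ e : End F (Fin n → F), if IsUnit e then Φ e else 0 := by
  refine Finset.sum_of_injOn (natRep F n) ?_ (fun _ _ => by simp) ?_ ?_
  · intro a _ b _ h
    exact Matrix.GeneralLinearGroup.toLin.injective (Units.ext h)
  · intro e _ he
    rw [if_neg]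
    rintro ⟨e, rfl⟩
    obtain ⟨g, rfl⟩ := Matrix.GeneralLinearGroup.toLin.surjective e
    exact he ⟨g, by simp, rfl⟩
  · intro g _
    rw [if_pos]
    exact (Group.isUnit g).map _

omit [Finite F] in
theorem isUnit_iff_coeff (e : End F (Fin n → F)) : IsUnit e ↔ e.charpoly.coeff 0 ≠ 0 := by
  rw [LinearMap.isUnit_iff_isUnit_det, LinearMap.det_eq_sign_charpoly_coeff, isUnit_iff_ne_zero]
  simp

open Classical in
theorem classInner_DD [Fintype (GL (Fin n) F)] (hn : 0 < n) (hK : finrank F K = n)
    (T T' : k → ℂ) (h0 : T 0 = 0) (θ θ' : Kˣ →* ℂ) (hθ : ∀ x : Kˣ, T (j x) = θ x)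
    (hθ' : ∀ x : Kˣ, T' (j x) = θ' x) :
    classInner (fun g => DD (bT T) (natRep F n g)) (fun g => DD (bT T') (natRep F n g)) =
      ∑ σ : Gal(K/F),
        if ∀ x : Kˣ, θ x * conj (θ' (Units.map (σ : K →* K) x)) = 1 then 1 else 0 := by
  have : Finite (End F (Fin n → F)) :=
    Finite.of_injective (fun e : End F (Fin n → F) => (e : (Fin n → F) → Fin n → F))
      DFunLike.coe_injective
  have := Fintype.ofFinite (End F (Fin n → F))
  have : Nonempty (Fin n) := ⟨⟨0, hn⟩⟩
  have hr : finrank F (Fin n → F) = n := by simp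
  set B : F[X] → ℂ := fun h => if h.coeff 0 ≠ 0 then 1 else 0 with hB
  have h1 : ∑ g : GL (Fin n) F, DD (bT T) (natRep F n g) * conj (DD (bT T') (natRep F n g)) =
      ∑ e : End F (Fin n → F), DD (bT T) e * (B e.charpoly * conj (DD (bT T') e)) := by
    rw [sum_GL fun e : End F (Fin n → F) => DD (bT T) e * conj (DD (bT T') e)]
    refine Finset.sum_congr rfl fun e _ => ?_
    simp only [hB, isUnit_iff_coeff]
    split_ifs <;> simp
  rw [sum_DD_mul_conj (bT_mul T) (b_one (bT_mul T'))] at h1
  let S : Finset F[X] := (finite_natDegree_le (F := F) n).toFinset.filter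
    fun h => h.Monic ∧ h.natDegree = n
  have hS : ∀ h, h ∈ S ↔ h.Monic ∧ h.natDegree = n := fun h => by
    simp only [S, Finset.mem_filter, Set.Finite.mem_toFinset, Set.mem_ofPred_eq]
    exact ⟨fun h => h.2, fun h => ⟨h.2.le, h⟩⟩
  have h2 := sum_DD_mul (V := Fin n → F) (bT_mul T) (fun h => B h * conj (bT T' h)) S
    (by rwa [hr])
  rw [← h1, sum_LL_eq j T _ S (by rwa [hK])] at h2
  have h3 : ∑ t : K, T (j t) * (B (PP F t) * conj (bT T' (PP F t))) =
      ∑ x : Kˣ, ∑ σ : Gal(K/F), θ x * conj (θ' (Units.map (σ : K →* K) x)) := by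
    symm
    refine Finset.sum_of_injOn (fun x : Kˣ => (x : K)) (fun _ _ _ _ h => Units.ext h)
      (fun _ _ => by simp) ?_ ?_
    · intro t _ ht
      have : t = 0 := by
        by_contra h
        exact ht ⟨Units.mk0 t h, by simp, rfl⟩
      simp [this, h0]
    · intro x _
      simp only [hB]
      rw [if_pos (PP_coeff x.ne_zero), one_mul, bT_PP j, hθ, map_sum, Finset.mul_sum]
      refine Finset.sum_congr rfl fun σ _ => ?_
      rw [← hθ']
      rfl
  have h4 : ∀ σ : Gal(K/F), ∑ x : Kˣ, θ x * conj (θ' (Units.map (σ : K →* K) x)) =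
      (Nat.card (Fin n → F) - 1 : ℂ) *
        if ∀ x : Kˣ, θ x * conj (θ' (Units.map (σ : K →* K) x)) = 1 then 1 else 0 := by
    intro σ
    split_ifs with h
    · simp only [h, Finset.sum_const, Finset.card_univ, nsmul_eq_mul, mul_one]
      rw [Fintype.card_units, Nat.cast_sub Fintype.card_pos, Fintype.card_eq_nat_card,
        Module.natCard_eq_pow_finrank (K := F) (V := K),
        Module.natCard_eq_pow_finrank (K := F) (V := Fin n → F), hK, hr, Nat.cast_one]
    · rw [mul_zero]
      refine sum_hom_units_eq_zero (θ * ((starRingEnd ℂ : ℂ →* ℂ).comp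
        (θ'.comp (Units.map (σ : K →* K))))) fun h' => h fun x => ?_
      exact DFunLike.congr_fun h' x
  rw [h3, Finset.sum_comm, Finset.sum_congr rfl fun σ _ => h4 σ, ← Finset.mul_sum] at h2
  have h5 : Nat.card ((Fin n → F) ≃ₗ[F] (Fin n → F)) = Nat.card (GL (Fin n) F) :=
    Nat.card_congr (Matrix.GeneralLinearGroup.toLin.trans
      (LinearMap.GeneralLinearGroup.generalLinearEquiv F (Fin n → F))).symm.toEquiv
  have h6 : (Nat.card (Fin n → F) - 1 : ℂ) ≠ 0 := by
    rw [sub_ne_zero]
    exact_mod_cast (Finite.one_lt_card (α := Fin n → F)).ne'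
  have h7 : (Nat.card (GL (Fin n) F) : ℂ) ≠ 0 := by exact_mod_cast Nat.card_pos.ne'
  rw [h5, mul_left_comm] at h2
  rw [classInner, mul_left_cancel₀ h6 h2, inv_mul_cancel_left₀ h7]

open Classical in
theorem sum_DD_cusp [Fintype (GL (Fin n) F)] {b : F[X] → ℂ}
    (hb : ∀ f g : F[X], f.Monic → g.Monic → b (f * g) = b f + b g) {m : ℕ} (h0 : 0 < m)
    (h1 : m < n) :
    (∑ g : GL (Fin n) F,
      if (∀ i j : Fin n, ¬ (i.val < m ∧ m ≤ j.val) →
        (g : Matrix (Fin n) (Fin n) F) i j = (1 : Matrix (Fin n) (Fin n) F) i j)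
      then DD b (natRep F n g) else 0) = 0 := by
  have : Finite (End F (Fin n → F)) :=
    Finite.of_injective (fun e : End F (Fin n → F) => (e : (Fin n → F) → Fin n → F))
      DFunLike.coe_injective
  have := Fintype.ofFinite (End F (Fin n → F))
  let W : Submodule F (Fin n → F) :=
    { carrier := {x | ∀ i : Fin n, m ≤ i.val → x i = 0}
      add_mem' := fun ha hb i hi => by simp [ha i hi, hb i hi]
      zero_mem' := fun _ _ => rfl
      smul_mem' := fun c x hx i hi => by simp [hx i hi] }
  have hW : ∀ x, x ∈ W ↔ ∀ i : Fin n, m ≤ i.val → x i = 0 := fun _ => Iff.rfl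
  have hW0 : W ≠ ⊥ := by
    intro h
    have : (Pi.single ⟨0, by omega⟩ 1 : Fin n → F) ∈ W := by
      rw [hW]
      intro i hi
      rw [Pi.single_eq_of_ne]
      rintro rfl
      simp at hi
      omega
    rw [h, Submodule.mem_bot] at this
    simpa using congrFun this ⟨0, by omega⟩
  have hW1 : W ≠ ⊤ := by
    intro h
    have : (fun _ => 1 : Fin n → F) ∈ W := by rw [h]; trivial
    simpa using (hW _).1 this ⟨m, h1⟩ le_rfl
  have hc : ∀ g : GL (Fin n) F, (∀ i j : Fin n, ¬ (i.val < m ∧ m ≤ j.val) →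
      (g : Matrix (Fin n) (Fin n) F) i j = (1 : Matrix (Fin n) (Fin n) F) i j) ↔
      natRep F n g - 1 ∈ nilW W := by
    intro g
    have he : ∀ v, (natRep F n g - 1) v = ((g : Matrix (Fin n) (Fin n) F) - 1).mulVec v := by
      intro v
      rw [Matrix.sub_mulVec, Matrix.one_mulVec]
      rfl
    constructor
    · intro h
      refine ⟨fun x => (hW _).2 fun i hi => ?_, fun x hx => ?_⟩
      · rw [he, Matrix.mulVec, dotProduct]
        refine Finset.sum_eq_zero fun l _ => ?_
        rw [Matrix.sub_apply, h i l (by omega), sub_self, zero_mul]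
      · rw [he]
        funext i
        rw [Pi.zero_apply, Matrix.mulVec, dotProduct]
        refine Finset.sum_eq_zero fun l _ => ?_
        by_cases hl : m ≤ l.val
        · rw [(hW _).1 hx l hl, mul_zero]
        · rw [Matrix.sub_apply, h i l (by omega), sub_self, zero_mul]
    · rintro ⟨ha, hb⟩ i l hil
      rw [← sub_eq_zero, ← Matrix.sub_apply]
      have h2 : (natRep F n g - 1) (Pi.single l 1) i =
          ((g : Matrix (Fin n) (Fin n) F) - 1) i l := by
        rw [he, Matrix.mulVec_single_one]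
        rfl
      rw [← h2]
      by_cases hi : m ≤ i.val
      · exact (hW _).1 (ha _) i hi
      · rw [hb]
        · rfl
        · rw [hW]
          intro i' hi'
          rw [Pi.single_eq_of_ne]
          rintro rfl
          omega
  simp only [hc]
  rw [sum_GL fun e => if e - 1 ∈ nilW W then DD b e else 0]
  refine Eq.trans (Eq.symm ?_) (sum_DD_add hb hW0 hW1 (g := 1) (fun _ h => h))
  refine Finset.sum_of_injOn (fun x : nilW W => 1 + x.1)
    (fun _ _ _ _ h => Subtype.ext (add_left_cancel h)) (fun _ _ => by simp) ?_ ?_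
  · intro e _ he
    rw [if_neg (c := e - 1 ∈ nilW W), ite_self]
    intro h
    exact he ⟨⟨e - 1, h⟩, by simp, by simp⟩
  · intro x _
    have hx : x.1 * x.1 = 0 := LinearMap.ext fun v => x.2.2 _ (x.2.1 v)
    rw [if_pos, if_pos]
    · simp
    · exact IsNilpotent.isUnit_one_add ⟨2, by rw [pow_two, hx]⟩

end GenLin

end Cfsg.Agent.H22.Cusp
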