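import Mathlib
import Cfsg.Agent.H42.ACDefs
import Cfsg.Agent.H65.AlPar
import Cfsg.Agent.S1910
import Cfsg.Agent.H83.Syl

/-! Project AC, piece S1: the generic part. -/

set_option autoImplicit false

namespace Cfsg.Agent.H22.AcS1

open Cfsg Subgroup Cfsg.Agent.H28 Cfsg.Agent.H42.AL Cfsg.Agent.H65.AL
open Cfsg.Agent.H42.AS (om)
open Cfsg.Agent.H44.AP (zero_of sq_of inv_of aa)
open scoped commutatorElement

universe u

local instance factTwoS1 : Fact (Nat.Prime 2) := ⟨Nat.prime_two⟩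

variable {G H : Type u} [Group G] [Group H] {D : RD G} {B : RD H} {p : G → H} {χ : F4 → G}
  {g t : G}

/-- `t` is an involution of the conjugate `g K g⁻¹ ≠ K`. -/
structure Ct (D : RD G) (g t : G) : Prop where
  gN : g ∉ D.N
  t2 : t * t = 1
  t1 : t ≠ 1
  tK : g⁻¹ * t * g ∈ D.K

theorem cj_sq {x : G} (h : x * x = 1) (c : G) : c * x * c⁻¹ * (c * x * c⁻¹) = 1 := by
  calc c * x * c⁻¹ * (c * x * c⁻¹) = c * (x * x) * c⁻¹ := by group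
    _ = 1 := by rw [h]; group

theorem cj_sq' {x : G} (h : x * x = 1) (c : G) : c⁻¹ * x * c * (c⁻¹ * x * c) = 1 := by
  simpa using cj_sq h c⁻¹

theorem cj_ne {x : G} (h : x ≠ 1) (c : G) : c * x * c⁻¹ ≠ 1 := by simpa using h

theorem cj_ne' {x : G} (h : x ≠ 1) (c : G) : c⁻¹ * x * c ≠ 1 := by simpa using cj_ne h c⁻¹

theorem Ct.conj (h : Ct D g t) {a : G} (ha : a ∈ D.N) : Ct D (a * g) (a * t * a⁻¹) where
  gN e := h.gN ((mul_mem_cancel_left ha).1 e)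
  t2 := cj_sq h.t2 a
  t1 := cj_ne h.t1 a
  tK := by
    rw [show (a * g)⁻¹ * (a * t * a⁻¹) * (a * g) = g⁻¹ * t * g by group]; exact h.tK

theorem Ct.inv (h : Ct D g t) : t⁻¹ = t := inv_eq_of_mul_eq_one_right h.t2

theorem AKN {x : G} (h : x ∈ D.A ⊔ D.K) : x ∈ D.N :=
  (sup_le (fun _ => AN) (fun _ => KN) : D.A ⊔ D.K ≤ D.N) h

theorem ty_uniq (hB : B.Fa) {a b c d : Bool} {y : H} (h1 : Ty B a b y) (h2 : Ty B c d y) :
    a = c ∧ b = d := by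
  obtain ⟨x, hx, s⟩ := h1.mul hB.rel (h2.inv hB.rel)
  rw [mul_inv_cancel, mul_one] at s
  have := PA hB.rel hB.glob hx s
  revert this; cases a <;> cases b <;> cases c <;> cases d <;> simp

section L

variable (L : Lf D B p χ)
include L

theorem pm {a b : G} (ha : a ∈ D.N) (hb : b ∈ D.N) : p (a * b) = p a * p b := L.cov.mul a ha b hb

theorem pk {a : G} (ha : a ∈ D.N) : p a = 1 ↔ a ∈ D.K := L.cov.ker a ha

theorem p1 : p 1 = 1 := (pk L (one_mem _)).2 (one_mem _)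

theorem pi {a : G} (ha : a ∈ D.N) : p a⁻¹ = (p a)⁻¹ :=
  eq_inv_of_mul_eq_one_left (by rw [← pm L (inv_mem ha) ha, inv_mul_cancel, p1 L])

theorem pc {a b : G} (ha : a ∈ D.N) (hb : b ∈ D.N) : p (a * b * a⁻¹) = p a * p b * (p a)⁻¹ := by
  rw [pm L (mul_mem ha hb) (inv_mem ha), pm L ha hb, pi L ha]

theorem eqK {a b : G} (ha : a ∈ D.N) (hb : b ∈ D.N) (e : p a = p b) : a⁻¹ * b ∈ D.K :=
  (pk L (mul_mem (inv_mem ha) hb)).1 (by rw [pm L (inv_mem ha) hb, pi L ha, e, inv_mul_cancel])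

theorem BK : B.K = ⊥ := L.cov.faith

theorem BN (x : H) : x ∈ B.N := by
  rw [RD.N, L.cov.nrm]; exact mem_top x

theorem AK_of {x : G} (hx : x ∈ D.N) (h : p x ∈ B.A ⊔ B.K) : x ∈ D.A ⊔ D.K := by
  rw [BK L, sup_bot_eq] at h
  obtain ⟨a, ha, e⟩ := (L.cov.img _).1 h
  have := mul_mem (mem_sup_left ha : a ∈ D.A ⊔ D.K) (mem_sup_right (eqK L (AN ha) hx e))
  rwa [mul_inv_cancel_left] at this

theorem pAK {x : G} (h : x ∈ D.A ⊔ D.K) : p x ∈ B.A := by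
  obtain ⟨a, ha, e⟩ := mem_AK.1 h
  have h1 := (pk L (KN e)).2 e
  rw [pm L (AN ha) (AKN h)] at h1
  rw [eq_inv_of_mul_eq_one_right h1]
  exact inv_mem ((L.cov.img _).2 ⟨a, ha, rfl⟩)

theorem vA (s : F4) : D.xv s ∈ D.A := by
  rw [← H44.AP.cj (L.neb s)]
  exact mul_mem (mul_mem neA (xbA s)) (inv_mem neA)

theorem UA : D.U ≤ D.A := (closure_le _).2 (by
  rintro x ((⟨s, rfl⟩ | ⟨s, rfl⟩) | ⟨s, rfl⟩)
  exacts [xeA s, xbA s, vA L s])

theorem χA (x : F4) : χ x ∈ D.A := UA L (L.χA x)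

theorem cχ (x : F4) {a : G} (ha : a ∈ D.A) : χ x * a = a * χ x := Kc (L.χK x) ha

theorem v_ne {s : F4} (hs : s ≠ 0) {k : G} (hk : k ∈ D.K) : D.xv s * k ≠ 1 := fun e => by
  have h1 := p1 L
  rw [← e, pm L (AN (vA L s)) (KN hk), (pk L (KN hk)).2 hk, mul_one, L.pv] at h1
  exact hs (xv_ne L.fa.rel h1)

theorem NK : D.N = normalizer (D.K : Set G) := L.cov.std.2.2.2

theorem prho : p D.rho = B.rho := by
  have h : p D.hb = B.hb := by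
    have b := fun s => AN (xbA (D := D) s)
    have n := AN (nbA (D := D))
    rw [RD.hb, pm L (mul_mem (mul_mem (mul_mem (mul_mem (b _) n) (b _)) n) (b _)) n,
      pm L (mul_mem (mul_mem (mul_mem (b _) n) (b _)) n) (b _),
      pm L (mul_mem (mul_mem (b _) n) (b _)) n, pm L (mul_mem (b _) n) (b _), pm L (b _) n,
      L.pb, L.pb, L.pnb, RD.hb]
  rw [RD.rho, pm L (AN hbA) (AN hbA), h, RD.rho]

theorem te {s c : G} (hs : s ∈ D.K) (h1 : s ≠ 1) (h2 : s * s = 1) (hc : c * s * c⁻¹ ∈ D.K) :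
    c ∈ D.N := by
  rw [NK L]
  by_contra hn
  have h3 : c * s * c⁻¹ ∈ D.K ⊓ D.K.map (MulAut.conj c).toMonoidHom := ⟨hc, s, hs, rfl⟩
  have h4 := (L.cov.std.2.1.2 c hn).of_dvd_nat (orderOf_dvd_natCard _ h3)
  rw [orderOf_eq_prime (p := 2) (by rw [sq, cj_sq h2]) (cj_ne h1 c)] at h4
  exact absurd h4 (by decide)

theorem Ct.cN (h : Ct D g t) {c : G} (hc : c * t = t * c) : g⁻¹ * c * g ∈ D.N :=
  te L h.tK (cj_ne' h.t1 g) (cj_sq' h.t2 g) (by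
    rw [show g⁻¹ * c * g * (g⁻¹ * t * g) * (g⁻¹ * c * g)⁻¹ = g⁻¹ * (c * t * c⁻¹) * g by group,
      hc, mul_inv_cancel_right]
    exact h.tK)

theorem in0 (h : Ct D g t) (ht : t ∈ D.A ⊔ D.K) : In D := by
  have tN := AKN ht
  have tK : t ∉ D.K := fun e => h.gN (te L h.tK (cj_ne' h.t1 g) (cj_sq' h.t2 g) (by
    rwa [show g * (g⁻¹ * t * g) * g⁻¹ = t by group]))
  obtain ⟨y, hy, e⟩ := L.fa.glob.inv (p t) (pAK L ht) (by rw [← pm L tN tN, h.t2, p1 L])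
    fun e => tK ((pk L tN).1 e)
  obtain ⟨b, hb, rfl⟩ := (L.cov.img _).1 hy
  have h' := h.conj (AN hb)
  have bN : b * t * b⁻¹ ∈ D.N := mul_mem (mul_mem (AN hb) tN) (inv_mem (AN hb))
  have hk := eqK L (AN (vA L 1)) bN (by rw [pc L (AN hb) tN, e, L.pv])
  refine ⟨b * g, h'.gN, _, hk, ?_, by rw [mul_inv_cancel_left]; exact h'.tK⟩
  have h1 := Kc hk (vA L 1)
  have h2 := h'.t2
  generalize b * t * b⁻¹ = w at h1 h2
  rw [inv_of L.vv] at h1 ⊢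
  calc D.xv 1 * w * (D.xv 1 * w) = D.xv 1 * w * D.xv 1 * w := by group
    _ = D.xv 1 * D.xv 1 * (w * w) := by rw [h1]; group
    _ = 1 := by rw [sq_of L.vv, h2, mul_one]

theorem in2 (hg : g ∉ D.N) {s : G} (hs : s ∈ D.K) (h1 : s ≠ 1) (h2 : s * s = 1)
    (h : g⁻¹ * s * g ∈ D.A ⊔ D.K) : In D :=
  in0 L (g := g⁻¹) ⟨fun e => hg (inv_mem_iff.1 e), cj_sq' h2 g, cj_ne' h1 g, by
    rwa [show g⁻¹⁻¹ * (g⁻¹ * s * g) * g⁻¹ = s by group]⟩ h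

theorem inn (h : Ct D g t) {z c : G} (hz : z ∈ D.A) (z1 : z ≠ 1) (z2 : z * z = 1)
    (hz' : g⁻¹ * z * g ∈ D.A ⊔ D.K) (e : t * z = c * t * c⁻¹) : In D := by
  by_cases hK : g⁻¹ * z * g ∈ D.K
  · exact in0 L ⟨h.gN, z2, z1, hK⟩ (mem_sup_left hz)
  have e1 : g⁻¹ * t * g * (g⁻¹ * z * g) = g⁻¹ * c * g * (g⁻¹ * t * g) * (g⁻¹ * c * g)⁻¹ := by
    calc g⁻¹ * t * g * (g⁻¹ * z * g) = g⁻¹ * (t * z) * g := by group
      _ = _ := by rw [e]; group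
  refine in0 L (g := g⁻¹ * c * g) (t := g⁻¹ * t * g * (g⁻¹ * z * g))
    ⟨fun hN => hK ?_, ?_, ?_, ?_⟩ (mul_mem (mem_sup_right h.tK) hz')
  · exact (mul_mem_cancel_left h.tK).1 (e1 ▸ cjK hN h.tK)
  · rw [e1]; exact cj_sq (cj_sq' h.t2 g) _
  · rw [e1]; exact cj_ne (cj_ne' h.t1 g) _
  · rw [e1, show ∀ a b : G, a⁻¹ * (a * b * a⁻¹) * a = b from fun a b => by group]; exact h.tK

theorem sqAK {x : G} (hx : x ∈ D.N) (h4 : x * x * (x * x) = 1) : x * x ∈ D.A ⊔ D.K := by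
  obtain ⟨a, b, s⟩ := exTy L.fa.glob (BN L (p x))
  have s2 := s.mul L.fa.rel s
  rw [Bool.xor_self, Bool.xor_self, ← pm L hx hx] at s2
  refine AK_of L (mul_mem hx hx) (s2.AK L.fa.rel (n := 1) ?_)
  rw [pow_one, sq, ← pm L (mul_mem hx hx) (mul_mem hx hx), h4, p1 L]
  exact one_mem _

theorem commAK {x y : G} (hx : x ∈ D.N) (hy : y ∈ D.N)
    (h4 : ⁅x, y⁆ * ⁅x, y⁆ * (⁅x, y⁆ * ⁅x, y⁆) = 1) : ⁅x, y⁆ ∈ D.A ⊔ D.K := by
  have hz : ⁅x, y⁆ ∈ D.N := mul_mem (mul_mem (mul_mem hx hy) (inv_mem hx)) (inv_mem hy)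
  have e : p ⁅x, y⁆ = ⁅p x, p y⁆ := by
    rw [commutatorElement_def, pm L (mul_mem (mul_mem hx hy) (inv_mem hx)) (inv_mem hy),
      pc L hx hy, pi L hy, commutatorElement_def]
  obtain ⟨a, ha, k, hk, e1⟩ := L.fa.par.comm2 (p ⁅x, y⁆)
    (e ▸ commutator_mem_commutator (BN L _) (BN L _)) ⟨2, by
      rw [show 2 ^ 2 = 2 * 2 from rfl, pow_mul, sq, sq, ← pm L hz hz,
        ← pm L (mul_mem hz hz) (mul_mem hz hz), h4, p1 L]⟩
  exact AK_of L hz (e1 ▸ mul_mem (mem_sup_left ha) (mem_sup_right hk))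

theorem Ct.sq (h : Ct D g t) {c : G} (hc : c * t = t * c) (h4 : c * c * (c * c) = 1) :
    g⁻¹ * (c * c) * g ∈ D.A ⊔ D.K := by
  have := sqAK L (h.cN L hc) (by
    calc _ = g⁻¹ * (c * c * (c * c)) * g := by group
      _ = 1 := by rw [h4]; group)
  rwa [show g⁻¹ * c * g * (g⁻¹ * c * g) = g⁻¹ * (c * c) * g by group] at this

theorem Ct.comm (h : Ct D g t) {x y : G} (hx : x * t = t * x) (hy : y * t = t * y)
    (h4 : ⁅x, y⁆ * ⁅x, y⁆ * (⁅x, y⁆ * ⁅x, y⁆) = 1) : g⁻¹ * ⁅x, y⁆ * g ∈ D.A ⊔ D.K := by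
  have e : ⁅g⁻¹ * x * g, g⁻¹ * y * g⁆ = g⁻¹ * ⁅x, y⁆ * g := by
    simp only [commutatorElement_def]; group
  rw [← e]
  refine commAK L (h.cN L hx) (h.cN L hy) ?_
  rw [e]
  calc _ = g⁻¹ * (⁅x, y⁆ * ⁅x, y⁆ * (⁅x, y⁆ * ⁅x, y⁆)) * g := by group
    _ = 1 := by rw [h4]; group

/-- A four-group of `C_K(t)` gives a four-group of `K' ∩ N`. -/
theorem copy [Finite G] (h : Ct D g t) {x y : G} (hx : x ∈ D.K) (hy : y ∈ D.K) (x1 : x ≠ 1)
    (y1 : y ≠ 1) (xy : x ≠ y) (x2 : x * x = 1) (y2 : y * y = 1) (c : x * y = y * x)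
    (cx : x * t = t * x) (cy : y * t = t * y) :
    ∃ x' ∈ D.N, ∃ y' ∈ D.N, Ct D g x' ∧ Ct D g y' ∧ Ct D g (x' * y') := by
  have hg : g⁻¹ ∉ normalizer (D.K : Set G) := fun e => h.gN (NK L ▸ inv_mem_iff.1 e)
  have m : ∀ z ∈ D.K, z * t = t * z → g⁻¹ * z * g ∈
      D.K.map (MulAut.conj g⁻¹).toMonoidHom ⊓ normalizer (D.K : Set G) := fun z hz cz =>
    ⟨⟨z, hz, by simp⟩, NK L ▸ h.cN L cz⟩
  have c0 : g⁻¹ * x * g * (g⁻¹ * y * g) = g⁻¹ * y * g * (g⁻¹ * x * g) := by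
    calc _ = g⁻¹ * (x * y) * g := by group
      _ = _ := by rw [c]; group
  have pF : IsPGroup 2 (zpowers (g⁻¹ * x * g) ⊔ zpowers (g⁻¹ * y * g) : Subgroup G) :=
    H83.isPGroup_sup (H83.isPGroup_zpowers (k := 1) (by rw [pow_one, sq, cj_sq' x2]))
      (H83.isPGroup_zpowers (k := 1) (by rw [pow_one, sq, cj_sq' y2]))
      (H83.le_norm_of_le_cent (zpowers_le.2 (mem_centralizer_iff.2 (by
        rintro _ ⟨n, rfl⟩
        exact (Commute.zpow_left (show Commute _ _ from c0.symm) n).eq))))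
  obtain ⟨T, hT, FT⟩ := H83.exists_isSylowIn_ge
    (sup_le (zpowers_le.2 (m x hx cx)) (zpowers_le.2 (m y hy cy))) pF
  have xT : g⁻¹ * x * g ∈ T := FT (mem_sup_left (mem_zpowers _))
  have yT : g⁻¹ * y * g ∈ T := FT (mem_sup_right (mem_zpowers _))
  obtain ⟨S, hS, TS⟩ := H83.exists_isSylowIn_ge (H := D.K ⊔ T) le_sup_right hT.isPGroup
  obtain ⟨-, -, hc, -, ⟨φ⟩⟩ := S1910.result D.K L.cov.std.2.1 g⁻¹ hg T
    (fun e => cj_ne' x1 g (mem_bot.1 (e ▸ xT))) hT.le ⟨hT.isPGroup, hT.not_dvd_relIndex⟩ S TS hS.le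
    ⟨hS.isPGroup, hS.not_dvd_relIndex⟩
  have key : ∀ w : T, w ≠ 1 → w * w = 1 →
      g * (φ.symm w : G) * g⁻¹ ∈ D.N ∧ Ct D g (g * (φ.symm w : G) * g⁻¹) := fun w w1 w2 => by
    refine ⟨te L hx x1 x2 ?_, h.gN, cj_sq ?_ g, cj_ne (fun e => w1 ?_) g, ?_⟩
    · have h1 := H83.comm_eq_bot_iff.1 hc (φ.symm w).2 _ xT
      have h2 : g * (φ.symm w : G) * g⁻¹ * x * (g * (φ.symm w : G) * g⁻¹)⁻¹ = x := by
        calc _ = g * ((φ.symm w : G) * (g⁻¹ * x * g)) * (φ.symm w : G)⁻¹ * g⁻¹ := by group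
          _ = x := by rw [← h1]; group
      rwa [h2]
    · have := congrArg Subtype.val (map_mul φ.symm w w)
      rw [w2, map_one] at this
      exact this.symm
    · exact (map_eq_one_iff _ φ.symm.injective).1 (Subtype.ext e)
    · rw [show ∀ b : G, g⁻¹ * (g * b * g⁻¹) * g = b from fun b => by group]
      exact (φ.symm w).2.2
  have k1 := key ⟨_, xT⟩ (fun e => cj_ne' x1 g (congrArg Subtype.val e))
    (Subtype.ext (cj_sq' x2 g))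
  have k2 := key ⟨_, yT⟩ (fun e => cj_ne' y1 g (congrArg Subtype.val e))
    (Subtype.ext (cj_sq' y2 g))
  have e3 : g⁻¹ * x * g * (g⁻¹ * y * g) = g⁻¹ * (x * y) * g := by group
  have k3 := key (⟨_, xT⟩ * ⟨_, yT⟩) (fun e => by
    have e' : g⁻¹ * x * g * (g⁻¹ * y * g) = 1 := congrArg Subtype.val e
    rw [e3] at e'
    refine cj_ne' (fun e4 => xy ?_) g e'
    rw [eq_inv_of_mul_eq_one_left e4, inv_eq_of_mul_eq_one_right y2]) (Subtype.ext (by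
      change g⁻¹ * x * g * (g⁻¹ * y * g) * (g⁻¹ * x * g * (g⁻¹ * y * g)) = 1
      rw [e3]
      refine cj_sq' ?_ g
      calc x * y * (x * y) = x * (y * x) * y := by group
        _ = x * x * (y * y) := by rw [← c]; group
        _ = 1 := by rw [x2, y2, mul_one]))
  refine ⟨_, k1.1, _, k2.1, k1.2, k2.2, ?_⟩
  have := k3.2
  rw [map_mul, coe_mul] at this
  convert this using 1
  group

/-- The standard form of an outer involution. -/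
theorem std [Finite H] (hS : StfStmt.{u}) (h : Ct D g t) (tN : t ∈ D.N) (ht : t ∉ D.A ⊔ D.K) :
    ∃ a ∈ D.A, ∃ l m, B.St B (p (a * t * a⁻¹)) l m true ∨
      (B.St B.swap (p (a * t * a⁻¹)) l m false ∧ l * m = 1) ∨
      B.St B.swap (p (a * t * a⁻¹)) l l true := by
  obtain ⟨y, hy, l, m, e⟩ := hS H B L.fa (p t) (BN L _)
    (by rw [← pm L tN tN, h.t2, p1 L]; exact one_mem _)
    fun a ha e => ht (AK_of L tN (mem_AK.2 ⟨a, ha, e⟩))
  obtain ⟨a, ha, rfl⟩ := (L.cov.img _).1 hy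
  exact ⟨a, ha, l, m, by rwa [pc L (AN ha) tN]⟩

end L

end Cfsg.Agent.H22.AcS1
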