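import Mathlib
import Cfsg.Agent.H22.AcS1a
import Cfsg.Agent.H65.AcStf

/-! Project AC, piece S1: an involution of another conjugate of `K` is inner on `A`. -/

set_option autoImplicit false

namespace Cfsg.Agent.H22.AcS1

open Cfsg Subgroup Cfsg.Agent.H28 Cfsg.Agent.H42.AL Cfsg.Agent.H65.AL
open Cfsg.Agent.H42.AS (om)
open Cfsg.Agent.H44.AP (zero_of sq_of inv_of aa)
open scoped commutatorElement

universe u

variable {G H : Type u} [Group G] [Group H] {D : RD G} {B : RD H} {p : G → H} {χ : F4 → G}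
  {g t : G}

theorem comm_of_cj {x : G} (e : t * x * t⁻¹ = x) : x * t = t * x :=
  (mul_inv_eq_iff_eq_mul.1 e).symm

theorem Ct.move (h : Ct D g t) (x : G) : x * t * x⁻¹ = t * (t * x * t⁻¹ * x⁻¹) := by
  calc x * t * x⁻¹ = t * t * x * t * x⁻¹ := by rw [h.t2, one_mul]
    _ = _ := by rw [h.inv]; group

section L

variable (L : Lf D B p χ)
include L

theorem χχ (x y : F4) : χ x * χ y = χ y * χ x := cχ L x (χA L y)

theorem χ4 (x : F4) : χ x * χ x * (χ x * χ x) = 1 := by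
  rw [← L.χ4 x]; simp only [pow_succ, pow_zero]; group

theorem χinv (x : F4) : (χ x)⁻¹ = χ x * χ x ^ 2 :=
  inv_eq_of_mul_eq_one_right (by rw [← L.χ4 x]; group)

theorem χsq (x y : F4) : χ x ^ 2 * χ y ^ 2 = χ (x + y) ^ 2 := by
  have c1 : Commute (χ x) (χ y) := χχ L x y
  have c2 : Commute (χ x * χ y) (χ (x ^ 2 * y ^ 2) ^ 2) :=
    (Commute.mul_left (χχ L x _) (χχ L y _)).pow_right 2
  rw [L.χadd, c2.mul_pow, c1.mul_pow, ← pow_mul, show 2 * 2 = 4 from rfl, L.χ4, mul_one]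

theorem bebe (s u : F4) :
    D.xb s * D.xe u * D.xb s * D.xe u = D.xv (s * u) * (χ (s * u ^ 2))⁻¹ := by
  have c := cχ L (s * u ^ 2) (xeA u)
  calc D.xb s * D.xe u * D.xb s * D.xe u
      = D.xe u * D.xv (s * u) * χ (s * u ^ 2) * (D.xb s * D.xb s) * D.xe u := by
        rw [L.be]; group
    _ = D.xe u * D.xv (s * u) * (χ (s * u ^ 2) * D.xe u) := by rw [sq_of L.bb]; group
    _ = D.xe u * (D.xv (s * u) * D.xe u) * χ (s * u ^ 2) := by rw [c]; group
    _ = D.xe u * D.xe u * D.xv (s * u) * (χ (s * u ^ 2) * χ (s * u ^ 2) ^ 2) := by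
        rw [L.ve, show s * u * u = s * u ^ 2 by ring]; group
    _ = _ := by rw [sq_of L.ee, one_mul, χinv L]

theorem be_comm (s u : F4) : ⁅D.xb s, D.xe u⁆ = D.xv (s * u) * (χ (s * u ^ 2))⁻¹ := by
  rw [commutatorElement_def, inv_of L.bb, inv_of L.ee, bebe L]

theorem vχ_sq (s x : F4) :
    D.xv s * (χ x)⁻¹ * (D.xv s * (χ x)⁻¹) = χ x * χ x := by
  have c : Commute (χ x) (D.xv s) := cχ L x (vA L s)
  calc D.xv s * (χ x)⁻¹ * (D.xv s * (χ x)⁻¹) = D.xv s * ((χ x)⁻¹ * D.xv s) * (χ x)⁻¹ := by group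
    _ = D.xv s * D.xv s * (χ x * χ x)⁻¹ := by rw [c.inv_left.eq]; group
    _ = _ := by rw [sq_of L.vv, one_mul, inv_eq_of_mul_eq_one_right (χ4 L x)]

/-- Type `(swap, false)`. -/
theorem formC (h : Ct D g t) (tN : t ∈ D.N) {l m : F4} (s : B.St B.swap (p t) l m false)
    (lm : l * m = 1) : In D := by
  have s' := L.st' t tN l m false s
  have tv : ∀ y, t * D.xv y * t⁻¹ = D.xv y := fun y => by
    have := s'.v y
    rwa [lm, one_mul] at this
  have rN : D.rho ∈ D.N := AN rhoA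
  have c1 : B.rho * p t = p t * B.rho := by
    have s1 := stMul s (stSwap (st_rho L.fa.rel))
    have s2 := stMul (st_rho L.fa.rel) s
    simp only [pw, Bool.false_eq_true, if_false, mul_comm om] at s1 s2
    have := st_uniq L.fa.rel s1 s2
    rw [BK L, mem_bot] at this
    exact inv_mul_eq_one.1 this
  have zK : D.rho⁻¹ * (t * D.rho * t⁻¹) ∈ D.K :=
    eqK L rN (mul_mem (mul_mem tN rN) (inv_mem tN))
      (by rw [pc L tN rN, prho L, ← c1, mul_inv_cancel_right])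
  obtain ⟨z, hz⟩ : ∃ z, z = D.rho⁻¹ * (t * D.rho * t⁻¹) := ⟨_, rfl⟩
  rw [← hz] at zK
  have e1 : t * D.rho * t⁻¹ = D.rho * z := by rw [hz]; group
  have cz : Commute z D.rho := Kc zK rhoA
  have z3 : z ^ 3 = 1 := by
    have : (D.rho * z) ^ 3 = 1 := by rw [← e1, conj_pow, L.r3]; group
    rwa [cz.symm.mul_pow, L.r3, one_mul] at this
  have e2 : t * z * t⁻¹ = z⁻¹ := by
    have e3 : t * (D.rho * z) * t⁻¹ = D.rho := by
      rw [← e1]
      calc _ = t * t * D.rho * (t * t)⁻¹ := by group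
        _ = _ := by rw [h.t2]; group
    calc t * z * t⁻¹ = (t * D.rho * t⁻¹)⁻¹ * (t * (D.rho * z) * t⁻¹) := by group
      _ = _ := by rw [e3, e1]; group
  have cr : D.rho * z⁻¹ * t = t * (D.rho * z⁻¹) := comm_of_cj (by
    calc t * (D.rho * z⁻¹) * t⁻¹ = t * D.rho * t⁻¹ * (t * z * t⁻¹)⁻¹ := by group
      _ = D.rho * z⁻¹ * z ^ 3 := by rw [e1, e2, pow_succ, sq]; group
      _ = _ := by rw [z3, mul_one])
  have ec : ⁅D.rho * z⁻¹, D.xv (om ^ 2 * l)⁆ = D.xv l := by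
    have c2 : Commute z (D.xv (om ^ 2 * l)) := Kc zK (vA L _)
    calc _ = D.rho * (z⁻¹ * D.xv (om ^ 2 * l)) * z * D.rho⁻¹ * (D.xv (om ^ 2 * l))⁻¹ := by
          rw [commutatorElement_def]; group
      _ = D.rho * D.xv (om ^ 2 * l) * D.rho⁻¹ * (D.xv (om ^ 2 * l))⁻¹ := by
          rw [c2.inv_left.eq]; group
      _ = _ := by
          rw [H44.AP.cj (L.rv _), inv_of L.vv, ← L.vv]
          congr 1; clear * -; revert l; decide
  have hz' := h.comm L cr (comm_of_cj (tv (om ^ 2 * l))) (by rw [ec, sq_of L.vv, mul_one])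
  rw [ec] at hz'
  have a1 : D.xe 1 * D.xb l * t * (D.xe 1 * D.xb l)⁻¹ = t * (D.xv l * (χ l)⁻¹) := by
    have e3 : t * (D.xe 1 * D.xb l) * t⁻¹ = D.xb l * D.xe 1 := by
      have h1 := s'.e 1
      have h2 := s'.b l
      simp only [pw, Bool.false_eq_true, if_false, mul_one, mul_comm m, lm] at h1 h2
      calc _ = t * D.xe 1 * t⁻¹ * (t * D.xb l * t⁻¹) := by group
        _ = _ := by rw [h1, h2]; rfl
    have e4 := bebe L l 1
    rw [one_pow, mul_one] at e4
    rw [h.move, e3, mul_inv_rev, inv_of L.bb, inv_of L.ee, ← e4]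
    group
  have a2 : χ (om * l) * t * (χ (om * l))⁻¹ = t * χ l := by
    have e3 := L.χsw t l m false s' (om * l)
    have e4 : l * m ^ 2 * pw false (om * l) ^ 2 = om ^ 2 * l := by
      clear * - lm; revert l m; decide
    rw [h.move, e3, e4, ← mul_inv_rev, ← eq_inv_of_mul_eq_one_left (mul_assoc (χ l) _ _ ▸ L.χ3 l)]
  refine inn L h (vA L l) (by simpa using v_ne L s.l0 (one_mem _)) (sq_of L.vv l) hz'
    (c := D.xe 1 * D.xb l * χ (om * l)) ?_
  have c3 := cχ L l (inv_mem (mul_mem (xeA (D := D) 1) (xbA l)))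
  calc t * D.xv l = D.xe 1 * D.xb l * t * (D.xe 1 * D.xb l)⁻¹ * χ l := by rw [a1]; group
    _ = D.xe 1 * D.xb l * (t * χ l) * (D.xe 1 * D.xb l)⁻¹ := by rw [mul_assoc, ← c3]; group
    _ = _ := by rw [← a2]; group

variable [Finite G] [Finite H] (hS : StfStmt.{u})
include hS

omit [Finite G] in
theorem ofTF (h : Ct D g t) (tN : t ∈ D.N) (s : Ty B true false (p t)) : In D := by
  by_cases ht : t ∈ D.A ⊔ D.K
  · exact in0 L h ht
  obtain ⟨a, ha, l, m, e⟩ := std L hS h tN ht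
  have aB : p a ∈ B.A := pAK L (mem_sup_left ha)
  have s1 : Ty B true false (p (a * t * a⁻¹)) := by
    have := ((TyA aB).mul L.fa.rel s).mul L.fa.rel (TyA (inv_mem aB))
    rw [pc L (AN ha) tN]
    simpa using this
  rcases e with e | ⟨e, lm⟩ | e
  · exact absurd (ty_uniq L.fa s1 (c := false) ⟨1, one_mem _, l, m, by rwa [one_mul]⟩).1
      (by decide)
  · exact formC L (h.conj (AN ha)) (mul_mem (mul_mem (AN ha) tN) (inv_mem (AN ha))) e lm
  · exact absurd (ty_uniq L.fa s1 (c := true) ⟨1, one_mem _, l, l, by rwa [one_mul]⟩).2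
      (by decide)

omit [Finite G] [Finite H] hS in
theorem ofFF (h : Ct D g t) (tN : t ∈ D.N) (s : Ty B false false (p t)) : In D :=
  in0 L h (AK_of L tN (s.AK L.fa.rel (n := 1) (by
    rw [pow_one, sq, ← pm L tN tN, h.t2, p1 L]; exact one_mem _)))

theorem four (h : Ct D g t) {x y : G} (hx : x ∈ D.K) (hy : y ∈ D.K) (x1 : x ≠ 1)
    (y1 : y ≠ 1) (xy : x ≠ y) (x2 : x * x = 1) (y2 : y * y = 1) (c : x * y = y * x)
    (cx : x * t = t * x) (cy : y * t = t * y) : In D := by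
  obtain ⟨x', xN, y', yN, h1, h2, h3⟩ := copy L h hx hy x1 y1 xy x2 y2 c cx cy
  obtain ⟨a, b, s1⟩ := exTy L.fa.glob (BN L (p x'))
  obtain ⟨a', b', s2⟩ := exTy L.fa.glob (BN L (p y'))
  have s3 := s1.mul L.fa.rel s2
  rw [← pm L xN yN] at s3
  have zN := mul_mem xN yN
  cases a <;> cases b
  · exact ofFF L h1 xN s1
  · cases a' <;> cases b'
    exacts [ofFF L h2 yN s2, ofFF L h3 zN s3, ofTF L hS h2 yN s2, ofTF L hS h3 zN s3]
  · exact ofTF L hS h1 xN s1
  · cases a' <;> cases b'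
    exacts [ofFF L h2 yN s2, ofTF L hS h3 zN s3, ofTF L hS h2 yN s2, ofFF L h3 zN s3]

/-- Type `(D, true)`. -/
theorem formA (h : Ct D g t) {l m : F4} (s : D.St D t l m true) : In D := by
  have l0 := s.l0
  have m0 := s.m0
  have cb : D.xb (m ^ 2) * t = t * D.xb (m ^ 2) := comm_of_cj (by
    rw [s.b]; congr 1; clear * - m0; revert m; decide)
  have ce : D.xe (l ^ 2) * t = t * D.xe (l ^ 2) := comm_of_cj (by
    rw [s.e]; congr 1; clear * - l0; revert l; decide)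
  have tc : t * χ (m ^ 2 * l) * t⁻¹ = χ (m ^ 2 * l) := by
    rw [L.χst t l m true s]; congr 1; clear * - l0 m0; revert l m; decide
  have ty : t * χ (om * (m ^ 2 * l)) * t⁻¹ = χ (om ^ 2 * (m ^ 2 * l)) := by
    rw [L.χst t l m true s]; congr 1; clear * - l0 m0; revert l m; decide
  have ez := be_comm L (m ^ 2) (l ^ 2)
  rw [show m ^ 2 * (l ^ 2) ^ 2 = m ^ 2 * l by clear * - l0; revert l m; decide] at ez
  have h3 := L.χ3 (m ^ 2 * l)
  have hz := h.comm L cb ce (by rw [ez, vχ_sq L, χ4 L])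
  rw [ez] at hz
  have tv : D.xv (om * (m ^ 2 * l ^ 2)) * t * (D.xv (om * (m ^ 2 * l ^ 2)))⁻¹ =
      t * D.xv (m ^ 2 * l ^ 2) := by
    rw [h.move, s.v, inv_of L.vv, ← L.vv]
    congr 2; clear * - l0 m0; revert l m; decide
  have s0 : m ^ 2 * l ^ 2 ≠ 0 := mul_ne_zero (pow_ne_zero 2 m0) (pow_ne_zero 2 l0)
  have z2 := vχ_sq L (m ^ 2 * l ^ 2) (m ^ 2 * l)
  have cc := χχ L (m ^ 2 * l) (om * (m ^ 2 * l))
  have cv := cχ L (m ^ 2 * l) (vA L (om * (m ^ 2 * l ^ 2)))
  have c4 := χ4 L (m ^ 2 * l)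
  have y4 := χ4 L (om * (m ^ 2 * l))
  have cA := χA L (m ^ 2 * l)
  have cK := L.χK (m ^ 2 * l)
  have yK := L.χK (om * (m ^ 2 * l))
  generalize χ (om ^ 2 * (m ^ 2 * l)) = y' at *
  generalize χ (om * (m ^ 2 * l)) = y at *
  generalize χ (m ^ 2 * l) = c at *
  by_cases c2 : c * c = 1
  swap
  · refine in2 L h.gN (mul_mem cK cK) c2 c4 ?_
    have := mul_mem hz hz
    rwa [show ∀ w : G, g⁻¹ * w * g * (g⁻¹ * w * g) = g⁻¹ * (w * w) * g from fun w => by group,
      z2] at this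
  have ci : c⁻¹ = c := inv_eq_of_mul_eq_one_right c2
  have ey : y' = (c * y)⁻¹ := eq_inv_of_mul_eq_one_right h3
  have ym : y * t * y⁻¹ = t * c * (y * y) := by
    have e1 : y⁻¹ = y * (y * y) := inv_eq_of_mul_eq_one_right (by rw [← y4]; group)
    rw [h.move, ty, ey, cc, mul_inv_rev, ci]
    calc t * (c * y⁻¹ * y⁻¹) = t * c * (y * y)⁻¹ := by group
      _ = _ := by rw [inv_eq_of_mul_eq_one_right y4]
  have fin : ∀ w : G, w * t * w⁻¹ = t * c → In D := fun w e =>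
    inn L h (mul_mem (vA L _) (inv_mem cA)) (v_ne L s0 (inv_mem cK)) (z2.trans c2) hz
      (c := D.xv (om * (m ^ 2 * l ^ 2)) * w) (by
        calc t * (D.xv (m ^ 2 * l ^ 2) * c⁻¹) = D.xv (om * (m ^ 2 * l ^ 2)) * t *
              (D.xv (om * (m ^ 2 * l ^ 2)))⁻¹ * c := by rw [tv, ci]; group
          _ = D.xv (om * (m ^ 2 * l ^ 2)) * (t * c) * (D.xv (om * (m ^ 2 * l ^ 2)))⁻¹ := by
              rw [mul_assoc, ← (show Commute _ _ from cv).inv_right.eq]; group
          _ = _ := by rw [← e]; group)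
  by_cases c1 : c = 1
  · exact fin 1 (by rw [c1]; group)
  by_cases y1 : y * y = 1
  · exact fin y (by rw [ym, y1, mul_one])
  by_cases yc : c = y * y
  · refine in2 L h.gN cK c1 c2 (yc ▸ h.sq L (mul_inv_eq_iff_eq_mul.1 ?_) y4)
    rw [ym, ← yc, mul_assoc, c2, mul_one]
  have cy : Commute c y := cc
  refine four L hS h cK (mul_mem yK yK) c1 y1 yc c2 y4 (cy.mul_right cy) (comm_of_cj tc)
    (comm_of_cj ?_)
  calc t * (y * y) * t⁻¹ = t * y * t⁻¹ * (t * y * t⁻¹) := by group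
    _ = (c * (y * c) * y)⁻¹ := by rw [ty, ey]; group
    _ = (c * c * (y * y))⁻¹ := by rw [← cc]; group
    _ = _ := by rw [c2, one_mul, inv_eq_of_mul_eq_one_right y4]

/-- Type `(swap, true)`. -/
theorem formB (h : Ct D g t) {l : F4} (s : D.St D.swap t l l true) : In D := by
  have l0 := s.l0
  have tc : ∀ x, t * χ x * t⁻¹ = (χ x)⁻¹ := fun x => by
    rw [L.χsw t l l true s]; congr 2; clear * - l0; revert l x; decide
  have tv : D.xv (l * om) * t * (D.xv (l * om))⁻¹ = t * D.xv l := by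
    rw [h.move, s.v, inv_of L.vv]
    change t * (D.xv _ * _) = _
    rw [← L.vv]
    congr 2; clear * - l0; revert l; decide
  by_cases hn : ∃ x, x ≠ 0 ∧ ∃ y, χ x * (χ y * χ y) = 1
  · obtain ⟨x', x0', y, e⟩ := hn
    obtain ⟨x, x0, rfl⟩ : ∃ x, x ≠ 0 ∧ x' = l * x := by
      clear * - l0 x0'; revert l x'; decide
    have e1 : t * D.xe x * t⁻¹ = D.xb (l * x ^ 2) := s.e x
    have e2 : t * D.xb (l * x ^ 2) * t⁻¹ = D.xe x := by
      rw [s.b]; change D.xe _ = _; congr 1; clear * - l0; revert l x; decide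
    have e3 : t * D.xv (l * om) * t⁻¹ = D.xv l * D.xv (l * om) := by
      rw [s.v, ← L.vv]; change D.xv _ = _; congr 1; clear * - l0; revert l; decide
    have r1 := L.be (l * x ^ 2) x
    have r2 := L.vb l (l * x ^ 2)
    have r3 := L.ve (l * om) x
    have r4 := L.vb (l * om) (l * x ^ 2)
    have r5 := bebe L (l * x ^ 2) x
    have r6 := χsq L (l * om * x) ((l * om) ^ 2 * (l * x ^ 2) ^ 2)
    have k1 : l * x ^ 2 * x = l := by clear * - x0; revert l x; decide
    have k2 : l * x ^ 2 * x ^ 2 = l * x := by clear * - x0; revert l x; decide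
    have k3 : l ^ 2 * (l * x ^ 2) ^ 2 = l * x := by clear * - x0 l0; revert l x; decide
    have k4 : l * om * x + (l * om) ^ 2 * (l * x ^ 2) ^ 2 = l * x := by
      clear * - x0 l0; revert l x; decide
    rw [k1, k2] at r1 r5
    rw [k3] at r2
    rw [k4] at r6
    have ee := sq_of L.ee x
    have bb := sq_of L.bb (l * x ^ 2)
    have vv := sq_of L.vv (l * om)
    have vl := sq_of L.vv l
    have cE := fun z => (show Commute _ _ from cχ L z (xeA (D := D) x))
    have cB := fun z => (show Commute _ _ from cχ L z (xbA (D := D) (l * x ^ 2)))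
    have cV := fun z w => (show Commute _ _ from cχ L z (vA L w))
    have ca : Commute (χ y) (D.xe x * D.xb (l * x ^ 2) * D.xv (l * om)) :=
      ((cE y).mul_right (cB y)).mul_right (cV y _)
    have hx : χ (l * x) = χ y * χ y := by
      rw [eq_inv_of_mul_eq_one_left e, inv_eq_of_mul_eq_one_right (χ4 L y)]
    have hx2 : χ (l * x) ^ 2 = 1 := by rw [sq, hx, χ4 L]
    have ta : t * (D.xe x * D.xb (l * x ^ 2) * D.xv (l * om)) * t⁻¹ =
        D.xe x * D.xb (l * x ^ 2) * D.xv (l * om) * χ (l * x) := by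
      calc _ = t * D.xe x * t⁻¹ * (t * D.xb (l * x ^ 2) * t⁻¹) * (t * D.xv (l * om) * t⁻¹) := by
            group
        _ = D.xe x * D.xv l * (χ (l * x) * D.xb (l * x ^ 2)) * D.xv l * D.xv (l * om) := by
            rw [e1, e2, e3, r1]; group
        _ = D.xe x * (D.xv l * D.xb (l * x ^ 2)) * (χ (l * x) * D.xv l) * D.xv (l * om) := by
            rw [(cB _).eq]; group
        _ = D.xe x * D.xb (l * x ^ 2) * (D.xv l * D.xv l) * (χ (l * x) * D.xv (l * om)) := by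
            rw [r2, hx2, (cV _ _).eq]; group
        _ = _ := by rw [vl, (cV _ _).eq]; group
    have aa : D.xe x * D.xb (l * x ^ 2) * D.xv (l * om) *
        (D.xe x * D.xb (l * x ^ 2) * D.xv (l * om)) = D.xv l * χ (l * x) := by
      have r7 : D.xe x * D.xb (l * x ^ 2) * D.xe x * D.xb (l * x ^ 2) = D.xv l * χ (l * x) := by
        rw [← (cV _ _).eq, ← inv_of L.vv l, ← inv_inv (χ (l * x)), ← mul_inv_rev, ← r5]
        simp only [mul_inv_rev, inv_of L.bb, inv_of L.ee, mul_assoc]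
      calc _ = D.xe x * D.xb (l * x ^ 2) * (D.xv (l * om) * D.xe x) * D.xb (l * x ^ 2) *
              D.xv (l * om) := by group
        _ = D.xe x * D.xb (l * x ^ 2) * D.xe x * D.xv (l * om) *
              (χ (l * om * x) ^ 2 * D.xb (l * x ^ 2)) * D.xv (l * om) := by rw [r3]; group
        _ = D.xe x * D.xb (l * x ^ 2) * D.xe x * (D.xv (l * om) * D.xb (l * x ^ 2)) *
              (χ (l * om * x) ^ 2 * D.xv (l * om)) := by rw [((cB _).pow_left 2).eq]; group
        _ = D.xe x * D.xb (l * x ^ 2) * D.xe x * D.xb (l * x ^ 2) * D.xv (l * om) *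
              (χ ((l * om) ^ 2 * (l * x ^ 2) ^ 2) ^ 2 * D.xv (l * om)) * χ (l * om * x) ^ 2 := by
            rw [r4, ((cV _ _).pow_left 2).eq]; group
        _ = D.xe x * D.xb (l * x ^ 2) * D.xe x * D.xb (l * x ^ 2) * (D.xv (l * om) *
              D.xv (l * om)) * (χ ((l * om) ^ 2 * (l * x ^ 2) ^ 2) ^ 2 * χ (l * om * x) ^ 2) := by
            rw [((cV _ _).pow_left 2).eq]; group
        _ = _ := by rw [vv, r7, χsq L, add_comm, k4, hx2, mul_one, mul_one]
    generalize D.xe x * D.xb (l * x ^ 2) * D.xv (l * om) = a at ca ta aa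
    have c1 : a * χ y * t = t * (a * χ y) := comm_of_cj (by
      calc t * (a * χ y) * t⁻¹ = t * a * t⁻¹ * (t * χ y * t⁻¹) := by group
        _ = _ := by rw [ta, tc, hx]; group)
    have c2 : a * χ y * (a * χ y) = D.xv l := by
      calc a * χ y * (a * χ y) = a * (χ y * a) * χ y := by group
        _ = a * a * (χ y * χ y) := by rw [ca.eq]; group
        _ = _ := by rw [aa, mul_assoc, e, mul_one]
    have hz := h.sq L c1 (by rw [c2, vl])
    rw [c2] at hz
    exact inn L h (vA L l) (by simpa using v_ne L l0 (one_mem _)) vl hz tv.symm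
  push Not at hn
  have n1 : ∀ x, x ≠ 0 → χ x ≠ 1 := fun x hx e => hn x hx 0 (by rw [e, L.χ0]; group)
  have i1 : ∀ x, χ x * χ x = 1 → χ x * t = t * χ x := fun x e =>
    comm_of_cj (by rw [tc, inv_eq_of_mul_eq_one_right e])
  have i2 : ∀ x, χ x * χ x * t = t * (χ x * χ x) := fun x => comm_of_cj (by
    calc t * (χ x * χ x) * t⁻¹ = t * χ x * t⁻¹ * (t * χ x * t⁻¹) := by group
      _ = _ := by rw [tc, ← mul_inv_rev, inv_eq_of_mul_eq_one_right (χ4 L x)])
  have cc := fun x y => (show Commute _ _ from χχ L x y)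
  have o0 : om ≠ 0 := by decide
  have o2 : om ^ 2 ≠ 0 := by decide
  have h3 := L.χ3 1
  rw [mul_one, mul_one] at h3
  by_cases h1 : ∀ x, χ x * χ x = 1
  · refine four L hS h (L.χK 1) (L.χK om) (n1 1 one_ne_zero) (n1 om o0) (fun e => ?_) (h1 1)
      (h1 om) (χχ L _ _) (i1 _ (h1 1)) (i1 _ (h1 om))
    rw [← e, h1, one_mul] at h3
    exact n1 _ o2 h3
  push Not at h1
  obtain ⟨x, hx⟩ := h1
  by_cases h2 : ∃ y, y ≠ 0 ∧ χ y * χ y = 1
  · obtain ⟨y, y0, hy⟩ := h2
    exact four L hS h (L.χK y) (mul_mem (L.χK x) (L.χK x)) (n1 y y0) hx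
      (fun e => hn y y0 x (by rw [e, χ4 L])) hy (χ4 L x) ((cc y x).mul_right (cc y x)) (i1 y hy)
      (i2 x)
  push Not at h2
  refine four L hS h (mul_mem (L.χK 1) (L.χK 1)) (mul_mem (L.χK om) (L.χK om))
    (h2 1 one_ne_zero) (h2 om o0) (fun e => h2 _ o2 ?_) (χ4 L 1) (χ4 L om)
    (((cc 1 om).mul_right (cc 1 om)).mul_left ((cc 1 om).mul_right (cc 1 om))) (i2 1) (i2 om)
  have h4 := χsq L 1 om
  rw [show (1 : F4) + om = om ^ 2 by decide, sq, sq (χ om), ← e, χ4 L, sq] at h4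
  exact h4.symm

end L

theorem s1_of (hS : StfStmt.{u}) : S1Stmt.{u} := by
  intro G H _ _ _ _ D B p χ L ⟨g, hg, he⟩
  obtain ⟨⟨t, ⟨k, hk, rfl⟩, tN⟩, ht⟩ := exists_prime_orderOf_dvd_card' 2 (even_iff_two_dvd.1 he)
  rw [← orderOf_coe] at ht
  change orderOf (g * k * g⁻¹) = 2 at ht
  change g * k * g⁻¹ ∈ D.N at tN
  have h : Ct D g (g * k * g⁻¹) := ⟨hg, by rw [← sq, ← ht, pow_orderOf_eq_one],
    fun e => by rw [e, orderOf_one] at ht; omega,
    by rwa [show g⁻¹ * (g * k * g⁻¹) * g = k by group]⟩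
  generalize g * k * g⁻¹ = t at h tN
  by_cases hi : t ∈ D.A ⊔ D.K
  · exact in0 L h hi
  obtain ⟨a, ha, l, m, e⟩ := std L hS h tN hi
  have aN : a * t * a⁻¹ ∈ D.N := mul_mem (mul_mem (AN ha) tN) (inv_mem (AN ha))
  have h' := h.conj (AN ha)
  rcases e with e | ⟨e, lm⟩ | e
  · exact formA L hS h' (L.st _ aN l m true e)
  · exact formC L h' aN e lm
  · exact formB L hS h' (L.st' _ aN l l true e)

theorem s1 : S1Stmt.{u} := s1_of H65.AL.stf

end Cfsg.Agent.H22.AcS1
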