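import Cfsg.Agent.H24.ThreeDeg
import Cfsg.Agent.H24.Broline
import Cfsg.Agent.H4.CoprimeAction
import Cfsg.Agent.H8.SylowIn

/-! Comparing prime parts of character degrees. -/

set_option autoImplicit false

namespace Cfsg.Agent.H22.Cd4

open Cfsg Cfsg.Agent.H11 Cfsg.Agent.H24
open scoped commutatorElement

variable {G : Type*} [Group G] {p : ℕ}

theorem exists_const_le [Fintype G] (hp : p.Prime) {χ : G → ℂ} (hχ : IsCharacter G χ)
    (h0 : charDegree χ ≠ 0) : ∃ ψ, IsIrrCharacter G ψ ∧ classInner χ ψ ≠ 0 ∧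
      (charDegree ψ).factorization p ≤ (charDegree χ).factorization p := by
  by_contra h
  push Not at h
  have := dvd_deg_of_forall_constituent hχ (d := p ^ ((charDegree χ).factorization p + 1))
    fun ψ hψ h1 => (hp.pow_dvd_iff_le_factorization (deg_ne_zero hψ)).2 (h ψ hψ h1)
  have := (hp.pow_dvd_iff_le_factorization h0).1 this
  omega

variable [Finite G]

theorem inner_ind (H : Subgroup G) [Fintype G] [Fintype H] {ψ : G → ℂ} (hψ : IsIrrCharacter G ψ)
    (η : H → ℂ) : classInner (indFun H η) ψ ≠ 0 ↔ classInner (fun h : H => ψ h) η ≠ 0 := by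
  rw [H14.classInner_indFun_left _ _ (isClassFunction_of_irr hψ), classInner_ne_zero_comm]

theorem exists_over_le (hp : p.Prime) (H : Subgroup G) [Fintype H] {η : H → ℂ}
    (hη : IsIrrCharacter H η) : ∃ ψ, IsIrrCharacter G ψ ∧ classInner (fun h : H => ψ h) η ≠ 0 ∧
      (charDegree ψ).factorization p ≤ (H.index * charDegree η).factorization p := by
  have := Fintype.ofFinite G
  have e := deg_indFun H (isCharacter_of_irr hη)
  obtain ⟨ψ, h1, h2, h3⟩ := exists_const_le hp (H14.IsCharacter.indFun H (isCharacter_of_irr hη))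
    (e ▸ mul_ne_zero H.index_ne_zero_of_finite (deg_ne_zero hη))
  exact ⟨ψ, h1, (inner_ind H h1 η).1 h2, e ▸ h3⟩

theorem mem_ker_of_over (H : Subgroup G) [Fintype H] {χ : G → ℂ} (hχ : IsIrrCharacter G χ)
    {θ : H → ℂ} (hθ : IsIrrCharacter H θ) (h : classInner (fun h : H => χ h) θ ≠ 0) {x : H}
    (hx : x.1 ∈ charKer χ) : x ∈ charKer θ :=
  charKer_le_of_constituent (isCharacter_comp (isCharacter_of_irr hχ) H.subtype) hθ h
    (by rw [charKer_comp (isCharacter_of_irr hχ) H.subtype]; exact hx)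

theorem le_ker_of_over (H : Subgroup G) [Fintype H] {χ : G → ℂ} (hχ : IsIrrCharacter G χ)
    {θ : H → ℂ} (hθ : IsIrrCharacter H θ) (h : classInner (fun h : H => χ h) θ ≠ 0)
    (W : Subgroup G) [W.Normal] (hW : W ≤ H) (hk : W.subgroupOf H ≤ charKer θ) :
    W ≤ charKer χ := by
  have := Fintype.ofFinite G
  exact (H14.le_charKer_indFun H (isCharacter_of_irr hθ) W hW fun m =>
    apply_eq_of_mem_charKer (hk m.2)).trans (charKer_le_of_constituent
      (H14.IsCharacter.indFun H (isCharacter_of_irr hθ)) hχ ((inner_ind H hχ θ).2 h))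

theorem fact_mul (hp : p.Prime) {a b : ℕ} (ha : ¬ p ∣ a) (hb : b ≠ 0) :
    (a * b).factorization p = b.factorization p := by
  rw [Nat.factorization_mul (by rintro rfl; exact ha (dvd_zero _)) hb, Finsupp.add_apply,
    Nat.factorization_eq_zero_of_not_dvd ha, zero_add]

theorem lift_small (hp : p.Prime) (S N : Subgroup G) (hS : ¬ p ∣ S.index) {η : S → ℂ}
    (hη : IsIrrCharacter S η) {j : ℕ} (hj : charDegree η < p ^ j)
    (hN : ¬ N.subgroupOf S ≤ charKer η) :
    ∃ ψ, IsIrrCharacter G ψ ∧ ¬ N ≤ charKer ψ ∧ (charDegree ψ).factorization p < j := by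
  have := Fintype.ofFinite S
  obtain ⟨ψ, h1, h2, h3⟩ := exists_over_le hp S hη
  refine ⟨ψ, h1, fun h => hN fun x hx => mem_ker_of_over S h1 hη h2 (h hx), h3.trans_lt ?_⟩
  rw [fact_mul hp hS (deg_ne_zero hη)]
  by_contra h
  exact absurd (Nat.le_of_dvd (deg_pos hη)
    ((hp.pow_dvd_iff_le_factorization (deg_ne_zero hη)).2 (not_lt.1 h))) (not_le.2 hj)

theorem le_of_small (M H : Subgroup G)
    (h : ∀ ψ, IsIrrCharacter G ψ → charDegree ψ < H.index → M ≤ charKer ψ) : M ≤ H := by
  classical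
  have := Fintype.ofFinite G
  have h1 := H14.IsCharacter.indFun H (isCharacter_one (G := H))
  refine le_trans ?_ (H14.charKer_indFun_le H isCharacter_one (irr_ne_zero isIrrCharacter_one))
  intro g hg
  rw [mem_charKer_iff_forall_constituent h1]
  intro ψ hψ h2
  by_cases h3 : ψ = fun _ => 1
  · rw [h3, charKer_one]; trivial
  refine h ψ hψ ?_ hg
  have h4 : classInner (indFun H fun _ => (1 : ℂ)) (fun _ => 1) ≠ 0 := by
    rw [H14.classInner_indFun_left _ _ (isClassFunction_const 1), classInner_one_one]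
    exact one_ne_zero
  have h5 := isCharacter_sub_irr h1 isIrrCharacter_one h4
  have h6 := deg_le_of_inner_ne_zero h5 hψ (by
    rwa [classInner_sub_left, classInner_irr_of_ne isIrrCharacter_one hψ (Ne.symm h3), sub_zero])
  have h7 : charDegree (indFun H (fun _ => (1 : ℂ)) - fun _ => 1) + 1 = H.index := by
    apply Nat.cast_injective (R := ℂ)
    push_cast
    rw [deg_cast h5, Pi.sub_apply, H14.indFun_one]
    simp
  omega

theorem le_sylow [Fact p.Prime] {N : Subgroup G} [N.Normal] (hN : IsPGroup p N) (S : Sylow p G) :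
    N ≤ S := by
  have := S.is_maximal' (hN.to_sup_of_normal_left S.isPGroup') le_sup_right
  exact this ▸ le_sup_left

/-- A normal `p`-subgroup outside `T` gives a degree with small `p`-part. -/
theorem T1 (hp : p.Prime) (T Q : Subgroup G) [Q.Normal] (hQ : IsPGroup p Q) (h : ¬ Q ≤ T) :
    ∃ ψ, IsIrrCharacter G ψ ∧ ¬ Q ≤ charKer ψ ∧
      (charDegree ψ).factorization p < T.index.factorization p := by
  have := Fact.mk hp
  obtain ⟨S₁⟩ : Nonempty (Sylow p T) := inferInstance
  obtain ⟨S, hS⟩ := (S₁.isPGroup'.map T.subtype).exists_le_sylow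
  obtain ⟨j, hj⟩ := S.isPGroup'.index (T.subgroupOf S)
  have hSi : ¬ p ∣ (S : Subgroup G).index := Sylow.not_dvd_index S
  have hS1 : ¬ p ∣ (S₁ : Subgroup T).index := Sylow.not_dvd_index S₁
  have h1 : ¬ p ∣ (S : Subgroup G).relIndex T := fun h => hS1
    (h.trans (Subgroup.index_dvd_of_le (Subgroup.map_le_iff_le_comap.1 hS)))
  have h2 : (S : Subgroup G).index * p ^ j = (S : Subgroup G).relIndex T * T.index := by
    rw [← hj, mul_comm, ← Subgroup.relIndex, ← Subgroup.inf_relIndex_right,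
      Subgroup.relIndex_mul_index inf_le_right, ← Subgroup.inf_relIndex_right (S : Subgroup G),
      Subgroup.relIndex_mul_index inf_le_right, inf_comm]
  have h3 : T.index.factorization p = j := by
    rw [← fact_mul hp h1 T.index_ne_zero_of_finite, ← h2,
      fact_mul hp hSi (pow_ne_zero _ hp.ne_zero), hp.factorization_pow,
      Finsupp.single_eq_same]
  rw [h3]
  by_contra hc
  refine h fun x hx => le_of_small (Q.subgroupOf S) (T.subgroupOf S) (fun η hη hd => ?_)
    (x := ⟨x, le_sylow hQ S hx⟩) hx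
  by_contra h4
  exact hc (lift_small hp (S : Subgroup G) Q hSi hη (hd.trans_eq hj) h4)

/-- One step of the Taketa argument for a normal `p`-subgroup. -/
theorem stepA (hp : p.Prime) (N : Subgroup G) [N.Normal] (hN : IsPGroup p N) {χ : G → ℂ}
    (hχ : IsIrrCharacter G χ) (h : ¬ ⁅N, N⁆ ≤ charKer χ) :
    ∃ ψ, IsIrrCharacter G ψ ∧ ¬ N ≤ charKer ψ ∧
      (charDegree ψ).factorization p < (charDegree χ).factorization p := by
  have := Fact.mk hp
  obtain ⟨S⟩ : Nonempty (Sylow p G) := inferInstance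
  have hSi : ¬ p ∣ (S : Subgroup G).index := Sylow.not_dvd_index S
  have := Fintype.ofFinite (S : Subgroup G)
  have := S.isPGroup'.isNilpotent
  have hNS := le_sylow hN S
  obtain ⟨ξ, h1, h2, h3⟩ := exists_const_le hp (χ := fun h : (S : Subgroup G) => χ h)
    (isCharacter_comp (isCharacter_of_irr hχ) (S : Subgroup G).subtype)
    (by rw [deg_res]; exact deg_ne_zero hχ)
  rw [deg_res] at h3
  obtain ⟨H, lam, rfl⟩ := H14.exists_indFun_linear_of_nilpotent h1
  obtain ⟨j, hj⟩ := S.isPGroup'.index H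
  rw [deg_indFun H (isCharacter_monoidHom lam), deg_monoidHom, mul_one, hj, hp.factorization_pow,
    Finsupp.single_eq_same] at h3
  by_contra hc
  refine h (le_ker_of_over (S : Subgroup G) hχ h1 h2 _
    ((Subgroup.commutator_le_left N N).trans hNS) (le_trans ?_
      (taketa_step (N.subgroupOf S) H lam fun η hη hd => ?_)))
  · intro x hx
    rw [← Subgroup.mem_map_iff_mem (S : Subgroup G).subtype_injective, Subgroup.map_commutator,
      Subgroup.subgroupOf_map_subtype, inf_eq_left.2 hNS]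
    exact hx
  · by_contra h4
    obtain ⟨ψ, a, b, c⟩ := lift_small hp (S : Subgroup G) N hSi hη (hd.trans_eq hj) h4
    exact hc ⟨ψ, a, b, c.trans_le h3⟩

theorem dvd_of_not_le (hp : p.Prime) (N : Subgroup G) [N.Normal] (hN : IsPGroup p N) {χ : G → ℂ}
    (hχ : IsIrrCharacter G χ) (h : ¬ ⁅N, N⁆ ≤ charKer χ) : p ∣ charDegree χ := by
  obtain ⟨ψ, -, -, h1⟩ := stepA hp N hN hχ h
  exact Nat.dvd_of_factorization_pos (by omega)

theorem eq_bot_of_ker {N : Subgroup G} (h : ∀ χ, IsIrrCharacter G χ → N ≤ charKer χ) : N = ⊥ :=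
  eq_bot_iff.2 fun _ hx => eq_one_of_forall_mem_charKer fun χ hχ => h χ hχ hx

/-- The derived length of a normal `p`-subgroup is bounded by the number of `p`-parts. -/
theorem thmA (hp : p.Prime) (k : ℕ) : ∀ (j : ℕ) (T : Finset ℕ), IsPGroup p (derivedSeries G j) →
    T.card ≤ k → (∀ χ, IsIrrCharacter G χ → ¬ derivedSeries G j ≤ charKer χ →
      (charDegree χ).factorization p ∈ T) → derivedSeries G (j + k) = ⊥ := by
  induction k with
  | zero =>
    intro j T _ hT h
    rw [Finset.card_eq_zero.1 (Nat.le_zero.1 hT)] at h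
    exact eq_bot_of_ker fun χ hχ => by_contra fun hc => by simpa using h χ hχ hc
  | succ k ih =>
    intro j T hj hT h
    rcases T.eq_empty_or_nonempty with rfl | hne
    · exact derivedSeries_eq_bot_of_le (a := j)
        (eq_bot_of_ker fun χ hχ => by_contra fun hc => by simpa using h χ hχ hc) (by omega)
    have hle : derivedSeries G (j + 1) ≤ derivedSeries G j := Subgroup.commutator_le_left _ _
    rw [show j + (k + 1) = j + 1 + k by omega]
    refine ih (j + 1) (T.erase (T.min' hne)) (hj.to_le hle)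
      (by rw [Finset.card_erase_of_mem (T.min'_mem hne)]; omega) fun χ hχ hc => ?_
    obtain ⟨ψ, h1, h2, h3⟩ := stepA hp _ hj hχ hc
    exact Finset.mem_erase.2 ⟨(lt_of_le_of_lt (T.min'_le _ (h ψ h1 h2)) h3).ne',
      h χ hχ fun e => hc (hle.trans e)⟩

theorem lemT (hp : p.Prime) (F Y : Subgroup G) [F.Normal] [Y.Normal] [Fintype F] {a : ℕ}
    (hY : F.relIndex Y = p ^ a) {χ : G → ℂ} (hχ : IsIrrCharacter G χ) {θ : F → ℂ}
    (hθ : IsIrrCharacter F θ) (h1 : classInner (fun h : F => χ h) θ ≠ 0)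
    (h2 : ¬ Y ≤ H14.inertia F θ) : ∃ ψ, IsIrrCharacter G ψ ∧ F ≤ charKer ψ ∧ ¬ Y ≤ charKer ψ ∧
      (charDegree ψ).factorization p < (charDegree χ).factorization p := by
  have hs := QuotientGroup.mk'_surjective F
  have hk : (QuotientGroup.mk' F).ker ≤ H14.inertia F θ := by
    rw [QuotientGroup.ker_mk']; exact H14.le_inertia F (isClassFunction_of_irr hθ)
  have := (inferInstance : Y.Normal).map _ hs
  obtain ⟨ψ, h3, h4, h5⟩ := T1 hp ((H14.inertia F θ).map (QuotientGroup.mk' F))
    (Y.map (QuotientGroup.mk' F))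
    (IsPGroup.of_card (n := a) (by rw [← Subgroup.relIndex_ker, QuotientGroup.ker_mk', hY]))
    fun h => h2 (by rwa [Subgroup.map_le_iff_le_comap, Subgroup.comap_map_eq, sup_eq_left.2 hk] at h)
  refine ⟨fun g => ψ g, isIrrCharacter_inflate h3, le_charKer_inflate F ψ, fun h => h4 ?_, ?_⟩
  · rw [Subgroup.map_le_iff_le_comap, ← charKer_comp (isCharacter_of_irr h3)]
    exact h
  · rw [Subgroup.index_map_eq _ hs hk] at h5
    rw [deg_congr (ψ := ψ) (by simp)]
    exact h5.trans_le ((Nat.factorization_le_iff_dvd (Subgroup.index_ne_zero_of_finite)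
      (deg_ne_zero hχ)).2 ((Dvd.intro _ rfl).trans (index_inertia_mul_deg_dvd F hχ hθ h1)) p)

end Cfsg.Agent.H22.Cd4
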