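import Cfsg.Agent.H22.Cd4A
import Cfsg.Agent.H3.Cores

/-! Characters over a normal `p`-subgroup and a coprime chief factor above it. -/

set_option autoImplicit false

namespace Cfsg.Agent.H22.Cd4

open Cfsg Cfsg.Agent.H11 Cfsg.Agent.H24 Subgroup
open scoped commutatorElement

variable {G : Type*} [Group G] [Finite G] {p q : ℕ}

theorem lemL (hp : p.Prime) (F Y T : Subgroup G) [F.Normal] [hY : Y.Normal] (hFY : F ≤ Y)
    (hYT : Y ≤ T) (δ : Y →* ℂˣ) (h1 : δ ≠ 1) (hF : F.subgroupOf Y ≤ δ.ker) {m : ℕ} (hm : ¬ p ∣ m)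
    (hδ : ∀ y, δ y ^ m = 1)
    (hT : ∀ g ∈ T, ∀ y : Y, δ ⟨g * y * g⁻¹, hY.conj_mem _ y.2 g⟩ = δ y) :
    ∃ ψ, IsIrrCharacter G ψ ∧ F ≤ charKer ψ ∧ ¬ Y ≤ charKer ψ ∧
      (charDegree ψ).factorization p ≤ T.index.factorization p := by
  have := Fact.mk hp
  obtain ⟨S⟩ : Nonempty (Sylow p T) := inferInstance
  have hSi : ¬ p ∣ (S : Subgroup T).index := Sylow.not_dvd_index S
  obtain ⟨U, hU⟩ : ∃ U, U = Y ⊔ (S : Subgroup T).map T.subtype := ⟨_, rfl⟩
  have hYU : Y ≤ U := hU ▸ le_sup_left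
  have hUT : U ≤ T := hU ▸ sup_le hYT (map_subtype_le _)
  have := Fintype.ofFinite U
  obtain ⟨k, hk⟩ : ∃ k, (Y.subgroupOf U).index = p ^ k := by
    rw [← relIndex, hU, relIndex_sup_left]
    exact (S.isPGroup'.map T.subtype).index _
  obtain ⟨μ, h2, -⟩ := H72.exists_linear_extension (Y.subgroupOf U)
    (δ.comp (subgroupOfEquivOfLe hYU).toMonoidHom)
    (fun g n => hT g (hUT g.2) ⟨n.1.1, n.2⟩) (fun n => hδ _)
    (hk ▸ ((hp.coprime_iff_not_dvd).2 hm).pow_left k)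
  have h3 : ∀ y : Y, μ ⟨y, hYU y.2⟩ = δ y := fun y => h2 ⟨⟨y, hYU y.2⟩, y.2⟩
  have hi := isIrrCharacter_monoidHom μ
  obtain ⟨ψ, h4, h5, h6⟩ := exists_over_le hp U hi
  refine ⟨ψ, h4, le_ker_of_over U h4 hi h5 F (hFY.trans hYU) fun x hx => ?_,
    fun h => h1 (MonoidHom.ext fun y => ?_), h6.trans_eq ?_⟩
  · rw [charKer_monoidHom, MonoidHom.mem_ker]
    exact (h3 ⟨x, hFY hx⟩).trans (hF hx)
  · have := mem_ker_of_over U h4 hi h5 (x := ⟨y, hYU y.2⟩) (h y.2)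
    rw [charKer_monoidHom, MonoidHom.mem_ker, h3] at this
    exact this
  · rw [deg_monoidHom, mul_one, ← relIndex_mul_index hUT,
      fact_mul hp (a := U.relIndex T) (fun h => hSi (h.trans (index_dvd_of_le
        (map_le_iff_le_comap.1 (hU ▸ le_sup_right))))) index_ne_zero_of_finite]

theorem deg_one_of_le (F : Subgroup G) [Fintype F] {χ : G → ℂ} (hχ : IsIrrCharacter G χ)
    {θ : F → ℂ} (hθ : IsIrrCharacter F θ) (h : classInner (fun h : F => χ h) θ ≠ 0)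
    (hk : ⁅F, F⁆ ≤ charKer χ) : charDegree θ = 1 :=
  (deg_eq_one_iff_commutator_le hθ).2 fun x hx => mem_ker_of_over F hχ hθ h
    (hk (H24.map_subtype_commutator F ▸ mem_map_of_mem F.subtype hx))

theorem le_of_deg_one (F : Subgroup G) [F.Normal] [Fintype F] {χ : G → ℂ} (hχ : IsIrrCharacter G χ)
    {θ : F → ℂ} (hθ : IsIrrCharacter F θ) (h : classInner (fun h : F => χ h) θ ≠ 0)
    (h1 : charDegree θ = 1) : ⁅F, F⁆ ≤ charKer χ :=
  le_ker_of_over F hχ hθ h _ (commutator_le_left F F) fun x hx =>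
    (deg_eq_one_iff_commutator_le hθ).1 h1 (by
      rw [← mem_map_iff_mem F.subtype_injective, H24.map_subtype_commutator]; exact hx)

theorem lemX (hp : p.Prime) (F Y : Subgroup G) [F.Normal] [hY : Y.Normal] (hF : IsPGroup p F)
    (hFY : F ≤ Y) (hne : ¬ Y ≤ F) (hab : ⁅Y, Y⁆ ≤ F) (hc : ¬ p ∣ F.relIndex Y) {θ : F → ℂ}
    (hθ : IsIrrCharacter F θ) (h1 : charDegree θ ≠ 1) (h2 : Y ≤ H14.inertia F θ) :
    ∃ χ ψ, IsIrrCharacter G χ ∧ IsIrrCharacter G ψ ∧ ¬ ⁅F, F⁆ ≤ charKer χ ∧ F ≤ charKer ψ ∧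
      ¬ Y ≤ charKer ψ ∧ (charDegree ψ).factorization p < (charDegree χ).factorization p := by
  classical
  have := Fact.mk hp
  have := Fintype.ofFinite G
  obtain ⟨k, hk⟩ := IsPGroup.iff_card.1 hF
  obtain ⟨e, he⟩ := exists_deg_eq_pow_of_isPGroup hF hθ
  have he0 : e ≠ 0 := by rintro rfl; exact h1 he
  have main : ∀ φ : Y → ℂ, IsIrrCharacter Y φ → (fun n : F => φ ⟨n, hFY n.2⟩) = θ →
      ∀ μ : Y →* ℂˣ, detChar φ = (fun g => (μ g : ℂ)) → μ ^ p ^ k ≠ 1 →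
      ∃ χ ψ, IsIrrCharacter G χ ∧ IsIrrCharacter G ψ ∧ ¬ ⁅F, F⁆ ≤ charKer χ ∧ F ≤ charKer ψ ∧
      ¬ Y ≤ charKer ψ ∧ (charDegree ψ).factorization p < (charDegree χ).factorization p := by
    intro φ hφ hr μ hμ hn
    have hk' : F.subgroupOf Y ≤ (μ ^ p ^ k).ker := fun x hx => by
      rw [MonoidHom.mem_ker, MonoidHom.pow_apply, ← map_pow, ← map_one μ]
      congr 1
      have e0 : (⟨x.1, hx⟩ : F) ^ p ^ k = 1 := hk ▸ pow_card_eq_one'
      exact Subtype.ext (congrArg (fun z : F => (z : G)) e0)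
    obtain ⟨ψ, a1, a2, a3, a4⟩ := lemL hp F Y (H14.inertia Y φ) hFY
      (H14.le_inertia Y (isClassFunction_of_irr hφ)) (μ ^ p ^ k) hn hk' hc
      (H72.pow_index_eq_one_of_trivial (F.subgroupOf Y) _ hk') fun g hg y => by
        have e1 := congrFun (H72.detChar_comp (isCharacter_of_irr hφ)
          (MulAut.conjNormal g : Y ≃* Y).toMonoidHom) y
        have e2 : (fun h => φ ((MulAut.conjNormal g : Y ≃* Y).toMonoidHom h)) = φ := hg
        rw [e2, hμ] at e1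
        simp only [MonoidHom.pow_apply]
        congr 1
        exact Units.ext e1.symm
    obtain ⟨χ, b1, b2⟩ := H14.exists_irr_over Y hφ
    have b3 := index_inertia_mul_deg_dvd Y b1 hφ b2
    have b4 : charDegree φ = p ^ e := by rw [← he, ← hr]; exact deg_congr rfl
    refine ⟨χ, ψ, b1, a1, fun h => h1 (deg_one_of_le F b1 hθ (over_trans hFY
      (isCharacter_of_irr b1) hφ (isCharacter_of_irr hθ) b2 (by
        rw [hr, classInner_irr_self hθ]; exact one_ne_zero)) h), a2, a3, a4.trans_lt ?_⟩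
    have b5 := (Nat.factorization_le_iff_dvd (mul_ne_zero index_ne_zero_of_finite (deg_ne_zero hφ))
      (deg_ne_zero b1)).2 b3 p
    rw [Nat.factorization_mul index_ne_zero_of_finite (deg_ne_zero hφ), b4, hp.factorization_pow,
      Finsupp.add_apply, Finsupp.single_eq_same] at b5
    omega
  have hcop : (p ^ (e + k)).Coprime (F.relIndex Y) := ((hp.coprime_iff_not_dvd).2 hc).pow_left _
  obtain ⟨φ, hφ, hr⟩ := exists_extension_of_hall F Y hFY
    (hk ▸ ((hp.coprime_iff_not_dvd).2 hc).pow_left k) hθ h2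
  obtain ⟨μ, hμ⟩ := H72.exists_monoidHom_detChar (isCharacter_of_irr hφ)
  by_cases hn : μ ^ p ^ k = 1
  swap
  · exact main φ hφ hr μ hμ hn
  obtain ⟨y, hy, hy'⟩ := SetLike.not_le_iff_exists.1 hne
  obtain ⟨l, l1, l2⟩ := exists_monoidHom_ne_one (F.subgroupOf Y)
    (commutator_le_subgroupOf_iff.2 hab) (g := ⟨y, hy⟩) hy'
  have hd : φ 1 = (p ^ e : ℕ) := by rw [← he, ← irr_deg hθ, ← hr]; rfl
  refine main (fun g => (l g : ℂ) * φ g) (isIrr_lin_mul (Lin.mk l) hφ) ?_ (l ^ p ^ e * μ) ?_ ?_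
  · rw [← hr]
    funext n
    rw [show l ⟨n, hFY n.2⟩ = 1 from l1 n.2, Units.val_one, one_mul]
  · funext g
    rw [H72.detChar_linear_mul (isCharacter_of_irr hφ) hd, hμ]
    simp
  · intro h
    refine l2 (orderOf_eq_one_iff.1 (Nat.eq_one_of_dvd_coprimes hcop
      (orderOf_dvd_of_pow_eq_one ?_) (orderOf_dvd_of_pow_eq_one
        (H72.pow_index_eq_one_of_trivial (F.subgroupOf Y) l l1 _))))
    have h5 := DFunLike.congr_fun h ⟨y, hy⟩
    have h6 := DFunLike.congr_fun hn ⟨y, hy⟩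
    simp only [MonoidHom.pow_apply, MonoidHom.mul_apply, MonoidHom.one_apply] at h5 h6
    rwa [mul_pow, h6, mul_one, ← pow_mul, ← pow_add] at h5

theorem not_dvd_of_pow (hp : p.Prime) (hq : q.Prime) (hpq : p ≠ q) {a n : ℕ} (h : n = q ^ a) :
    ¬ p ∣ n := fun e => hpq ((Nat.prime_dvd_prime_iff_eq hp hq).1 (hp.dvd_of_dvd_pow (h ▸ e)))

theorem key (hp : p.Prime) (hq : q.Prime) (hpq : p ≠ q) (F Y : Subgroup G) [F.Normal] [Y.Normal]
    (hF : IsPGroup p F) (hFY : F ≤ Y) (hne : ¬ Y ≤ F) (hab : ⁅Y, Y⁆ ≤ F) {a : ℕ}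
    (hY : F.relIndex Y = q ^ a) (hna : ⁅F, F⁆ ≠ ⊥) {d : ℕ}
    (h1 : ∀ χ, IsIrrCharacter G χ → ¬ ⁅F, F⁆ ≤ charKer χ → charDegree χ = d)
    (h2 : ∀ ψ, IsIrrCharacter G ψ → F ≤ charKer ψ → ¬ Y ≤ charKer ψ → charDegree ψ = d) :
    False := by
  classical
  have := Fintype.ofFinite G
  obtain ⟨θ, hθ, h3⟩ := exists_irr_deg_ne_one (G := F) fun h => hna (eq_bot_iff.2
    (commutator_le.2 fun a ha b hb => commutatorElement_eq_one_iff_mul_comm.2
      (congrArg Subtype.val (h ⟨a, ha⟩ ⟨b, hb⟩))))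
  by_cases h4 : Y ≤ H14.inertia F θ
  · obtain ⟨χ, ψ, a1, a2, a3, a4, a5, a6⟩ :=
      lemX hp F Y hF hFY hne hab (not_dvd_of_pow hp hq hpq hY) hθ h3 h4
    rw [h1 χ a1 a3, h2 ψ a2 a4 a5] at a6
    exact lt_irrefl _ a6
  · obtain ⟨χ, b1, b2⟩ := H14.exists_irr_over F hθ
    obtain ⟨ψ, a1, a2, a3, a4⟩ := lemT hq F Y hY b1 hθ b2 h4
    rw [h1 χ b1 fun h => h3 (deg_one_of_le F b1 hθ b2 h), h2 ψ a1 a2 a3] at a4
    exact lt_irrefl _ a4

theorem lemD (hp : p.Prime) (hq : q.Prime) (hpq : p ≠ q) (F Y : Subgroup G) [hFn : F.Normal]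
    [Y.Normal] [Fintype F] (hF : IsPGroup p F) (hFY : F ≤ Y) (hne : ¬ Y ≤ F) {a : ℕ}
    (hY : F.relIndex Y = q ^ a) (hC : centralizer (F : Set G) ≤ F) :
    ∃ χ θ, IsIrrCharacter G χ ∧ ¬ p ∣ charDegree χ ∧ IsIrrCharacter F θ ∧
      classInner (fun h : F => χ h) θ ≠ 0 ∧ ¬ Y ≤ H14.inertia F θ := by
  have := Fact.mk hp
  have := Fact.mk hq
  obtain ⟨Q, hQ, hQY, e⟩ := H14.exists_pgroup_sup_eq hFY hY
  obtain ⟨k, hk⟩ := IsPGroup.iff_card.1 hF
  obtain ⟨j, hj⟩ := IsPGroup.iff_card.1 hQ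
  have hs : H8.IsSylowIn q Q Y := ⟨hQY, hQ, fun h => by
    have e1 := H3.card_sup_mul_card_inf Q F
    rw [sup_comm, e, H8.card_eq_card_mul_relIndex hQY, mul_assoc] at e1
    exact not_dvd_of_pow hq hp hpq.symm hk
      (Nat.eq_of_mul_eq_mul_left Nat.card_pos e1 ▸ h.mul_right _)⟩
  obtain ⟨P⟩ : Nonempty (Sylow p G) := inferInstance
  have hPi : ¬ p ∣ (P : Subgroup G).index := Sylow.not_dvd_index P
  have hFP := le_sylow hF P
  have := P.isPGroup'.isNilpotent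
  have := Fintype.ofFinite (P : Subgroup G)
  have hcop : (Nat.card Q).Coprime (Nat.card F) := by
    rw [hk, hj]; exact ((Nat.coprime_primes hq hp).2 hpq.symm).pow _ _
  have hD : ⁅F, Q⁆ ≤ F := commutator_le_left F Q
  have hn : (normalizer (Q : Set G)).subgroupOf P ≠ ⊤ := fun h => by
    have h1 : F ≤ normalizer (Q : Set G) := hFP.trans (subgroupOf_eq_top.1 h)
    refine hne (e ▸ sup_le le_rfl (le_trans ?_ hC))
    rw [← commutator_eq_bot_iff_le_centralizer, commutator_comm, eq_bot_iff,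
      ← (disjoint_iff.1 (IsPGroup.disjoint_of_ne p q hpq F Q hF hQ))]
    exact le_inf hD (H4.commutator_le_left_of_le_normalizer h1 |>.trans' (commutator_comm F Q).le)
  obtain ⟨M, hM, hle⟩ := (eq_top_or_exists_le_coatom _).resolve_left hn
  have := Group.normalizerCondition_of_isNilpotent.normal_of_coatom M hM
  have h2 := commutator_sup_ne_top M hM.1
  obtain ⟨x, hx, hx'⟩ : ∃ x : (P : Subgroup G), x.1 ∈ ⁅F, Q⁆ ∧
      x ∉ commutator (P : Subgroup G) ⊔ M := by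
    by_contra hc
    push Not at hc
    refine h2 (eq_top_iff.2 fun g _ => ?_)
    obtain ⟨y, hy, m, hm, e2⟩ := hs.frattini (g := g.1) (le_normalizer_of_normal (mem_top _))
    rw [← e] at hy
    obtain ⟨f, hf, z, hz, rfl⟩ := mem_sup_of_normal_left.1 hy
    obtain ⟨n, hn, c, hc', rfl⟩ := H4.exists_commutator_mul_centralizer
      le_normalizer_of_normal hcop (Or.inl (by have := hQ.isNilpotent; infer_instance)) hf
    have e3 : g = ⟨n, hFP (hD hn)⟩ * ((⟨n, hFP (hD hn)⟩ : (P : Subgroup G))⁻¹ * g) := by simp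
    rw [e3]
    refine mul_mem (hc _ hn) (mem_sup_right (hle ?_))
    rw [mem_subgroupOf]
    simp only [Subgroup.coe_mul, Subgroup.coe_inv, e2, mul_assoc, inv_mul_cancel_left]
    exact mul_mem (centralizer_le_normalizer _ hc'.2) (mul_mem (le_normalizer hz) hm)
  obtain ⟨l, -, l2⟩ := exists_monoidHom_ne_one _ le_sup_left hx'
  have hi := isIrrCharacter_monoidHom l
  obtain ⟨χ, a1, a2, a3⟩ := exists_over_le hp (P : Subgroup G) hi
  have hi' := isIrrCharacter_monoidHom (l.comp (inclusion hFP))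
  refine ⟨χ, _, a1, fun h => ?_, hi', over_trans hFP (isCharacter_of_irr a1) hi
    (isCharacter_of_irr hi') a2 (by
      rw [show (fun n : F => ((l ⟨n, hFP n.2⟩ : ℂˣ) : ℂ)) =
        fun n : F => ((l.comp (inclusion hFP) n : ℂˣ) : ℂ) from rfl, classInner_irr_self hi']
      exact one_ne_zero), fun h => l2 ?_⟩
  · rw [deg_monoidHom, mul_one, Nat.factorization_eq_zero_of_not_dvd hPi] at a3
    have := hp.factorization_pos_of_dvd (deg_ne_zero a1) h
    omega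
  · have h3 : ⁅F, Q⁆ ≤ l.ker.map (P : Subgroup G).subtype := commutator_le.2 fun f hf z hz => by
      have h4 := Units.ext ((H14.mem_inertia' F).1 (h (hQY hz)) ⟨f⁻¹, inv_mem hf⟩)
      refine ⟨inclusion hFP (⟨f, hf⟩ * ⟨z * f⁻¹ * z⁻¹, hFn.conj_mem _ (inv_mem hf) z⟩), ?_, by
        simp [commutatorElement_def, mul_assoc]⟩
      change l.comp (inclusion hFP) _ = 1
      rw [map_mul, h4, ← map_mul]
      exact (congrArg _ (Subtype.ext (mul_inv_cancel f))).trans (map_one _)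
    exact (mem_map_iff_mem (P : Subgroup G).subtype_injective).1 (h3 hx)

end Cfsg.Agent.H22.Cd4
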