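import Cfsg.Agent.H22.Cd4B
import Cfsg.Agent.H3.Fitting

/-! Solvable groups whose Fitting subgroup is a `p`-group: tools for four degrees. -/

set_option autoImplicit false

namespace Cfsg.Agent.H22.Cd4

open Cfsg Cfsg.Agent.H11 Cfsg.Agent.H24 Subgroup
open scoped commutatorElement

variable {G : Type*} [Group G] [Finite G] {p q : ℕ}

theorem ker_le_inertia (F : Subgroup G) [hF : F.Normal] [Fintype F] {χ : G → ℂ}
    (hχ : IsIrrCharacter G χ) {θ : F → ℂ} (hθ : IsIrrCharacter F θ)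
    (h : classInner (fun h : F => χ h) θ ≠ 0) : charKer χ ≤ H14.inertia F θ := by
  intro g hg
  have hn := charKer_normal (isClassFunction_of_irr hχ)
  refine (H14.mem_inertia' F).2 fun n => ?_
  have h1 : (⟨g * n * g⁻¹ * n⁻¹, mul_mem (hF.conj_mem _ n.2 g) (inv_mem n.2)⟩ : F) ∈ charKer θ :=
    mem_ker_of_over F hχ hθ h (by
      have := mul_mem hg (hn.conj_mem _ (inv_mem hg) n)
      simpa [mul_assoc] using this)
  rw [← apply_mul_of_mem_charKer h1 n]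
  exact congrArg θ (Subtype.ext (by simp))

theorem exists_under (L : Subgroup G) [L.Normal] {χ : G → ℂ} (hχ : IsIrrCharacter G χ)
    (h : ¬ ⁅L, L⁆ ≤ charKer χ) : ∃ θ, IsIrrCharacter L θ ∧ charDegree θ ≠ 1 ∧
      charDegree θ ∣ charDegree χ ∧ (charKer χ).subgroupOf L ≤ charKer θ := by
  have := Fintype.ofFinite L
  obtain ⟨θ, hθ, h1⟩ := H14.exists_irr_under L hχ
  exact ⟨θ, hθ, fun e => h (le_of_deg_one L hχ hθ h1 e), deg_dvd_of_over L hχ hθ h1,
    fun _ hx => mem_ker_of_over L hχ hθ h1 hx⟩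

theorem exists_above (L : Subgroup G) [L.Normal] {θ : L → ℂ} (hθ : IsIrrCharacter L θ) :
    ∃ χ, IsIrrCharacter G χ ∧ charDegree θ ∣ charDegree χ ∧ ∀ W : Subgroup G, W.Normal → W ≤ L →
      W.subgroupOf L ≤ charKer θ → W ≤ charKer χ := by
  classical
  have := Fintype.ofFinite G
  obtain ⟨χ, hχ, h1⟩ := H14.exists_irr_over L hθ
  exact ⟨χ, hχ, deg_dvd_of_over L hχ hθ h1, fun W _ h2 h3 => le_ker_of_over L hχ hθ h1 W h2 h3⟩

theorem ind_over {K L : Subgroup G} [K.Normal] {r f : ℕ} (hr : r.Prime) (h : FCase K L r f)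
    (F : Subgroup G) [F.Normal] (hFK : F ≤ K) {θ : L → ℂ} (hθ : IsIrrCharacter L θ)
    (h1 : F.subgroupOf L ≤ charKer θ) (h2 : ¬ r ∣ charDegree θ) :
    ∃ χ, IsIrrCharacter G χ ∧ F ≤ charKer χ ∧ charDegree χ = f * charDegree θ := by
  have := h.normal
  have := Fintype.ofFinite G
  rcases exists_inertia_le_or_vanish h.le h.commutator_le h.fpf (isClassFunction_of_irr hθ) with
    ⟨μ, hμ, h3⟩ | h3
  · have h4 := isIrr_lin_mul μ hθ
    refine ⟨_, (H14.isIrr_indFun_iff_inertia_le L h4).2 h3,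
      H14.le_charKer_indFun L (isCharacter_of_irr h4) F (hFK.trans h.le) fun m => ?_, by
        rw [deg_indFun L (isCharacter_of_irr h4), deg_lin_mul, h.index_eq]⟩
    have e1 : μ.hom ⟨m, hFK.trans h.le m.2⟩ = 1 := hμ (hFK m.2)
    have e2 : θ ⟨m, hFK.trans h.le m.2⟩ = θ 1 := apply_eq_of_mem_charKer (h1 m.2)
    simp only [Pi.mul_apply, lin_apply, e1, e2, map_one]
  · obtain ⟨a, ha, e⟩ := h.relIndex_pow
    exact absurd (hr.dvd_of_dvd_pow ((e ▸ dvd_pow_self r ha.ne').trans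
      (index_dvd_deg_sq_of_vanish (K.subgroupOf L) hθ h3))) h2

/-- The Fitting subgroup is a `p`-group. -/
structure Ctx (p : ℕ) (F : Subgroup G) : Prop where
  hp : p.Prime
  pg : IsPGroup p F
  eq : F = fittingSubgroup G

variable [Group.IsSolvable G] {F : Subgroup G} [F.Normal]

omit [Group.IsSolvable G] [F.Normal] in
theorem Ctx.le (c : Ctx p F) (hq : q.Prime) {Y : Subgroup G} [Y.Normal] (h : IsPGroup q Y) :
    Y ≤ F := by
  have := Fact.mk hq
  exact c.eq ▸ H3.le_fitting h.isNilpotent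

omit [Group.IsSolvable G] [F.Normal] in
theorem Ctx.ne (c : Ctx p F) {Y : Subgroup G} [Y.Normal] (hFY : F ≤ Y) (hne : ¬ Y ≤ F) {a : ℕ}
    (hY : F.relIndex Y = q ^ a) : p ≠ q := by
  rintro rfl
  have := Fact.mk c.hp
  obtain ⟨k, hk⟩ := IsPGroup.iff_card.1 c.pg
  exact hne (c.le c.hp (IsPGroup.of_card (n := k + a) (by
    rw [H8.card_eq_card_mul_relIndex hFY, hk, hY, pow_add])))

omit [Group.IsSolvable G] [F.Normal] in
theorem Ctx.sub (c : Ctx p F) (L : Subgroup G) [L.Normal] : Ctx p (F.subgroupOf L) :=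
  ⟨c.hp, c.pg.comap_subtype, c.eq ▸ H3.fitting_subgroupOf_eq L⟩

omit [F.Normal] in
theorem Ctx.gb (c : Ctx p F) (hF : F ≠ ⊤) {ψ : G → ℂ} (hψ : IsIrrCharacter G ψ)
    (h : F ≤ charKer ψ) : ∃ d ∈ charDegrees G, charDegree ψ < d := by
  have := charKer_normal (isClassFunction_of_irr hψ)
  by_cases hn : Group.IsNilpotent (charKer ψ)
  · have e : charKer ψ = fittingSubgroup G := le_antisymm (H3.le_fitting hn) (c.eq ▸ h)
    obtain ⟨χ, h1, h2, -⟩ := exists_deg_gt_of_eq_fitting hψ e (by rwa [e, ← c.eq])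
    exact ⟨_, deg_mem_cd h1, h2⟩
  · obtain ⟨χ, h1, h2, -⟩ := exists_deg_gt_of_not_isNilpotent hψ hn
    exact ⟨_, deg_mem_cd h1, h2⟩

omit [F.Normal] in
theorem Ctx.gb' (c : Ctx p F) (hF : F ≠ ⊤) : ∃ d ∈ charDegrees G,
    ∀ ψ, IsIrrCharacter G ψ → F ≤ charKer ψ → charDegree ψ ≠ d := by
  obtain ⟨χ, h1, h2⟩ := exists_irr_max G
  refine ⟨_, deg_mem_cd h1, fun ψ h3 h4 e => ?_⟩
  obtain ⟨d, h5, h6⟩ := c.gb hF h3 h4
  have := h2 d h5
  omega

theorem Ctx.chief (c : Ctx p F) (W : Subgroup G) [W.Normal] (h : ¬ W ≤ F) :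
    ∃ (Y : Subgroup G) (q a : ℕ), Y.Normal ∧ F ≤ Y ∧ ¬ Y ≤ F ∧ Y ≤ F ⊔ W ∧ ⁅Y, Y⁆ ≤ F ∧ q.Prime ∧
      p ≠ q ∧ F.relIndex Y = q ^ a := by
  obtain ⟨Y, h1, h2, h3, h4⟩ := H14.exists_chief_above (L := F) (M := F ⊔ W)
    (lt_of_le_of_ne le_sup_left fun e => h (e ▸ le_sup_right))
  obtain ⟨h5, q, hq, -, a, ha⟩ := H14.chief_elementary_of_solvable F Y F inferInstance le_rfl h2 h4
  exact ⟨Y, q, a, h1, h2.le, h2.not_ge, h3, h5, hq, c.ne h2.le h2.not_ge ha, ha⟩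

theorem Ctx.dt (c : Ctx p F) (hq : q.Prime) (Y : Subgroup G) [Y.Normal] (hFY : F ≤ Y)
    (hne : ¬ Y ≤ F) {a : ℕ} (hY : F.relIndex Y = q ^ a) :
    ∃ χ ψ, IsIrrCharacter G χ ∧ IsIrrCharacter G ψ ∧ ¬ p ∣ charDegree χ ∧ ¬ Y ≤ F ⊔ charKer χ ∧
      F ≤ charKer ψ ∧ ¬ Y ≤ charKer ψ ∧
      (charDegree ψ).factorization q < (charDegree χ).factorization q := by
  have := Fintype.ofFinite F
  obtain ⟨χ, θ, h1, h2, h3, h4, h5⟩ := lemD c.hp hq (c.ne hFY hne hY) F Y c.pg hFY hne hY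
    (c.eq ▸ H3.centralizer_fitting_le G)
  obtain ⟨ψ, h6, h7, h8, h9⟩ := lemT hq F Y hY h1 h3 h4 h5
  exact ⟨χ, ψ, h1, h6, h2, fun e => h5 (e.trans (sup_le (H14.le_inertia F
    (isClassFunction_of_irr h3)) (ker_le_inertia F h1 h3 h4))), h7, h8, h9⟩

theorem Ctx.three (c : Ctx p F) (hna : ⁅F, F⁆ ≠ ⊥) {x : ℕ}
    (h1 : ∀ χ, IsIrrCharacter G χ → ¬ ⁅F, F⁆ ≤ charKer χ → charDegree χ = x)
    (h2 : ∀ ψ, IsIrrCharacter G ψ → F ≤ charKer ψ → charDegree ψ ≠ 1 → charDegree ψ = x) :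
    derivedSeries G 3 = ⊥ := by
  by_cases h : commutator G ≤ F
  · have h3 : derivedSeries G 2 ≤ ⁅F, F⁆ := by
      rw [derivedSeries_succ, derivedSeries_one]; exact commutator_mono h h
    exact thmA c.hp 1 2 {x.factorization p} (c.pg.to_le (h3.trans (commutator_le_left F F)))
      (by simp) fun χ hχ h4 => by rw [h1 χ hχ fun e => h4 (h3.trans e)]; simp
  · obtain ⟨Y, q, a, _, a1, a2, a3, a4, hq, a5, a6⟩ := c.chief _ h
    exact (key c.hp hq a5 F Y c.pg a1 a2 a4 a6 hna h1 fun ψ b1 b2 b3 => h2 ψ b1 b2 fun e =>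
      b3 (a3.trans (sup_le b2 ((deg_eq_one_iff_commutator_le b1).1 e)))).elim

omit [Group.IsSolvable G] in
/-- All nonlinear degrees divisible by `q`, one of them a power of `q`. -/
theorem allq (hq : q.Prime) {k a b : ℕ}
    (hcd : ∀ d ∈ charDegrees G, d = 1 ∨ d = q ^ k ∨ d = a ∨ d = b)
    (h : ∀ d ∈ charDegrees G, d ≠ 1 → q ∣ d) : derivedSeries G 4 = ⊥ := by
  obtain ⟨N, hN, hcop, j, hj⟩ := exists_normal_complement_of_cd hq h
  have hN' : ∀ d ∈ charDegrees N, d = 1 ∨ d = ordCompl[q] a ∨ d = ordCompl[q] b := by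
    intro d hd
    obtain ⟨e, he, rfl⟩ := exists_cd_ordCompl hq N hcop hj hd
    rcases hcd e he with rfl | rfl | rfl | rfl
    · simp
    · exact Or.inl (Nat.ordCompl_self_pow hq)
    · simp
    · simp
  have hQ : ∀ d ∈ charDegrees (G ⧸ ⁅N, N⁆), d ∈ charDegrees G ∧ ordCompl[q] d = 1 := by
    intro d hd
    obtain ⟨χ, hχ, h1, rfl⟩ := (mem_cd_quotient_iff _).1 hd
    have h3 := deg_dvd_index_of_commutator_le hχ N h1
    rw [hj] at h3
    obtain ⟨j, -, hj⟩ := (Nat.dvd_prime_pow hq).1 h3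
    exact ⟨deg_mem_cd hχ, by rw [hj, Nat.ordCompl_self_pow hq]⟩
  have hone : ∀ a b, (∀ d ∈ charDegrees G, d = 1 ∨ d = q ^ k ∨ d = a ∨ d = b) →
      (∀ d ∈ charDegrees N, d = 1 ∨ d = ordCompl[q] a ∨ d = ordCompl[q] b) →
      ordCompl[q] a = 1 → ordCompl[q] b ≠ 1 → derivedSeries G 4 = ⊥ := by
    intro a b h1 h3 ha hb
    refine derivedSeries_add_eq_bot N (a := 3) (b := 1) (k := 1) ?_
      (derivedSeries_two_of_cd (m := ordCompl[q] b) fun d hd => by
        have := h3 d hd; rw [ha] at this; tauto)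
    rw [map_derivedSeries_one]
    refine derivedSeries_le_of_quotient _ (derivedSeries_three_of_cd _ (q ^ k) a fun d hd => ?_)
    obtain ⟨h4, h5⟩ := hQ d hd
    rcases h1 d h4 with h6 | h6 | h6 | rfl
    · exact Or.inl h6
    · exact Or.inr (Or.inl h6)
    · exact Or.inr (Or.inr h6)
    · exact absurd h5 hb
  by_cases h3 : ordCompl[q] a = 1 <;> by_cases h4 : ordCompl[q] b = 1
  · have := Fact.mk hq
    have : Group.IsNilpotent (G ⧸ N) := (IsPGroup.of_card (n := j) hj).isNilpotent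
    refine derivedSeries_eq_bot_of_isM (isM_of_abelian_by_nilpotent N fun a ha b hb =>
      congrArg Subtype.val (comm_of_cd (G := N) (fun d hd => ?_) ⟨a, ha⟩ ⟨b, hb⟩)) ?_
    · have := hN' d hd
      rw [h3, h4] at this
      tauto
    · refine (Set.ncard_le_ncard (t := {1, q ^ k, a, b}) hcd).trans ?_
      refine (Set.ncard_insert_le _ _).trans (Nat.succ_le_succ ?_)
      refine (Set.ncard_insert_le _ _).trans (Nat.succ_le_succ ?_)
      exact (Set.ncard_insert_le _ _).trans (by simp)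
  · exact hone a b hcd hN' h3 h4
  · exact hone b a (fun d hd => by have := hcd d hd; tauto)
      (fun d hd => by have := hN' d hd; tauto) h4 h3
  · refine derivedSeries_add_eq_bot N (a := 2) (b := 1) (k := 2) ?_
      (derivedSeries_three_of_cd N _ _ hN')
    rw [map_derivedSeries_one]
    refine derivedSeries_le_of_quotient _ (derivedSeries_two_of_cd (m := q ^ k) fun d hd => ?_)
    obtain ⟨h5, h6⟩ := hQ d hd
    rcases hcd d h5 with h7 | h7 | rfl | rfl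
    · exact Or.inl h7
    · exact Or.inr h7
    · exact absurd h6 h3
    · exact absurd h6 h4

end Cfsg.Agent.H22.Cd4
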