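import Cfsg.Agent.H22.Cd4C

/-! Solvable groups with four character degrees have derived length at most four (Garrison). -/

set_option autoImplicit false

namespace Cfsg.Agent.H22.Cd4

open Cfsg Cfsg.Agent.H11 Cfsg.Agent.H24 Subgroup
open scoped commutatorElement

universe u

variable {G : Type*} [Group G] [Finite G] [Group.IsSolvable G] {p q r f a b : ℕ}
  {F K L : Subgroup G} [F.Normal] [K.Normal]

theorem re4 {S : Set ℕ} {f a b x y : ℕ} (h : ∀ d ∈ S, d = 1 ∨ d = f ∨ d = a ∨ d = b) (hx : x ∈ S)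
    (hy : y ∈ S) (x1 : x ≠ 1) (xf : x ≠ f) (y1 : y ≠ 1) (yf : y ≠ f) (xy : x ≠ y) :
    ∀ d ∈ S, d = 1 ∨ d = f ∨ d = x ∨ d = y := fun d hd => by
  have := h d hd; have := h x hx; have := h y hy; omega

theorem caseP (c : Ctx p F) (hF : F ≠ ⊤) (hFK : F ≤ K) (hq : q.Prime) {k : ℕ}
    (hK : K.index = q ^ k) {j : ℕ} (hj : j ≠ 0) {β : G → ℂ} (hβ : IsIrrCharacter G β)
    (hKβ : K ≤ charKer β) (hf : charDegree β = q ^ j)
    (hcd : ∀ d ∈ charDegrees G, d = 1 ∨ d = q ^ j ∨ d = a ∨ d = b) : derivedSeries G 4 = ⊥ := by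
  by_cases h : ∀ d ∈ charDegrees G, d ≠ 1 → q ∣ d
  · exact allq hq hcd h
  push Not at h
  obtain ⟨m, hm, m1, hqm⟩ := h
  have hco : ∀ {n : ℕ}, ¬ q ∣ n → n.Coprime K.index := fun h =>
    hK ▸ ((hq.coprime_iff_not_dvd).2 h).symm.pow_right k
  have hqf : q ∣ q ^ j := dvd_pow_self q hj
  have hf1 : 1 < q ^ j := Nat.one_lt_pow hj hq.one_lt
  have hm1 : 1 < m := lt_of_le_of_ne (pos_of_mem_cd hm) m1.symm
  have hfm := mul_mem_cd_of_coprime K hm (hf ▸ deg_mem_cd_quotient hβ K hKβ) (hco hqm)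
  have mf : m ≠ q ^ j := fun e => hqm (e ▸ hqf)
  have hcd' := re4 hcd hm hfm m1 mf (by nlinarith) (by nlinarith) (by nlinarith)
  have hmax : ∀ ψ, IsIrrCharacter G ψ → F ≤ charKer ψ → charDegree ψ ≠ m * q ^ j := by
    intro ψ h1 h2 e
    obtain ⟨d, h3, h4⟩ := c.gb hF h1 h2
    rcases hcd' d h3 with h5 | h5 | h5 | h5 <;> nlinarith
  have h2 : derivedSeries G 2 ≤ F := by
    refine derivedSeries_le_of_quotient F (derivedSeries_two_of_cd (m := q ^ j) fun d hd => ?_)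
    obtain ⟨ψ, h1, h2, rfl⟩ := (mem_cd_quotient_iff F).1 hd
    rcases hcd' _ (deg_mem_cd h1) with h5 | h5 | h5 | h5
    · exact Or.inl h5
    · exact Or.inr h5
    · have h6 := gallagher_isIrr K (isCharacter_of_irr h1)
        (res_isIrr_of_coprime K h1 (hco (h5 ▸ hqm))) hβ hKβ
      refine absurd (by rw [deg_mul (isCharacter_of_irr h1) (isCharacter_of_irr hβ), h5, hf])
        (hmax _ h6 fun g hg => (mem_charKer_irr_iff h6).2 ?_)
      rw [Pi.mul_apply, Pi.mul_apply, apply_eq_of_mem_charKer (h2 hg),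
        apply_eq_of_mem_charKer (hKβ (hFK hg))]
    · exact absurd h5 (hmax ψ h1 h2)
  have h3 : derivedSeries G 3 ≤ ⁅F, F⁆ := commutator_mono h2 h2
  refine thmA c.hp 1 3 {(m * q ^ j).factorization p}
    (c.pg.to_le (h3.trans (commutator_le_left F F))) (by simp) fun χ hχ h4 => ?_
  have h5 := dvd_of_not_le c.hp F c.pg hχ fun e => h4 (h3.trans e)
  rw [Finset.mem_singleton]
  rcases hcd' _ (deg_mem_cd hχ) with h6 | h6 | h6 | h6 <;> rw [h6] at h5 ⊢
  · exact absurd (Nat.dvd_one.1 h5) c.hp.one_lt.ne'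
  · obtain rfl := (Nat.prime_dvd_prime_iff_eq c.hp hq).1 (c.hp.dvd_of_dvd_pow h5)
    exact (fact_mul c.hp hqm (by omega)).symm
  · rw [mul_comm]
    exact (fact_mul c.hp (not_dvd_of_pow c.hp hq (fun e => hqm (e ▸ h5)) rfl) (by omega)).symm

theorem caseF2 (c : Ctx p F) (hF : F ≠ ⊤) (hna : ⁅F, F⁆ ≠ ⊥) (hFK : F ≤ K) (hr : r.Prime)
    (h : FCase K L r f) (hf1 : f ≠ 1) {β : G → ℂ} (hβ : IsIrrCharacter G β) (hKβ : K ≤ charKer β)
    (hf : charDegree β = f) (hcd : ∀ d ∈ charDegrees G, d = 1 ∨ d = f ∨ d = a ∨ d = b)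
    (hL : ∀ d ∈ charDegrees L, d ≠ 1 → r ∣ d) : derivedSeries G 4 = ⊥ := by
  have := h.normal
  have hoff : ∀ χ, IsIrrCharacter G χ → ¬ ⁅L, L⁆ ≤ charKer χ →
      charDegree χ ≠ 1 ∧ charDegree χ ≠ f := fun χ hχ h1 => by
    obtain ⟨θ, h2, h3, h4, -⟩ := exists_under L hχ h1
    have h5 := (hL _ (deg_mem_cd h2) h3).trans h4
    exact ⟨fun e => hr.one_lt.ne' (Nat.dvd_one.1 (e ▸ h5)), fun e => h.not_dvd (e ▸ h5)⟩
  by_cases h1 : ⁅L, L⁆ ≤ F
  · have h2 : derivedSeries G 2 ≤ ⁅L, L⁆ := by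
      rw [derivedSeries_succ, derivedSeries_one]
      exact commutator_mono h.commutator_le' h.commutator_le'
    refine thmA c.hp 2 2 {a.factorization p, b.factorization p} (c.pg.to_le (h2.trans h1))
      Finset.card_le_two fun χ hχ h3 => ?_
    have h4 := hoff χ hχ fun e => h3 (h2.trans e)
    rcases hcd _ (deg_mem_cd hχ) with h5 | h5 | h5 | h5
    · exact absurd h5 h4.1
    · exact absurd h5 h4.2
    · simp [h5]
    · simp [h5]
  exfalso
  obtain ⟨Y, q, k, _, a1, a2, a3, a4, hq, a5, a6⟩ := c.chief _ h1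
  obtain ⟨χ, ψ, b1, b2, b3, b4, b5, b6, b7⟩ := c.dt hq Y a1 a2 a6
  have hY : ∀ φ, IsIrrCharacter G φ → F ≤ charKer φ → ¬ Y ≤ charKer φ →
      charDegree φ ≠ 1 ∧ charDegree φ ≠ f := fun φ e1 e2 e3 =>
    hoff φ e1 fun e => e3 (a3.trans (sup_le e2 e))
  have c1 := hoff χ b1 fun e => b4 (a3.trans (sup_le_sup_left e F))
  have c2 := hY ψ b2 b5 b6
  have hcd' := re4 hcd (deg_mem_cd b1) (deg_mem_cd b2) c1.1 c1.2 c2.1 c2.2 fun e => by
    rw [e] at b7; exact lt_irrefl _ b7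
  obtain ⟨d, d1, d2⟩ := c.gb' hF
  have d3 := d2 _ isIrrCharacter_one (by rw [charKer_one]; exact le_top)
  have d4 := d2 β hβ (hFK.trans hKβ)
  have d5 := d2 ψ b2 b5
  have d6 := hcd' d d1
  rw [deg_one] at d3
  refine key c.hp hq a5 F Y c.pg a1 a2 a4 a6 hna (d := charDegree ψ) (fun φ e1 e2 => ?_)
    fun φ e1 e2 e3 => ?_
  · have e3 := hoff φ e1 fun e => e2 ((commutator_mono (hFK.trans h.le) (hFK.trans h.le)).trans e)
    have e4 : charDegree φ ≠ charDegree χ := fun e => b3 (e ▸ dvd_of_not_le c.hp F c.pg e1 e2)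
    have := hcd' _ (deg_mem_cd e1)
    omega
  · have := hY φ e1 e2 e3
    have := hcd' _ (deg_mem_cd e1)
    have := d2 φ e1 e2
    omega

theorem caseF1 (c : Ctx p F) (hF : F ≠ ⊤) (hna : ⁅F, F⁆ ≠ ⊥) (hFK : F ≤ K) (hr : r.Prime)
    (h : FCase K L r f) (hf1 : 1 < f) {β : G → ℂ} (hβ : IsIrrCharacter G β) (hKβ : K ≤ charKer β)
    (hf : charDegree β = f) (hcd : ∀ d ∈ charDegrees G, d = 1 ∨ d = f ∨ d = a ∨ d = b)
    {x : ℕ} (hx : x ∈ charDegrees L) (x1 : x ≠ 1) (hrx : ¬ r ∣ x) : derivedSeries G 4 = ⊥ := by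
  have := h.normal
  have := Fact.mk hr
  have hFL := hFK.trans h.le
  have hx1 : 1 < x := lt_of_le_of_ne (pos_of_mem_cd hx) x1.symm
  have hfx : f * x ∈ charDegrees G := (h.mul_mem_cd_or_dvd hr hx).resolve_right fun e => hrx e.1
  have hrfx : ¬ r ∣ f * x := fun e => ((Nat.Prime.dvd_mul hr).1 e).elim h.not_dvd hrx
  have hr1 : ¬ r ∣ 1 := fun e => hr.one_lt.ne' (Nat.dvd_one.1 e)
  have hrK : r ∣ K.index := by
    obtain ⟨k, hk, e⟩ := h.relIndex_pow
    rw [← relIndex_mul_index h.le, e]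
    exact (dvd_pow_self r hk.ne').mul_right _
  obtain ⟨e, he, hre⟩ : ∃ e ∈ charDegrees G, r ∣ e := by
    by_contra hc
    push Not at hc
    obtain ⟨P⟩ : Nonempty (Sylow r G) := inferInstance
    have := (ito_sylow_normal (isPSolvable_of_isSolvable hr G inferInstance) hc P).1
    exact Sylow.not_dvd_index P (hrK.trans (index_dvd_of_le ((c.le hr P.isPGroup').trans hFK)))
  have hcd' := re4 hcd hfx he (by nlinarith) (by nlinarith) (fun e => hr1 (e ▸ hre))
    (fun e => h.not_dvd (e ▸ hre)) fun e => hrfx (e ▸ hre)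
  have hre' : ∀ d ∈ charDegrees G, r ∣ d → d = e := fun d hd h1 => by
    rcases hcd' d hd with rfl | rfl | rfl | rfl
    exacts [absurd h1 hr1, absurd h1 h.not_dvd, absurd h1 hrfx, rfl]
  have hL : ∀ θ, IsIrrCharacter L θ → charDegree θ ≠ 1 → ¬ r ∣ charDegree θ →
      charDegree θ = x := fun θ h1 h2 h3 => by
    have h4 := (h.mul_mem_cd_or_dvd hr (deg_mem_cd h1)).resolve_right fun e => h3 e.1
    rcases hcd' _ h4 with h5 | h5 | h5 | h5
    · exact absurd (Nat.eq_one_of_mul_eq_one_left h5) h2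
    · exact absurd ((mul_eq_left₀ (by omega)).1 h5) h2
    · exact Nat.eq_of_mul_eq_mul_left (by omega) h5
    · exact absurd ((Nat.Prime.dvd_mul hr).1 (h5 ▸ hre)) (not_or.2 ⟨h.not_dvd, h3⟩)
  by_cases hq : ∃ ψ, IsIrrCharacter G ψ ∧ F ≤ charKer ψ ∧ r ∣ charDegree ψ
  · exfalso
    obtain ⟨ψ₀, p1, p2, p3⟩ := hq
    obtain ⟨Y, q, k, _, a1, a2, a3, a4, hq, a5, a6⟩ := c.chief ⁅L, L⁆ fun e' => h.not_dvd
      (p3.trans (h.index_eq ▸ deg_dvd_index_of_commutator_le p1 L (e'.trans p2)))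
    obtain ⟨d, d1, d2⟩ := c.gb' hF
    have d3 := d2 _ isIrrCharacter_one (by rw [charKer_one]; exact le_top)
    have d4 := d2 β hβ (hFK.trans hKβ)
    have d5 := d2 ψ₀ p1 p2
    have d6 := hcd' d d1
    have d7 := hre' _ (deg_mem_cd p1) p3
    rw [deg_one] at d3
    have hY : ∀ φ, IsIrrCharacter G φ → F ≤ charKer φ → ¬ Y ≤ charKer φ → charDegree φ = e := by
      intro φ e1 e2 e3
      obtain ⟨θ, t1, t2, t3, t4⟩ := exists_under L e1 fun e => e3 (a3.trans (sup_le e2 e))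
      refine hre' _ (deg_mem_cd e1) (dvd_trans (by_contra fun t5 => ?_) t3)
      obtain ⟨χ, u1, u2, u3⟩ := ind_over hr h F hFK t1 ((subgroupOf_mono L e2).trans t4) t5
      have := d2 χ u1 u2
      rw [u3, hL θ t1 t2 t5] at this
      omega
    obtain ⟨χ, ψ, b1, b2, b3, b4, b5, b6, b7⟩ := c.dt hq Y a1 a2 a6
    rw [hY ψ b2 b5 b6] at b7
    have hp : ¬ p ∣ f * x := by
      rcases hcd' _ (deg_mem_cd b1) with h5 | h5 | h5 | h5
      · simp [h5] at b7
      · obtain ⟨θ, t1, t2, t3, -⟩ := exists_under L b1 fun e => b4 (a3.trans (sup_le_sup_left e F))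
        rw [h5] at t3 b3
        rw [hL θ t1 t2 fun e => h.not_dvd (e.trans t3)] at t3
        exact fun e => ((Nat.Prime.dvd_mul c.hp).1 e).elim b3 fun e => b3 (e.trans t3)
      · exact h5 ▸ b3
      · simp [h5] at b7
    refine key c.hp hq a5 F Y c.pg a1 a2 a4 a6 hna (fun φ e1 e2 => ?_) hY
    have e3 := dvd_of_not_le c.hp F c.pg e1 e2
    rcases hcd' _ (deg_mem_cd e1) with h5 | h5 | h5 | h5 <;> rw [h5] at e3 ⊢
    · exact absurd (Nat.dvd_one.1 e3) c.hp.one_lt.ne'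
    · exact absurd (e3.mul_right x) hp
    · exact absurd e3 hp
  push Not at hq
  obtain ⟨P⟩ : Nonempty (Sylow r (G ⧸ F)) := inferInstance
  have := (ito_sylow_normal (isPSolvable_of_isSolvable hr (G ⧸ F) inferInstance) (fun d hd => by
    obtain ⟨ψ, h1, h2, rfl⟩ := (mem_cd_quotient_iff F).1 hd
    exact hq ψ h1 h2) P).1
  have hs := QuotientGroup.mk'_surjective F
  obtain ⟨k, hk⟩ := IsPGroup.iff_card.1 P.isPGroup'
  obtain ⟨χ, ψ, b1, -, b3, -, -, -, b7⟩ := c.dt hr ((P : Subgroup (G ⧸ F)).comap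
    (QuotientGroup.mk' F)) (QuotientGroup.le_comap_mk' F _) (fun e => Sylow.not_dvd_index P (by
      rw [← index_comap_of_surjective _ hs]
      exact hrK.trans (index_dvd_of_le (e.trans hFK)))) (a := k) (by
      rw [← hk]
      conv_lhs => lhs; rw [← QuotientGroup.ker_mk' F]
      rw [relIndex_ker, map_comap_eq_self_of_surjective hs])
  rw [hre' _ (deg_mem_cd b1) (Nat.dvd_of_factorization_pos (by omega))] at b3
  have c' := c.sub L
  refine derivedSeries_add_eq_bot' L (a := 1) (k := 3) (derivedSeries_one G ▸ h.commutator_le')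
    (c'.three (x := x) (fun e => hna ?_) (fun θ t1 t2 => ?_) fun θ t1 t2 t3 => ?_)
  · rw [← inf_eq_left.2 hFL, ← subgroupOf_map_subtype, ← map_commutator, e, Subgroup.map_bot]
  · have t3 := dvd_of_not_le c.hp _ c'.pg t1 t2
    obtain ⟨φ, u1, u2, -⟩ := exists_above L t1
    exact hL θ t1 (fun e => c.hp.one_lt.ne' (Nat.dvd_one.1 (e ▸ t3))) fun e =>
      b3 (hre' _ (deg_mem_cd u1) (e.trans u2) ▸ t3.trans u2)
  · obtain ⟨φ, u1, u2, u3⟩ := exists_above L t1
    exact hL θ t1 t3 fun e => hq φ u1 (u3 F inferInstance hFL t2) (e.trans u2)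

theorem ctx_main (c : Ctx p F) {e : ℕ}
    (hcd : ∀ d ∈ charDegrees G, d = 1 ∨ d = e ∨ d = a ∨ d = b) : derivedSeries G 4 = ⊥ := by
  by_cases hA : commutator G ≤ F
  · refine thmA c.hp 3 1 {e.factorization p, a.factorization p, b.factorization p}
      (c.pg.to_le (derivedSeries_one G ▸ hA)) Finset.card_le_three fun χ hχ h => ?_
    rcases hcd _ (deg_mem_cd hχ) with h1 | h1 | h1 | h1
    · exact absurd (derivedSeries_one G ▸ (deg_eq_one_iff_commutator_le hχ).1 h1) h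
    all_goals simp [h1]
  have hF : F ≠ ⊤ := fun e => hA (e ▸ le_top)
  by_cases hna : ⁅F, F⁆ = ⊥
  · obtain ⟨d, d1, d2⟩ := c.gb' hF
    have d3 := d2 _ isIrrCharacter_one (by rw [charKer_one]; exact le_top)
    rw [deg_one] at d3
    obtain ⟨m, n, h⟩ : ∃ m n, ∀ x ∈ charDegrees G, x ≠ d → x = 1 ∨ x = m ∨ x = n := by
      rcases hcd d d1 with h | h | h | h
      · exact absurd h.symm d3
      · exact ⟨a, b, fun x hx _ => by have := hcd x hx; omega⟩
      · exact ⟨e, b, fun x hx _ => by have := hcd x hx; omega⟩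
      · exact ⟨e, a, fun x hx _ => by have := hcd x hx; omega⟩
    have h3 := derivedSeries_le_of_quotient F (derivedSeries_three_of_cd _ m n fun x hx => by
      obtain ⟨ψ, h1, h2, rfl⟩ := (mem_cd_quotient_iff F).1 hx
      exact h _ (deg_mem_cd h1) (d2 ψ h1 h2))
    exact eq_bot_iff.2 (hna ▸ commutator_mono h3 h3)
  obtain ⟨K, _, hFK, hK, hmax⟩ := exists_maximal_not_commutator_le F hA
  obtain ⟨q, f, hq, hf, ⟨β, hβ, hKβ, hβf⟩, -, h⟩ := dichotomy K hK hmax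
  obtain ⟨m, n, hcd'⟩ : ∃ m n, ∀ x ∈ charDegrees G, x = 1 ∨ x = f ∨ x = m ∨ x = n := by
    rcases hcd f (hβf ▸ deg_mem_cd hβ) with h | h | h | h
    · omega
    · exact ⟨a, b, fun x hx => by have := hcd x hx; omega⟩
    · exact ⟨e, b, fun x hx => by have := hcd x hx; omega⟩
    · exact ⟨e, a, fun x hx => by have := hcd x hx; omega⟩
  rcases h with ⟨Z, h⟩ | ⟨L, h⟩
  · obtain ⟨k, hk⟩ := h.index_pow
    have h1 := index_dvd_of_le h.le
    rw [h.index_eq, hk] at h1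
    obtain ⟨j, -, rfl⟩ := (Nat.dvd_prime_pow hq).1 ((dvd_pow_self f two_ne_zero).trans h1)
    exact caseP c hF hFK hq hk (by rintro rfl; simp at hf) hβ hKβ hβf hcd'
  · by_cases hL : ∀ d ∈ charDegrees L, d ≠ 1 → q ∣ d
    · exact caseF2 c hF hna hFK hq h hf.ne' hβ hKβ hβf hcd' hL
    · push Not at hL
      obtain ⟨x, h1, h2, h3⟩ := hL
      exact caseF1 c hF hna hFK hq h hf hβ hKβ hβf hcd' h1 h2 h3

theorem four (G : Type u) [Group G] [Finite G] : Group.IsSolvable G → ∀ a b e,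
    (∀ d ∈ charDegrees G, d = 1 ∨ d = e ∨ d = a ∨ d = b) → derivedSeries G 4 = ⊥ := by
  refine H1.card_induction (P := fun G _ _ => Group.IsSolvable G → ∀ a b e,
    (∀ d ∈ charDegrees G, d = 1 ∨ d = e ∨ d = a ∨ d = b) → derivedSeries G 4 = ⊥) ?_ G
  intro G _ _ ih _ a b e hcd
  rcases subsingleton_or_nontrivial G with _ | _
  · exact Subsingleton.elim _ _
  have hq : ∀ N : Subgroup G, N.Normal → N ≠ ⊥ → derivedSeries G 4 ≤ N := fun N _ hN =>
    derivedSeries_le_of_quotient N (ih _ (H1.card_quotient_lt hN) inferInstance a b e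
      fun d hd => hcd d (cd_quotient_subset N hd))
  obtain ⟨p, hp, h1⟩ : ∃ p : ℕ, p.Prime ∧ pCore p G ≠ ⊥ := by
    by_contra hc
    push Not at hc
    exact H3.fitting_ne_bot G (H3.fitting_eq_bot_iff.2 hc)
  have := Fact.mk hp
  have := H3.pCore_characteristic p G
  have := H3.pPrimeCore_characteristic p G
  by_cases h2 : pPrimeCore p G = ⊥
  · exact ctx_main ⟨hp, H3.pCore_isPGroup p G, (H3.fitting_eq_pCore h2).symm⟩ hcd
  · exact eq_bot_iff.2 (H3.pCore_inf_pPrimeCore p G ▸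
      le_inf (hq _ inferInstance h1) (hq _ inferInstance h2))

end Cfsg.Agent.H22.Cd4
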