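import Cfsg.Agent.H45.IvDefs

/-! Project CY (row S3256), chapter IV: the case of lines with four points: a subspace is good or of unital type. -/

set_option autoImplicit false

namespace Cfsg.Agent.H22.F3

open Subgroup MulAction Cfsg.Agent.H11.Cy Cfsg.Agent.H45.Iv
open scoped commutatorElement

section Defs
variable {G : Type} [Group G] {Ω : Type} [MulAction G Ω]

/-- central involutions are squares -/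
def Sq (A : Ω → Subgroup G) (x y : Ω) : Prop := ∀ z ∈ Zl A x y, z ≠ 1 →
  ∃ r ∈ Rl A x y, r ∉ Zl A x y ∧ r * r = z

def NoFl (A : Ω → Subgroup G) (P : Set Ω) : Prop := ∀ x ∈ P, ∀ y ∈ P, x ≠ y → ∀ r ∈ Rl A x y,
  r ∉ Zl A x y → r * r ∉ Cs A P
/-- trivial holonomy -/
def TH (A : Ω → Subgroup G) (P : Set Ω) : Prop := ∀ d ∈ P, ∀ a ∈ A d, a ∈ Ts A P → a = 1
/-- good subspaces are lines -/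
def GLn (A : Ω → Subgroup G) (P : Set Ω) : Prop := ∀ Ψ, Sub A Ψ → Good A Ψ → Ψ ⊆ P →
  ∀ x ∈ Ψ, ∀ y ∈ Ψ, x ≠ y → Ψ ⊆ Ln A x y
/-- unital type -/
def Ut (A : Ω → Subgroup G) (P : Set Ω) : Prop := NoFl A P ∧ ¬ TH A P ∧ GLn A P

/-- the context -/
structure Cx (p : ℕ) (A : Ω → Subgroup G) : Prop where
  p2 : p ≠ 2
  ep : Eps A
  sk : SK A
  ls : LS A
  fpf : Fpf A
  an : ∀ x y, x ≠ y → Ani A x y ∧ Sq A x y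
  ev : ∀ x y, x ≠ y → Even (Ln A x y).ncard
  p3 : p = 3
  ga : ∀ Ψ, Sub A Ψ → Good A Ψ → ∀ d ∈ Ψ, GA A Ψ d
  gb : ∀ Ψ, Sub A Ψ → Good A Ψ → Ψ.Nonempty → GB A Ψ

/-- a minimal bad subspace -/
def MB (A : Ω → Subgroup G) (P : Set Ω) : Prop :=
  Sub A P ∧ ¬ Good A P ∧ ∀ Φ, Sub A Φ → Φ ⊆ P → Φ ≠ P → Good A Φ ∨ Ut A Φ
/-- a maximal good subspace -/
def Mx (A : Ω → Subgroup G) (P Ψ : Set Ω) : Prop :=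
  Sub A Ψ ∧ Ψ ⊆ P ∧ Ψ ≠ P ∧ Good A Ψ ∧ ∀ Φ, Sub A Φ → Good A Φ → Ψ ⊆ Φ → Φ ⊆ P → Φ = Ψ
/-- `S` is normalised by `A d` -/
def Nz (A : Ω → Subgroup G) (d : Ω) (S : Subgroup G) : Prop := ∀ a ∈ A d, ∀ s ∈ S, a * s * a⁻¹ ∈ S
/-- a normal `2`-subgroup of `Ms A P` -/
def N2 (A : Ω → Subgroup G) (P : Set Ω) (N : Subgroup G) : Prop :=
  IsPGroup 2 N ∧ N ≤ Ms A P ∧ ∀ m ∈ Ms A P, ∀ y ∈ N, m * y * m⁻¹ ∈ N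
/-- normal `2`-subgroups are central -/
def O2C (A : Ω → Subgroup G) (P : Set Ω) : Prop := ∀ N, N2 A P N → N ≤ Cs A P
/-- the points of `S A_d` -/
def Ov (A : Ω → Subgroup G) (S : Subgroup G) (d : Ω) : Set Ω := {w | A w ≤ S ⊔ A d}
/-- the plane on three points -/
def Pl (A : Ω → Subgroup G) (y b c : Ω) : Set Ω := {w | A w ≤ A y ⊔ A b ⊔ A c}

def AB (A : Ω → Subgroup G) : Prop := ∀ d (E : Subgroup G), IsPGroup 2 E →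
  (∀ u ∈ E, ∀ v ∈ E, u * v = v * u) → Nz A d E → ∀ u ∈ E, u ∈ centralizer (A d : Set G)
def CL2 (A : Ω → Subgroup G) : Prop := ∀ (Φ : Set Ω) (T : Subgroup G), IsPGroup 2 T → T ≤ Ms A Φ →
  (∀ w ∈ Φ, Nz A w T) →
  (∀ t ∈ T, (∀ s ∈ T, t * s = s * t) → t ∈ Cs A Φ) ∧ ∀ s ∈ T, ∀ t ∈ T, ⁅s, t⁆ ∈ Cs A Φ
def NIL (A : Ω → Subgroup G) : Prop := ∀ d (S : Subgroup G), IsPGroup 2 S → Nz A d S →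
  Sub A (Ov A S d) ∧ Good A (Ov A S d) ∧ d ∈ Ov A S d ∧
    (∀ s ∈ S, ∀ w, s • w ∈ Ov A S d ↔ w ∈ Ov A S d) ∧ Ts A (Ov A S d) ≤ S

/-- structure of a normal `2`-subgroup -/
structure NS (A : Ω → Subgroup G) (P : Set Ω) (N : Subgroup G) : Prop where
  dec : ∀ x ∈ P, ∀ n ∈ N, ∃ m ∈ ⁅N, A x⁆, ∃ c ∈ N, c ∈ centralizer (A x : Set G) ∧ n = m * c
  le : ∀ x ∈ P, ⁅N, A x⁆ ≤ N
  comm : ∀ x ∈ P, ∀ m ∈ ⁅N, A x⁆, ∀ c ∈ N, c ∈ centralizer (A x : Set G) → m * c = c * m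
  sq : ∀ x ∈ P, ∀ m ∈ ⁅N, A x⁆, m * m ∈ Cs A P
  cj : ∀ g ∈ Ms A P, ∀ x ∈ P, ∀ m ∈ ⁅N, A x⁆, g * m * g⁻¹ ∈ ⁅N, A (g • x)⁆
  sub : ∀ x ∈ P, ∀ y ∈ P, x ≠ y → ∃ Ψ, Sub A Ψ ∧ Good A Ψ ∧ x ∈ Ψ ∧ y ∈ Ψ ∧
    (∀ n ∈ N, ∀ w, n • w ∈ Ψ ↔ w ∈ Ψ) ∧ ∀ w ∈ Ψ, ⁅N, A w⁆ ≤ Ts A Ψ

/-- a system of good blocks, fixed by the groups of the blocks -/
structure Blk (A : Ω → Subgroup G) (P : Set Ω) (rel : Ω → Ω → Prop) : Prop where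
  refl : ∀ u ∈ P, rel u u
  symm : ∀ u ∈ P, ∀ v ∈ P, rel u v → rel v u
  trans : ∀ u ∈ P, ∀ v ∈ P, ∀ w ∈ P, rel u v → rel v w → rel u w
  inv : ∀ g ∈ Ms A P, ∀ u ∈ P, ∀ v ∈ P, rel u v → rel (g • u) (g • v)
  sub : ∀ u ∈ P, Sub A {v | v ∈ P ∧ rel u v}
  good : ∀ u ∈ P, Good A {v | v ∈ P ∧ rel u v}
  fix : ∀ u ∈ P, ∀ v ∈ P, u ≠ v → rel u v → ∀ r ∈ Rl A u v, ∀ w ∈ P, rel w (r • w)
def BLK (A : Ω → Subgroup G) (P : Set Ω) : Prop := ∀ rel, Blk A P rel →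
  ∃ N, N2 A P N ∧ ∀ u ∈ P, ∀ v ∈ P, u ≠ v → rel u v → Rl A u v ≤ N

/-- facts on maximal proper subspaces of a minimal bad subspace -/
structure MK (A : Ω → Subgroup G) (P : Set Ω) : Prop where
  ex : ∀ Φ, Sub A Φ → Φ ⊆ P → Good A Φ → ∃ Ψ, Mx A P Ψ ∧ Φ ⊆ Ψ
  invol : ∀ Ψ, Sub A Ψ → Good A Ψ → ∀ t ∈ Ts A Ψ, t * t = 1 → t ∈ Cs A Ψ
  mono : ∀ Φ Ψ : Set Ω, Φ ⊆ Ψ → Ms A Φ ≤ Ms A Ψ ∧ Ts A Φ ≤ Ts A Ψ ∧ Cs A Ψ ≤ Cs A Φ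
  tle : ∀ Ψ : Set Ω, Ts A Ψ ≤ Ms A Ψ
  fixiff : ∀ Ψ, Mx A P Ψ → ∀ z ∈ Ts A Ψ ⊓ Cs A Ψ, z ∉ Cs A P → ∀ w ∈ P, (z • w = w ↔ w ∈ Ψ)
  cap : ∀ Ψ₁ Ψ₂, Mx A P Ψ₁ → Mx A P Ψ₂ → Ψ₁ ≠ Ψ₂ → ∀ z ∈ Ts A Ψ₁ ⊓ Cs A Ψ₁, z ∈ Cs A Ψ₂ → z ∈ Cs A P
  cj : ∀ g ∈ Ms A P, ∀ Ψ, Mx A P Ψ → ∀ z ∈ Ts A Ψ ⊓ Cs A Ψ, z ∉ Cs A P → ∃ Ψ', Mx A P Ψ' ∧
    g * z * g⁻¹ ∈ Ts A Ψ' ⊓ Cs A Ψ' ∧ g * z * g⁻¹ ∉ Cs A P
  two : ∃ x ∈ P, ∃ y ∈ P, x ≠ y ∧ ∃ z ∈ Zl A x y, z ∉ Cs A P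

def LY (A : Ω → Subgroup G) (P : Set Ω) : Prop := ∀ Ψ₁ Ψ₂, Mx A P Ψ₁ → Mx A P Ψ₂ → Ψ₁ ≠ Ψ₂ →
  ∀ d ∈ Ψ₁, d ∈ Ψ₂ → ∀ z ∈ Ts A Ψ₁ ⊓ Cs A Ψ₁, z ∉ Cs A P → ∀ e ∈ Ts A Ψ₂ ⊓ Cs A Ψ₂, e ∉ Cs A P →
  ⁅z, e⁆ ∈ Cs A P → ∃ Y, N2 A P Y ∧ z ∈ Y
def YP (A : Ω → Subgroup G) (P : Set Ω) : Prop := ∀ Ψ, Mx A P Ψ → ∀ z ∈ Ts A Ψ ⊓ Cs A Ψ, z ∉ Cs A P →
  ∀ Φ, Sub A Φ → Good A Φ → Φ ⊆ P → (∀ w, z • w ∈ Φ ↔ w ∈ Φ) → ∀ y ∈ Φ, y ∈ Ψ → Φ ⊆ Ψ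
/-- a flat pair -/
def Ft (A : Ω → Subgroup G) (P : Set Ω) (y b : Ω) (a : G) : Prop :=
  ∃ c ∈ A b, a * c⁻¹ ∈ Rl A y b ∧ (a * c⁻¹) * (a * c⁻¹) ∈ Cs A P
def TF (A : Ω → Subgroup G) (P : Set Ω) : Prop := ∀ y ∈ P, ∀ b ∈ P, ∀ c ∈ P, y ≠ b → y ≠ c →
  ∀ a ∈ A y, a ≠ 1 → Ft A P y b a → Ft A P y c a →
  ∃ S : Subgroup G, IsPGroup 2 S ∧ Nz A y S ∧ S ≤ Ms A P ∧ S ⊔ A y = A y ⊔ A b ⊔ A c
/-- flat pairs are fixed by the same involutions -/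
def FE (A : Ω → Subgroup G) (P : Set Ω) : Prop := ∀ y ∈ P, ∀ b ∈ P, y ≠ b → ∀ a ∈ A y, a ≠ 1 →
  Ft A P y b a → ∀ Ψ, Mx A P Ψ → ∀ z ∈ Ts A Ψ ⊓ Cs A Ψ, z ∉ Cs A P → (y ∈ Ψ ↔ b ∈ Ψ)
end Defs

def AbStmt : Prop := All fun _ _ _ _ p A => Cx p A → AB A
def Cl2Stmt : Prop := All fun _ _ _ _ p A => Cx p A → AB A → CL2 A
def NilStmt : Prop := All fun _ _ _ _ p A => Cx p A → CL2 A → NIL A
def MkStmt : Prop := All fun _ _ _ _ p A => Cx p A → ∀ P, MB A P → MK A P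
def O2aStmt : Prop := All fun _ _ _ _ p A => Cx p A → CL2 A → NIL A → ∀ P, MB A P → MK A P →
  ∀ N, N2 A P N → NS A P N
def O2bStmt : Prop := All fun G _ _ _ p A => Cx p A → AB A → ∀ P, MB A P → MK A P →
  ∀ N, N2 A P N → NS A P N → ∀ x ∈ P, ∀ y ∈ P, x ≠ y → ∀ m ∈ ⁅N, A x⁆, ∀ r ∈ Rl A x y,
    (⁅r, m⁆ : G) ∈ Cs A P
def BlkStmt : Prop := All fun _ _ _ _ p A => Cx p A → ∀ P, MB A P → MK A P → BLK A P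
def O2cStmt : Prop := All fun G _ _ _ p A => Cx p A → AB A → ∀ P, MB A P → MK A P → BLK A P →
  (∀ N, N2 A P N → NS A P N ∧ ∀ x ∈ P, ∀ y ∈ P, x ≠ y → ∀ m ∈ ⁅N, A x⁆, ∀ r ∈ Rl A x y,
    (⁅r, m⁆ : G) ∈ Cs A P) → O2C A P
def LyStmt : Prop := All fun _ _ _ _ p A => Cx p A → ∀ P, MB A P → MK A P → LY A P
def YpStmt : Prop := All fun _ _ _ _ p A => Cx p A → ∀ P, MB A P → MK A P → O2C A P → LY A P → YP A P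
def TfStmt : Prop := All fun _ _ _ _ p A => Cx p A → ∀ P, MB A P → MK A P → TF A P
def FeStmt : Prop := All fun _ _ _ _ p A => Cx p A → NIL A → ∀ P, MB A P → MK A P → YP A P → TF A P →
  FE A P
def NfStmt : Prop := All fun _ _ _ _ p A => Cx p A → ∀ P, MB A P → MK A P → O2C A P → BLK A P →
  FE A P → NoFl A P
/-- the commutator computation, with a square -/
def CoqStmt : Prop := All fun G _ _ _ _ A => SK A → LS A → (∀ x y, x ≠ y → Ani A x y) →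
  ∀ Ψ, Sub A Ψ → ∀ d ∈ Ψ, GA A Ψ d → GB A Ψ → ∀ u : G, u ^ 4 = 1 → (∀ w, u • w ∈ Ψ ↔ w ∈ Ψ) →
  (∀ a ∈ A d, ⁅u, a⁆ ∈ Ts A Ψ) → (u * u) • d ≠ d →
  ∃ z0 ∈ Ts A Ψ ⊓ Cs A Ψ, z0 * (u * u) = (u * u) * z0 ∧ ∃ y ∈ Ψ, y ≠ d ∧ ∃ v ∈ Rl A d y,
    v ∉ Zl A d y ∧ (⁅u, z0⁆ : G) = v * v
def RelStmt : Prop := NofStmt → TraStmt → CoqStmt →
  All fun _ _ _ _ p A => Cx p A → ∀ P, MB A P → MK A P → YP A P → NoFl A P → ¬ TH A P ∧ GLn A P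

theorem t3 (nof : NofStmt) (tra : TraStmt)
    (ab : AbStmt) (cl2 : Cl2Stmt) (nil : NilStmt) (mk : MkStmt) (o2a : O2aStmt) (o2b : O2bStmt)
    (blk : BlkStmt) (o2c : O2cStmt) (ly : LyStmt) (yp : YpStmt) (tf : TfStmt) (fe : FeStmt)
    (nf : NfStmt) (coq : CoqStmt) (rel : RelStmt) :
    All fun _ _ _ _ p A => Cx p A → ∀ P, Sub A P → Good A P ∨ Ut A P := by
  intro G _ _ Ω _ _ p A h c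
  have a := ab G Ω p A h c
  have c2 := cl2 G Ω p A h c a
  have n := nil G Ω p A h c c2
  have no : ∀ P, MB A P → Ut A P := fun P m => by
    have m1 := mk G Ω p A h c P m
    have b := blk G Ω p A h c P m m1
    have o := o2c G Ω p A h c a P m m1 b fun N hN =>
      ⟨o2a G Ω p A h c c2 n P m m1 N hN,
        o2b G Ω p A h c a P m m1 N hN (o2a G Ω p A h c c2 n P m m1 N hN)⟩
    have y := yp G Ω p A h c P m m1 o (ly G Ω p A h c P m m1)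
    have f := nf G Ω p A h c P m m1 o b (fe G Ω p A h c n P m m1 y (tf G Ω p A h c P m m1))
    exact ⟨f, rel nof tra coq G Ω p A h c P m m1 y f⟩
  have all : ∀ (n : ℕ) (P : Set Ω), P.ncard < n → Sub A P → Good A P ∨ Ut A P := by
    intro n
    induction n with
    | zero => intro P hP; exact absurd hP (Nat.not_lt_zero _)
    | succ n ih =>
      intro P hP s
      by_cases bad : Good A P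
      · exact .inl bad
      exact .inr (no P ⟨s, bad, fun Φ sΦ le ne => ih Φ (lt_of_lt_of_le
        (Set.ncard_lt_ncard (Set.ssubset_iff_subset_ne.2 ⟨le, ne⟩) (Set.toFinite P))
        (Nat.lt_succ_iff.1 hP)) sΦ⟩)
  exact fun P s => all _ _ (Nat.lt_succ_self _) s

end Cfsg.Agent.H22.F3
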