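import Mathlib
import Cfsg.Agent.H2.FCDefs
import Cfsg.Agent.H71.NGCore
import Cfsg.Agent.H3.NGCent
import Cfsg.Agent.H89.SylowSmall
import Cfsg.Agent.H67.Hall

/-! Project FC: solutions of `x ^ n = 1` in a group with the Tits amalgam. -/

set_option autoImplicit false

namespace Cfsg.Agent.H22.FcTits

open Cfsg Subgroup Cfsg.Agent.H71.NG Cfsg.Agent.H91.TE Cfsg.Agent.H2

variable {G : Type*} [Group G] [Finite G] {W : Subgroup G} {z : G}

theorem const_of : ∀ b : ZMod 5, b ≠ 0 → ∀ (d : ZMod 2) (c : Vc),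
    (∀ j, c (j - b) + d = c j) → c = 0 ∨ c = 1 := by decide

theorem sum_five : ∀ b : ZMod 5, b ≠ 0 → ∀ μ : Vc, dot μ 1 = 0 → ∀ i,
    μ (i + b + b + b + b) + μ (i + b + b + b) + μ (i + b + b) + μ (i + b) + μ i = 0 := by decide

theorem pow_five (hy : Hyp G) (h : Fl W W z) (F : Fr W W z) {g : G} (hg : g * z = z * g)
    (hm : F.m g = 1) (hb : F.b g ≠ 0) : g ^ 5 = 1 ∨ g ^ 5 = z := by
  have c : ∀ n : ℕ, g ^ n * z = z * g ^ n := fun n => (Commute.pow_left hg n).eq
  have m : ∀ n : ℕ, F.m (g ^ n) = 1 := fun n => by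
    induction n with
    | zero => rw [pow_zero, F.m_one]
    | succ n ih => rw [pow_succ, F.m_mul (c n) hg, ih, hm, mul_one]
  have b : ∀ n : ℕ, F.b (g ^ n) = n * F.b g := fun n => by
    induction n with
    | zero => rw [pow_zero, F.b_one]; simp
    | succ n ih => rw [pow_succ, F.b_mul (c n) hg, ih, m]; push_cast; ring
  have μ : ∀ (n : ℕ) i, F.μ (g ^ (n + 1)) i = F.μ (g ^ n) (i + F.b g) + F.μ g i := fun n i => by
    rw [pow_succ, F.μ_mul (c n) hg, hm, one_mul]
  have h5 : g ^ 5 ∈ Vp W z := h.DV hy ((F.mem_D).2 ⟨c 5, m 5, by rw [b]; exact zero_mul _, by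
    funext i
    rw [μ 4, μ 3, μ 2, μ 1, pow_one]
    exact sum_five _ hb _ (F.μ_even g hg) i⟩)
  obtain ⟨e, he⟩ := (F.mem_V _).1 h5
  have h6 := (F.comm_iff hg (c := e)).1 (by rw [he]; exact ((Commute.refl g).pow_right 5).eq)
  rcases const_of _ hb (dot (F.μ g) e) e (fun j => by
    have := congrFun h6 j
    rwa [act, hm, one_pow, one_mul] at this) with rfl | rfl
  · exact .inl (by rw [← he, F.ε_zero])
  · exact .inr (by rw [← he, F.ε_one])

theorem roots_five (hy : Hyp G) (h : Fl W W z) (o : Oct W z) :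
    1024 ≤ Nat.card {x : G // x ^ 5 = z} := by
  classical
  obtain ⟨F⟩ := h.exists_fr
  have z2 := h.z_sq
  have z5 : z ^ 5 = z := by
    rw [show 5 = 2 * 2 + 1 from rfl, pow_succ, pow_mul, sq z, z2, one_pow, one_mul]
  have q : ∀ a : {k : ZMod 5 // k ≠ 0} × Qp z, F.fp a.1 * a.2 * z = z * (F.fp a.1 * a.2) ∧
      F.m (F.fp a.1 * a.2) = 1 ∧ F.b (F.fp a.1 * a.2) = a.1 := fun a => by
    obtain ⟨h1, h2, h3⟩ := (F.mem_Q h).1 a.2.2
    refine ⟨Commute.mul_left (F.fp_C _) h1, ?_, ?_⟩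
    · rw [F.m_mul (F.fp_C _) h1, F.fp_m, h2, mul_one]
    · rw [F.b_mul (F.fp_C _) h1, F.fp_b, h3, mul_zero, zero_add]
  have inj : ∀ a a' : {k : ZMod 5 // k ≠ 0} × Qp z, F.fp a.1 * a.2 = F.fp a'.1 * a'.2 → a = a' :=
    fun a a' e => by
      have e1 : a.1 = a'.1 := Subtype.ext (by rw [← (q a).2.2, e, (q a').2.2])
      rw [e1] at e
      exact Prod.ext e1 (Subtype.ext (mul_left_cancel e))
  let φ : {k : ZMod 5 // k ≠ 0} × Qp z → {x : G // x ^ 5 = z} × Bool := fun a =>
    if e : (F.fp a.1 * a.2) ^ 5 = z then (⟨_, e⟩, true) else (⟨F.fp a.1 * a.2 * z, by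
      have h1 := (pow_five hy h F (q a).1 (q a).2.1 (by rw [(q a).2.2]; exact a.1.2)).resolve_right e
      rw [Commute.mul_pow (q a).1, h1, one_mul, z5]⟩, false)
  have hφ : Function.Injective φ := fun a a' e => by
    simp only [φ] at e
    split_ifs at e
    · exact inj _ _ (congrArg (fun t => t.1.1) e)
    · exact absurd (congrArg Prod.snd e) (by simp)
    · exact absurd (congrArg Prod.snd e) (by simp)
    · exact inj _ _ (mul_right_cancel (congrArg (fun t => t.1.1) e))
  have h1 := Nat.card_le_card_of_injective φ hφ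
  have h2 : Nat.card {k : ZMod 5 // k ≠ 0} = 4 := by rw [Nat.card_eq_fintype_card]; rfl
  rw [Nat.card_prod, Nat.card_prod, h2, o.cardQ, Nat.card_eq_fintype_card (α := Bool),
    Fintype.card_bool] at h1
  omega

theorem f_five (hy : Hyp G) (h : Fl W W z) (o : Oct W z) : 1024 ≤ FC.f G 5 := by
  have z2 := h.z_sq
  have z5 : z ^ 5 = z := by
    rw [show 5 = 2 * 2 + 1 from rfl, pow_succ, pow_mul, sq z, z2, one_pow, one_mul]
  refine (roots_five hy h o).trans (FC.le_f_of_inj (fun x : {x : G // x ^ 5 = z} => x.1 * z)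
    (fun a b e => Subtype.ext (mul_right_cancel e)) fun x => ?_)
  have c : Commute x.1 z := by
    have := (Commute.refl x.1).pow_right 5
    rwa [x.2] at this
  rw [c.mul_pow, x.2, z5, z2]

theorem f_double (o : Oct W z) {k r : ℕ} (hr : r ≤ Nat.card {x : G // x ^ k = z}) :
    1755 * r ≤ FC.f G (k * 2) := by
  have h1 := FC.conj_count z k
  rw [o.cardC, H23.TE.oct_card o] at h1
  have h2 : Nat.card {x : G // IsConj z (x ^ k)} ≤ FC.f G (k * 2) :=
    FC.le_f_of_inj (fun x : {x : G // IsConj z (x ^ k)} => x.1) Subtype.val_injective fun x => by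
      rw [pow_mul, sq, H23.TE.pt_sq o x.2]
  omega

theorem roots_two (h : Fl W W z) : 32 ≤ Nat.card {x : G // x ^ 2 = z} := by
  obtain ⟨F⟩ := h.exists_fr
  obtain ⟨w, hw, w1, wz⟩ := h.exists_w
  obtain ⟨a, aV, aQ, aV'⟩ := (h.swap hw w1).exists_in h.zW h.z1 wz.symm
  have hμ := F.μ_s4 h hw w1 wz aV aQ aV'
  have a2 : a * a = 1 := (h.swap hw w1).V_sq a aV
  let c : ZMod 2 × ZMod 2 × ZMod 2 × ZMod 2 → Vc := fun t =>
    mk5 t.1 t.2.1 t.2.2.1 t.2.2.2 (1 + t.2.1 + t.2.2.1 + t.2.2.2)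
  have c1 : ∀ t, dot (ee 0 + 1) (c t) = 1 := by decide
  have c2 : Function.Injective c := by
    rintro ⟨a, b, d, e⟩ ⟨a', b', d', e'⟩ k
    exact Prod.ext (congrFun k 0) (Prod.ext (congrFun k 1) (Prod.ext (congrFun k 2) (congrFun k 3)))
  have sq1 : ∀ t, (a * F.ε (c t)) ^ 2 = z := fun t => by
    have h1 := F.conj_Q h aQ (c t)
    rw [hμ, c1, one_smul, F.ε_add_one, inv_eq_of_mul_eq_one_right a2] at h1
    rw [sq, ← mul_assoc, h1, mul_assoc, ← F.ε_C, ← mul_assoc, F.ε_sq, one_mul]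
  have εQ : ∀ e, F.ε e ∈ Qp z := fun e => h.V_le (F.ε_mem e)
  have μ1 : ∀ e, F.μ (a * F.ε e) = ee 0 + 1 := fun e => by
    rw [F.μ_mul_Q h (comm_of_mem_Qp aQ) (εQ e), hμ, ((F.mem_D).1 (F.ε_D e)).2.2.2, add_zero]
  have ne : ∀ e e', a * F.ε e ≠ F.f * (a * F.ε e') * F.f⁻¹ := fun e e' k => by
    have h1 := F.μ_conj_Q h F.f_C (mul_mem aQ (εQ e'))
    rw [← k, μ1, μ1, F.f_m, F.f_b] at h1
    exact absurd h1 (by decide)
  let φ : Bool × (ZMod 2 × ZMod 2 × ZMod 2 × ZMod 2) → {x : G // x ^ 2 = z} := fun t =>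
    match t with
    | (true, t) => ⟨_, sq1 t⟩
    | (false, t) => ⟨F.f * (a * F.ε (c t)) * F.f⁻¹, by
        rw [conj_pow, sq1, F.f_C, mul_inv_cancel_right]⟩
  have hφ : Function.Injective φ := by
    rintro ⟨_ | _, t⟩ ⟨_ | _, t'⟩ e
    · have e1 : F.f * (a * F.ε (c t)) * F.f⁻¹ = F.f * (a * F.ε (c t')) * F.f⁻¹ :=
        congrArg Subtype.val e
      rw [c2 (F.ε_inj (mul_left_cancel (mul_left_cancel (mul_right_cancel e1))))]
    · exact absurd (congrArg Subtype.val e).symm (ne _ _)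
    · exact absurd (congrArg Subtype.val e) (ne _ _)
    · have e1 : a * F.ε (c t) = a * F.ε (c t') := congrArg Subtype.val e
      rw [c2 (F.ε_inj (mul_left_cancel e1))]
  have h1 := Nat.card_le_card_of_injective φ hφ
  simpa using h1

theorem not_dvd_cent (o : Oct W z) {t : G} (t1 : t ≠ 1) (t2 : t * t = 1) :
    ¬ 13 ∣ Nat.card (centralizer {t} : Subgroup G) := by
  by_cases hc : IsConj z t
  · have h1 := H9.card_isConj_mul_card_centralizer z
    have h2 := H9.card_isConj_mul_card_centralizer t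
    have h3 : Nat.card {y : G // IsConj t y} = Nat.card {y : G // IsConj z y} :=
      Nat.card_congr (Equiv.subtypeEquivRight fun y => ⟨hc.trans, hc.symm.trans⟩)
    rw [o.cardC, H23.TE.oct_card o] at h1
    rw [h3, H23.TE.oct_card o, show Nat.card {y : G // IsConj z y} = 1755 by omega] at h2
    omega
  obtain ⟨x, hx, e⟩ := o.syl t t2
  obtain ⟨u, hu, -, tu⟩ := o.inv x t hx e t2
  obtain ⟨l, hl, k⟩ := o.tline u t hu tu t1 hc
  have h1 : centralizer {t} ≤ normalizer (l : Set G) := fun g hg =>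
    H23.TE.mem_norm_of fun a ha => by
      by_cases a1 : a = 1
      · rw [a1, mul_one, mul_inv_cancel]; exact one_mem _
      have pa := H23.TE.ln_pt o hl ha a1
      have h2 := conj_mem_Vp g ((k a pa).2 ha)
      rw [mem_c.1 hg, mul_inv_cancel_right] at h2
      exact (k _ (H23.TE.pt_conj pa g)).1 h2
  intro h2
  have h3 := h2.trans (card_dvd_of_le h1)
  rw [H23.TE.card_norm o hl] at h3
  omega

theorem dvd_norm (hN : IsNGroup G) (hG : Nat.card G = 17971200) [Fact (Nat.Prime 13)]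
    (P : Sylow 13 G) (hP : Nat.card P = 13)
    (h5 : 5 ∣ Nat.card (centralizer ((P : Subgroup G) : Set G))) :
    25 ∣ Nat.card (normalizer ((P : Subgroup G) : Set G)) := by
  have : Fact (Nat.Prime 5) := ⟨by norm_num⟩
  obtain ⟨⟨u, hu⟩, ou⟩ := exists_prime_orderOf_dvd_card' 5 h5
  rw [← orderOf_coe] at ou
  change orderOf u = 5 at ou
  have u1 : u ≠ 1 := fun e => by rw [e, orderOf_one] at ou; omega
  have PK : (P : Subgroup G) ≤ centralizer {u} := fun x hx => mem_c.2 (hu x hx)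
  have h25 : 25 ∣ Nat.card (centralizer {u} : Subgroup G) := by
    obtain ⟨R, hR⟩ := (IsPGroup.of_card (n := 1) (p := 5)
      (by rw [Nat.card_zpowers, ou, pow_one]) : IsPGroup 5 (zpowers u)).exists_le_sylow
    have cR : Nat.card R = 5 ^ 2 := by
      rw [R.card_eq_multiplicity, hG, show 17971200 = 5 ^ 2 * 718848 from rfl,
        Nat.factorization_mul (by norm_num) (by norm_num), Finsupp.add_apply,
        Nat.factorization_eq_zero_of_not_dvd (n := 718848) (by norm_num),
        Nat.Prime.factorization_pow (by norm_num)]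
      simp
    have h1 : (R : Subgroup G) ≤ centralizer {u} := fun x hx => mem_c.2 (congrArg Subtype.val
      ((IsPGroup.isMulCommutative_of_card_eq_prime_sq cR).1.1 ⟨x, hx⟩ ⟨u, hR (mem_zpowers u)⟩))
    exact (show 25 = Nat.card R from cR.symm) ▸ card_dvd_of_le h1
  obtain ⟨H, ⟨HK, h1, h2⟩, PH⟩ := H67.exists_hall_ge (π := {5, 13})
    (H3.NGA.cent_solvable_of_ngroup hN u1) PK fun p hp e => by
      rw [hP] at e
      exact .inr ((Nat.prime_dvd_prime_iff_eq hp (by norm_num)).1 e)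
  have h3 : 25 ∣ Nat.card H := by
    rw [← H3.card_mul_relIndex HK] at h25
    exact (Nat.Coprime.pow_left 2 ((Nat.Prime.coprime_iff_not_dvd (by norm_num)).2
      (h2 5 (by norm_num) (.inl rfl)))).dvd_of_dvd_mul_right h25
  have h4 : Nat.card H ∣ 325 := by
    have d := H.card_subgroup_dvd_card
    rw [hG, show 17971200 = 325 * (2 ^ 11 * 3 ^ 3) from rfl] at d
    refine Nat.Coprime.dvd_of_dvd_mul_right (Nat.Coprime.mul_right
      (Nat.Coprime.pow_right _ (Nat.Coprime.symm ?_))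
      (Nat.Coprime.pow_right _ (Nat.Coprime.symm ?_))) d
    · exact (Nat.Prime.coprime_iff_not_dvd Nat.prime_two).2 fun e => by
        simpa using h1 2 Nat.prime_two e
    · exact (Nat.Prime.coprime_iff_not_dvd Nat.prime_three).2 fun e => by
        simpa using h1 3 Nat.prime_three e
  have h6 := card_sylow_modEq_one 13 H
  have h7 := (P.subtype PH).card_dvd_index
  have h8 := ((P.subtype PH : Sylow 13 H) : Subgroup H).index_mul_card
  rw [Sylow.coe_subtype, Nat.card_congr (subgroupOfEquivOfLe PH).toEquiv, hP] at h8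
  rw [Sylow.coe_subtype] at h7
  have h9 : Nat.card (Sylow 13 H) ∣ 25 := h7.trans
    (Nat.dvd_of_mul_dvd_mul_right (by norm_num : 0 < 13) (h8 ▸ h4))
  have h10 : Nat.card (Sylow 13 H) = 1 := by
    have := Nat.le_of_dvd (by norm_num) h9
    unfold Nat.ModEq at h6
    generalize Nat.card (Sylow 13 H) = s at *
    interval_cases s <;> omega
  rw [(P.subtype PH).card_eq_index_normalizer, index_eq_one] at h10
  have h11 : ((P : Subgroup G).subgroupOf H).Normal := normalizer_eq_top_iff.1 h10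
  exact h3.trans (card_dvd_of_le ((normal_subgroupOf_iff_le_normalizer PH).1 h11))

theorem f_thirteen (hy : Hyp G) (hN : IsNGroup G) (o : Oct W z) (hG : ¬ IsMulCommutative G) :
    FC.f G 13 = 2764801 := by
  have := hy.simple
  have : Fact (Nat.Prime 13) := ⟨by norm_num⟩
  have hc := H23.TE.oct_card o
  obtain ⟨P⟩ : Nonempty (Sylow 13 G) := inferInstance
  have hP : Nat.card P = 13 := by
    rw [P.card_eq_multiplicity, hc, show 17971200 = 13 ^ 1 * 1382400 from rfl,
      Nat.factorization_mul (by norm_num) (by norm_num), Finsupp.add_apply,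
      Nat.factorization_eq_zero_of_not_dvd (n := 1382400) (by norm_num),
      Nat.Prime.factorization_pow (by norm_num)]
    simp
  obtain ⟨e, e1, e2, e3⟩ := H89.exists_automizer hG P hP
  change Nat.card (normalizer ((P : Subgroup G) : Set G)) =
    Nat.card (centralizer ((P : Subgroup G) : Set G)) * e at e3
  have odd : ¬ 2 ∣ Nat.card (centralizer ((P : Subgroup G) : Set G)) := fun h2 => by
    have : Fact (Nat.Prime 2) := ⟨Nat.prime_two⟩
    obtain ⟨⟨t, ht⟩, ot⟩ := exists_prime_orderOf_dvd_card' 2 h2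
    rw [← orderOf_coe] at ot
    change orderOf t = 2 at ot
    refine not_dvd_cent o (t := t) (fun e => by rw [e, orderOf_one] at ot; omega)
      (by rw [← sq, ← ot, pow_orderOf_eq_one]) ?_
    exact hP ▸ card_dvd_of_le fun x hx => mem_c.2 (ht x hx)
  have h5 := dvd_norm hN hc P hP
  have h1 := card_sylow_modEq_one 13 G
  have h2 := (normalizer ((P : Subgroup G) : Set G)).index_mul_card
  have h0 : Nat.card (Sylow 13 G) = (normalizer ((P : Subgroup G) : Set G)).index :=
    P.card_eq_index_normalizer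
  rw [← h0, hc, e3] at h2
  clear h0
  rw [e3] at h5
  have h3 : Nat.card (centralizer ((P : Subgroup G) : Set G)) ∣ 8775 := by
    have d : Nat.card (centralizer ((P : Subgroup G) : Set G)) ∣ 8775 * 2 ^ 11 :=
      ⟨Nat.card (Sylow 13 G) * e, by rw [show 8775 * 2 ^ 11 = 17971200 from rfl, ← h2]; ring⟩
    exact (Nat.Coprime.pow_right 11
      ((Nat.Prime.coprime_iff_not_dvd Nat.prime_two).2 odd).symm).dvd_of_dvd_mul_right d
  rw [FC.prime_count P hP]
  unfold Nat.ModEq at h1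
  generalize Nat.card (centralizer ((P : Subgroup G) : Set G)) = c at *
  generalize Nat.card (Sylow 13 G) = s at *
  have h4 : c ∈ Nat.divisors 8775 := Nat.mem_divisors.2 ⟨h3, by norm_num⟩
  have h6 : e ∈ Nat.divisors 12 := Nat.mem_divisors.2 ⟨e1, by norm_num⟩
  rw [show Nat.divisors 8775 = {1, 3, 5, 9, 13, 15, 25, 27, 39, 45, 65, 75, 117, 135, 195, 225,
    325, 351, 585, 675, 975, 1755, 2925, 8775} by decide +kernel] at h4
  rw [show Nat.divisors 12 = {1, 2, 3, 4, 6, 12} by decide] at h6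
  simp only [Finset.mem_insert, Finset.mem_singleton] at h4 h6
  rcases h6 with rfl | rfl | rfl | rfl | rfl | rfl <;>
    rcases h4 with rfl | rfl | rfl | rfl | rfl | rfl | rfl | rfl | rfl | rfl | rfl | rfl | rfl |
      rfl | rfl | rfl | rfl | rfl | rfl | rfl | rfl | rfl | rfl | rfl <;> omega

theorem fr_tits {G : Type*} [Group G] [Finite G] (h : Hyp G) (hN : IsNGroup G) : FC.Fr G := by
  obtain ⟨S, W, z, s⟩ := core h
  have fl := fl_of_tits s
  have o := oct_of_tits h s
  have hc := tits_card h s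
  have := h.simple
  have hG : ¬ IsMulCommutative G := fun e => by
    have h1 : (centralizer {z} : Subgroup G) = ⊤ := eq_top_iff.2 fun g _ => mem_c.2 (e.1.1 g z)
    have h2 := o.cardC
    rw [h1, card_top, hc] at h2
    omega
  have f13 := f_thirteen h hN o hG
  have f5 := f_five h fl o
  have f10 : 1755 * 1024 ≤ FC.f G 10 := f_double o (roots_five h fl o)
  have f4 : 1755 * 32 ≤ FC.f G 4 := f_double o (roots_two fl)
  have f2 : 1755 * 1 ≤ FC.f G 2 := f_double o (k := 1)
    (Nat.card_pos_iff.2 ⟨⟨⟨z, pow_one z⟩⟩, inferInstance⟩)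
  intro n hn hf
  have cop : ∀ p a k : ℕ, p.Prime → ¬ p ∣ n → n ∣ k * p ^ a → n ∣ k := fun p a k hp h1 h2 =>
    (Nat.Coprime.pow_right a (hp.coprime_iff_not_dvd.2 h1).symm).dvd_of_dvd_mul_right h2
  have mono : ∀ k, k ∣ n → FC.f G k ≤ n := fun k hk => hf ▸ FC.f_mono hk
  have p5 : Nat.Prime 5 := by norm_num
  have p13 : Nat.Prime 13 := by norm_num
  have hn' := hn
  rw [hc] at hn'
  by_cases d13 : 13 ∣ n
  · have m13 := mono 13 d13
    by_cases d2 : 2 ∣ n
    swap
    · have := Nat.le_of_dvd (by norm_num) (cop 2 11 8775 Nat.prime_two d2 hn')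
      omega
    by_cases d5 : 5 ∣ n
    swap
    · have := Nat.le_of_dvd (by norm_num) (cop 5 2 718848 p5 d5 hn')
      omega
    have h1 := FC.f2 (G := G) (u := 13) (v := 10) (by norm_num) d13 (by omega)
    exact .inr (FC.of_big hG hn hf (by omega))
  have n1 := cop 13 1 1382400 p13 d13 hn'
  by_cases d5 : 5 ∣ n
  · by_cases d2 : 2 ∣ n
    · have := mono 10 (by omega)
      have := Nat.le_of_dvd (by norm_num) n1
      omega
    · have := mono 5 d5
      have := Nat.le_of_dvd (by norm_num) (cop 2 11 675 Nat.prime_two d2 n1)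
      omega
  have n2 := cop 5 2 55296 p5 d5 n1
  by_cases d2 : 2 ∣ n
  swap
  · exact .inl (FC.hpow (p := 3) (k := 3) Nat.prime_three (by rw [hc]; norm_num)
      (by rw [hc]; norm_num) (cop 2 11 27 Nat.prime_two d2 n2) hf)
  by_cases d4 : 4 ∣ n
  · have := mono 4 d4
    have := Nat.le_of_dvd (by norm_num) n2
    omega
  obtain ⟨k, rfl⟩ := d2
  have k1 : k ∣ 27 * 2 ^ 10 := Nat.dvd_of_mul_dvd_mul_left (by norm_num : 0 < 2) n2
  have k2 : k ∣ 27 := (Nat.Coprime.pow_right 10 ((Nat.prime_two.coprime_iff_not_dvd.2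
    (by omega)).symm)).dvd_of_dvd_mul_right k1
  have := mono 2 (dvd_mul_right 2 k)
  have := Nat.le_of_dvd (by norm_num) k2
  omega

end Cfsg.Agent.H22.FcTits
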