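import Cfsg.Agent.H56.HLDefs
import Cfsg.Agent.H28.PSL2Small

/-! Project HL, piece ME: the group generated by the neighbours of a line group. -/

set_option autoImplicit false
set_option linter.unusedSectionVars false

namespace Cfsg.Agent.H22.HLMe

open Subgroup Cfsg.Agent.H83 Cfsg.Agent.H56.TT Cfsg.Agent.H56.HL Matrix Cfsg.Agent.H32
open scoped Cfsg.Agent.H63 MatrixGroups

universe u

variable {G : Type u} [Group G] {K : Type} [Field K]

theorem fe_cj {N F : Subgroup G} {q : ℕ} (h : FE N q F) {g : G} (hg : g ∈ N[N]) :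
    FE N q (cj g F) := by
  obtain ⟨K, _, _, hK, f, hf, hk⟩ := h.l2
  let e : SS N q F ≃* SS N q (cj g F) :=
    ((MulAut.conj g).subgroupMap (SS N q F)).trans (MulEquiv.subgroupCongr (cj_SS hg F))
  refine ⟨(Nat.card_congr e.toEquiv).symm.trans h.cardS, K, inferInstance, inferInstance, hK,
    f.comp e.symm.toMonoidHom, hf.comp e.symm.surjective, fun s => ?_⟩
  obtain ⟨s, rfl⟩ := e.surjective s
  rw [MonoidHom.comp_apply, MulEquiv.coe_toMonoidHom, e.symm_apply_apply, hk, mem_cj]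
  change _ ↔ g⁻¹ * (g * s * g⁻¹) * g ∈ F
  rw [show g⁻¹ * (g * s * g⁻¹) * g = s by group]

variable (K) in
/-- matrices with last row `(0, 0, 1)` -/
def HH : Subgroup SL(3, K) where
  carrier := {h | h.1 2 0 = 0 ∧ h.1 2 1 = 0 ∧ h.1 2 2 = 1}
  one_mem' := by simp
  mul_mem' := fun {a b} ha hb => by
    simp [Matrix.mul_apply, Fin.sum_univ_three, ha.1, ha.2.1, ha.2.2, hb.1, hb.2.1, hb.2.2]
  inv_mem' := fun {a} ha => by
    have h := fun j => congrFun (congrFun (sl_mul_inv a) 2) j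
    have h0 := h 0
    have h1 := h 1
    have h2 := h 2
    simp only [Matrix.mul_apply, Fin.sum_univ_three, ha.1, ha.2.1, ha.2.2, zero_mul, zero_add,
      one_mul] at h0 h1 h2
    exact ⟨h0, h1, h2⟩

/-- the upper left block -/
def blk : HH K →* SL(2, K) := MonoidHom.mk'
  (fun h => ⟨!![h.1.1 0 0, h.1.1 0 1; h.1.1 1 0, h.1.1 1 1], by
    have := h.1.2
    rw [det_fin_three, h.2.1, h.2.2.1, h.2.2.2] at this
    rw [det_fin_two_of]
    linear_combination this⟩)
  fun a b => Subtype.ext (by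
    change _ = (_ : Matrix (Fin 2) (Fin 2) K) * (_ : Matrix (Fin 2) (Fin 2) K)
    ext i j
    fin_cases i <;> fin_cases j <;>
      simp [Matrix.mul_apply, Fin.sum_univ_three, b.2.1, b.2.2.1])

theorem blk_coe (h : HH K) :
    (blk h).1 = !![h.1.1 0 0, h.1.1 0 1; h.1.1 1 0, h.1.1 1 1] := rfl

/-- the block embedding -/
def emb (A : SL(2, K)) : HH K :=
  ⟨⟨!![A.1 0 0, A.1 0 1, 0; A.1 1 0, A.1 1 1, 0; 0, 0, 1], by
    have := A.2
    rw [det_fin_two] at this
    rw [det_fin_three]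
    simpa using this⟩, rfl, rfl, rfl⟩

theorem blk_emb (A : SL(2, K)) : blk (emb A) = A := Subtype.ext (by
  ext i j
  fin_cases i <;> fin_cases j <;> rfl)

theorem emb_mul (A B : SL(2, K)) : emb (A * B) = emb A * emb B := Subtype.ext (Subtype.ext (by
  rw [coe_mul, Matrix.SpecialLinearGroup.coe_mul]
  ext i j
  fin_cases i <;> fin_cases j <;>
    simp [emb, Matrix.mul_apply, Fin.sum_univ_three, Fin.sum_univ_two]))

theorem ts_mem {v ψ : Fin 3 → K} (hv : v 2 = 0) (h : ψ ⬝ᵥ v = 0) : ts v ψ ∈ HH K := by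
  refine ⟨?_, ?_, ?_⟩ <;> rw [coe_ts h] <;> simp [vecMulVec_apply, hv]

theorem blk_eq_one {h : HH K} :
    blk h = 1 ↔ ∃ v : Fin 3 → K, v 2 = 0 ∧ h.1 = ts v (Pi.single 2 1) := by
  constructor
  · intro e
    have e1 := fun i j => congrFun (congrFun (congrArg Subtype.val e) i) j
    have e00 : h.1.1 0 0 = 1 := e1 0 0
    have e01 : h.1.1 0 1 = 0 := e1 0 1
    have e10 : h.1.1 1 0 = 0 := e1 1 0
    have e11 : h.1.1 1 1 = 1 := e1 1 1
    refine ⟨![h.1.1 0 2, h.1.1 1 2, 0], rfl, Subtype.ext ?_⟩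
    rw [coe_ts (by simp)]
    ext i j
    rw [Matrix.add_apply, vecMulVec_apply]
    fin_cases i <;> fin_cases j <;>
      simp [e00, e01, e10, e11, h.2.1, h.2.2.1, h.2.2.2]
  · rintro ⟨v, hv, e⟩
    refine Subtype.ext ?_
    rw [blk_coe, e, coe_ts (by simpa using hv)]
    ext i j
    fin_cases i <;> fin_cases j <;> simp [vecMulVec_apply]

theorem emb_tv {i j : Fin 2} (hij : i ≠ j) (c : K) :
    (emb (SpecialLinearGroup.transvection hij c)).1 =
      ts (Pi.single i.castSucc c) (Pi.single j.castSucc 1) := by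
  rw [ts_single (Fin.castSucc_injective 2 |>.ne hij)]
  refine Subtype.ext ?_
  ext a b
  fin_cases i <;> fin_cases j <;> first
    | exact absurd rfl hij
    | (fin_cases a <;> fin_cases b <;> simp [emb, SpecialLinearGroup.transvection_coe])

variable [Finite G] [Fintype K] {π : SL(3, K) →* G} {N : Subgroup G}

theorem core (mk : MK π N (Fintype.card K)) :
    FE N (Fintype.card K) (FL π (Pi.single 2 1)) := by
  have h0 : (Pi.single 2 1 : Fin 3 → K) ≠ 0 := by simp
  have inj : Function.Injective (π.comp (HH K).subtype) := (injective_iff_map_eq_one _).2 fun h e => by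
    obtain ⟨r, -, hr⟩ := Matrix.SpecialLinearGroup.mem_center_iff.1 ((mk.md.ker _).1 e)
    have : r = 1 := by simpa using (congrFun (congrFun hr 2) 2).trans h.2.2.2
    exact Subtype.ext (Subtype.ext (by rw [← show scalar _ r = h.1.1 from hr, this]; simp))
  have m1 : ∀ v ψ : Fin 3 → K, v 2 = 0 → ψ ⬝ᵥ v = 0 →
      π (ts v ψ) ∈ SS N (Fintype.card K) (FL π (Pi.single 2 1)) := fun v ψ hv h => by
    by_cases e : v = 0
    · rw [e, ts_zero_left, map_one]; exact one_mem _
    · exact ((mk.adjF _ _ h0).2 ⟨v, e, by simpa using hv, rfl⟩).le_SS ⟨ψ, h, rfl⟩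
  have eS : (π.comp (HH K).subtype).range = SS N (Fintype.card K) (FL π (Pi.single 2 1)) := by
    refine le_antisymm ?_ (SS_le fun E hE => ?_)
    · rintro _ ⟨h, rfl⟩
      obtain ⟨v, hv, e⟩ := blk_eq_one.1
        (show blk (h * (emb (blk h))⁻¹) = 1 by rw [map_mul, map_inv, blk_emb, mul_inv_cancel])
      rw [← inv_mul_cancel_right h (emb (blk h)), map_mul]
      refine mul_mem ?_ ?_
      · change π (h * (emb (blk h))⁻¹ : HH K).1 ∈ _
        rw [e]; exact m1 _ _ hv (by simpa using hv)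
      · refine SL2.transvection_induction
          (fun A => π.comp (HH K).subtype (emb A) ∈ SS N (Fintype.card K) (FL π (Pi.single 2 1)))
          (fun i j hij c => ?_) (fun A B hA hB => ?_) _
        · change π (emb (SpecialLinearGroup.transvection hij c)).1 ∈ _
          rw [emb_tv]
          refine m1 _ _ (by fin_cases i <;> simp) ?_
          rw [single_dotProduct, one_mul]
          rw [Pi.single_eq_of_ne ((Fin.castSucc_injective 2).ne hij.symm)]
        · rw [emb_mul, map_mul]; exact mul_mem hA hB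
    · obtain ⟨v, -, hv, rfl⟩ := (mk.adjF _ _ h0).1 hE
      rintro _ ⟨ψ, h, rfl⟩
      exact ⟨⟨_, ts_mem (by simpa using hv) h⟩, rfl⟩
  let e : HH K ≃* SS N (Fintype.card K) (FL π (Pi.single 2 1)) :=
    (MonoidHom.ofInjective inj).trans (MulEquiv.subgroupCongr eS)
  have he : ∀ h, (e h : G) = π h.1 := fun _ => rfl
  let f := blk.comp e.symm.toMonoidHom
  have f1 : Function.Surjective f :=
    fun A => ⟨e (emb A), (congrArg blk (e.symm_apply_apply _)).trans (blk_emb A)⟩
  have f2 : ∀ s, f s = 1 ↔ (s : G) ∈ FL π (Pi.single 2 1) := fun s => by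
    obtain ⟨h, rfl⟩ := e.surjective s
    rw [MonoidHom.comp_apply, MulEquiv.coe_toMonoidHom, e.symm_apply_apply, blk_eq_one, he]
    constructor
    · rintro ⟨v, hv, k⟩
      exact ⟨v, by simpa using hv, by rw [k]⟩
    · rintro ⟨v, hv, k⟩
      have hv' : v 2 = 0 := by simpa using hv
      exact ⟨v, hv', congrArg Subtype.val (inj (a₁ := h) (a₂ := ⟨_, ts_mem hv' hv⟩) k)⟩
  have hc := H28.center_SL2_eq_bot mk.md.two
  refine ⟨?_, K, inferInstance, inferInstance, rfl, (QuotientGroup.mk' _).comp f,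
    (QuotientGroup.mk'_surjective _).comp f1, fun s => ?_⟩
  · have hF := ((mk.vx _).2 (Or.inr ⟨_, h0, rfl⟩)).card
    have hle : FL π (Pi.single 2 1) ≤ SS N (Fintype.card K) (FL π (Pi.single 2 1)) := by
      rintro _ ⟨v, hv, rfl⟩
      exact m1 _ _ (by simpa using hv) hv
    have hk : f.ker = (FL π (Pi.single 2 1)).subgroupOf _ := Subgroup.ext f2
    rw [← f.ker.card_mul_index, index_ker, MonoidHom.range_eq_top.2 f1, card_top, H28.card_SL2 rfl,
      hk, Nat.card_congr (subgroupOfEquivOfLe hle).toEquiv, hF]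
    ring
  · rw [MonoidHom.comp_apply, QuotientGroup.mk'_apply, QuotientGroup.eq_one_iff, hc, mem_bot, f2]

theorem me : MEStmt.{u} := by
  intro G _ _ K _ _ π N mk v φ _ hφ _
  obtain ⟨g, hg, e⟩ := (mk.sameF (FL π φ) (Pi.single 2 1) (by simp)).2 ⟨φ, hφ, rfl⟩
  rw [← e]
  exact fe_cj (core mk) (le_normalizer hg)

end Cfsg.Agent.H22.HLMe
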