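import Mathlib
import Cfsg.Agent.H76.K0Defs
import Cfsg.Agent.H12.Central

/-! Galois averaging for generalized characters divisible by an integer. -/

set_option autoImplicit false

namespace Cfsg.Agent.H22.K0Gal

open Cfsg Cfsg.Agent.H12

universe u

theorem gal : H76.K0.GalStmt.{u} := by
  rintro G _ _ θ ⟨χ, ψ, hχ, hψ, rfl⟩ n hn hint
  classical
  set f : G → ℂ := fun g => (χ - ψ) g / n with hf
  have n0 : (n : ℂ) ≠ 0 := by exact_mod_cast hn.ne'
  set s : Finset G := Finset.univ.filter fun g => (χ - ψ) g ≠ 0 with hs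
  have h0 : ∀ g, g ∈ s ↔ f g ≠ 0 := fun g => by simp [hs, hf, hn.ne']
  have hinv : ∀ g, f g⁻¹ = (starRingEnd ℂ) (f g) := fun g => by
    simp only [hf, Pi.sub_apply, IsCharacter_inv hχ, IsCharacter_inv hψ, map_div₀, map_sub,
      map_natCast]
  have key : (s.card : ℝ) ≤ ∑ g ∈ s, Complex.normSq (f g) := by
    apply card_le_sum_of_one_le_prod s _ (fun g hg => Complex.normSq_pos.mpr ((h0 g).1 hg))
    have hP : ((∏ g ∈ s, Complex.normSq (f g) : ℝ) : ℂ) = ∏ g ∈ s, f g * f g⁻¹ := by
      push_cast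
      exact Finset.prod_congr rfl fun g _ => by rw [hinv, Complex.mul_conj]
    obtain ⟨z, hz⟩ := exists_int_of_forall_ringEquiv (x := ∏ g ∈ s, f g * f g⁻¹)
      (IsIntegral.prod _ fun g _ => (hint g).mul (hint _))
      (fun σ => by
        obtain ⟨m, hm, hσ⟩ := exists_pow_character_of_ringHom (G := G) σ.toRingHom
        have h1 : ∀ g, σ (χ g) = χ (g ^ m) := hσ χ hχ
        have h2 : ∀ g, σ (ψ g) = ψ (g ^ m) := hσ ψ hψ
        have hσ' : ∀ g, σ (f g) = f (g ^ m) := fun g => by
          simp only [hf, Pi.sub_apply, map_div₀, map_sub, map_natCast, h1, h2]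
        have hcl : ∀ g ∈ s, g ^ m ∈ s := fun g hg => (h0 _).2 (by
          rw [← hσ']
          exact (map_ne_zero σ).2 ((h0 g).1 hg))
        have hinj : Function.Injective (fun g : G => g ^ m) := (powCoprime hm.symm).injective
        rw [map_prod]
        simp only [map_mul, hσ', inv_pow]
        refine Finset.prod_bij (fun g _ => g ^ m) hcl
          (fun a _ b _ h => hinj h) (fun b hb => ?_) (fun _ _ => rfl)
        exact Finset.surj_on_of_inj_on_of_card_le (fun g _ => g ^ m) hcl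
          (fun a b _ _ h => hinj h) le_rfl b hb |>.imp fun a ⟨ha, h⟩ => ⟨ha, h.symm⟩)
    rw [← hP] at hz
    have hz' : ∏ g ∈ s, Complex.normSq (f g) = (z : ℝ) := by exact_mod_cast hz
    have hpos : 0 < ∏ g ∈ s, Complex.normSq (f g) :=
      Finset.prod_pos fun g hg => Complex.normSq_pos.mpr ((h0 g).1 hg)
    rw [hz'] at hpos ⊢
    have : 0 < z := by exact_mod_cast hpos
    exact_mod_cast this
  have hc : Nat.card {g : G // (χ - ψ) g ≠ 0} = s.card := by
    rw [Nat.card_eq_fintype_card, Fintype.card_subtype]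
  have nR : (0 : ℝ) < n := by exact_mod_cast hn
  rw [hc]
  calc (n : ℝ) ^ 2 * s.card ≤ (n : ℝ) ^ 2 * ∑ g ∈ s, Complex.normSq (f g) := by gcongr
    _ = ∑ g ∈ s, ‖(χ - ψ) g‖ ^ 2 := by
      rw [Finset.mul_sum]
      refine Finset.sum_congr rfl fun g _ => ?_
      rw [Complex.normSq_eq_norm_sq, hf]
      simp only [norm_div, Complex.norm_natCast]
      field_simp
    _ ≤ ∑ g, ‖(χ - ψ) g‖ ^ 2 :=
      Finset.sum_le_sum_of_subset_of_nonneg (Finset.subset_univ _) fun _ _ _ => by positivity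

end Cfsg.Agent.H22.K0Gal
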