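import Cfsg.Agent.H76.K4Defs
import Cfsg.Agent.H8.K4Ar
import Cfsg.Agent.S4648

/-! The numerical data of a principal block with four irreducible characters. -/

set_option autoImplicit false

namespace Cfsg.Agent.H22.K4Data

open Cfsg Cfsg.Agent.H17 Cfsg.Agent.H23.SecT Cfsg.Agent.H23.KL Cfsg.Agent.H76.K4
open scoped Classical

universe u

theorem sgn (x y z : ℤ) (h : x ^ 2 + y ^ 2 + z ^ 2 = 0 ∨ x ^ 2 + y ^ 2 + z ^ 2 = 6 ∨
    x ^ 2 + y ^ 2 + z ^ 2 = 14) :
    ∃ e1 e2 e3 : ℤ, e1 ^ 2 = 1 ∧ e2 ^ 2 = 1 ∧ e3 ^ 2 = 1 ∧ e1 * x + e2 * y + e3 * z = 0 := by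
  have hx : x ^ 2 ≤ 14 := by rcases h with h | h | h <;> nlinarith [sq_nonneg y, sq_nonneg z]
  have hy : y ^ 2 ≤ 14 := by rcases h with h | h | h <;> nlinarith [sq_nonneg x, sq_nonneg z]
  have hz : z ^ 2 ≤ 14 := by rcases h with h | h | h <;> nlinarith [sq_nonneg x, sq_nonneg y]
  have x1 : x ≤ 3 := by nlinarith
  have x2 : -3 ≤ x := by nlinarith
  have y1 : y ≤ 3 := by nlinarith
  have y2 : -3 ≤ y := by nlinarith
  have z1 : z ≤ 3 := by nlinarith
  have z2 : -3 ≤ z := by nlinarith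
  have key : x + y + z = 0 ∨ x + y - z = 0 ∨ x - y + z = 0 ∨ x - y - z = 0 := by
    interval_cases x <;> interval_cases y <;> interval_cases z <;> simp at h ⊢
  rcases key with k | k | k | k
  · exact ⟨1, 1, 1, by norm_num, by norm_num, by norm_num, by linarith⟩
  · exact ⟨1, 1, -1, by norm_num, by norm_num, by norm_num, by linarith⟩
  · exact ⟨1, -1, 1, by norm_num, by norm_num, by norm_num, by linarith⟩
  · exact ⟨1, -1, -1, by norm_num, by norm_num, by norm_num, by linarith⟩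

theorem last (q : ℕ) (x y z : ℤ) (hq : (q : ℤ) = 1 + x ^ 2 + y ^ 2 + z ^ 2) (ho : (q : ℤ) % 2 = 1)
    (H : ∀ w1 w2 w3 : ℤ, (x * w1 + y * w2 + z * w3) * (x * w1 + y * w2 + z * w3 + 1) ≤
      q * (w1 ^ 2 + w2 ^ 2 + w3 ^ 2)) :
    (∃ e1 e2 e3 : ℤ, e1 ^ 2 = 1 ∧ e2 ^ 2 = 1 ∧ e3 ^ 2 = 1 ∧ e1 * x + e2 * y + e3 * z = 0) ∨ q = 3 := by
  have := H8.K4Ar.ar q x y z hq ho (by
    rintro a b c d ⟨w1, h1⟩ ⟨w2, h2⟩ ⟨w3, h3⟩
    have hb : b = a * x + q * w1 := by linarith
    have hc : c = a * y + q * w2 := by linarith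
    have hd : d = a * z + q * w3 := by linarith
    have h4 := H (-w1) (-w2) (-w3)
    set s := x * w1 + y * w2 + z * w3 with hs
    have h5 : a + s ≤ (a + s) ^ 2 := Int.le_self_sq _
    have h6 : a ≤ a ^ 2 + 2 * a * s + q * (w1 ^ 2 + w2 ^ 2 + w3 ^ 2) := by nlinarith
    have h7 : a ^ 2 + b ^ 2 + c ^ 2 + d ^ 2 =
        q * (a ^ 2 + 2 * a * s + q * (w1 ^ 2 + w2 ^ 2 + w3 ^ 2)) := by
      rw [hb, hc, hd, hs]
      linear_combination (-a ^ 2) * hq
    rw [h7]
    exact mul_le_mul_of_nonneg_left h6 (Int.natCast_nonneg q))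
  rcases this with h | h | h | h
  · exact Or.inl (sgn x y z (Or.inl (by linarith)))
  · exact Or.inr (by exact_mod_cast h)
  · exact Or.inl (sgn x y z (Or.inr (Or.inl (by linarith))))
  · exact Or.inl (sgn x y z (Or.inr (Or.inr (by linarith))))

theorem data (set : SetStmt.{u}) : DataStmt.{u} := by
  intro G _ _ p hp M hM hk hl D
  letI := Fintype.ofFinite G
  haveI := H13.finite_irrCharacter (G := G)
  letI := Fintype.ofFinite (IrrCharacter G)
  have hB : IsPBlock M (principalBlock M G) := H17.isPBlock_principalBlock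
  have hD := H17.dg_principal hM D
  have h2 := H17.dg_card hM hB hD
  have hd : blockDefect p (principalBlock M G) ≠ 0 := fun h0 => by
    have := H21.card_eq_one_of_defect_zero hM hB h0
    omega
  have hD1 : (D : Subgroup G) ≠ ⊥ := fun e => by
    rw [e, Subgroup.card_bot] at h2
    exact hd ((Nat.pow_eq_one.mp h2.symm).resolve_left (Fact.out : p.Prime).one_lt.ne')
  obtain ⟨u, a, m, ha, hs, hm, hm0, -, hw⟩ := set G p M hM (by omega) D hD1
  have ht : H21.triv G ∈ fB (principalBlock M G) := mem_fB.2 (H21.triv_mem_principal hM.2.1)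
  have hc : (fB (principalBlock M G)).card = 4 := by
    rw [← hk, Nat.card_eq_fintype_card, Fintype.card_subtype]
  have hc3 : ((fB (principalBlock M G)).erase (H21.triv G)).card = 3 := by
    rw [Finset.card_erase_of_mem ht, hc]
  obtain ⟨c1, c2, c3, n12, n13, n23, e⟩ := Finset.card_eq_three.1 hc3
  have ne : ∀ c ∈ ({c1, c2, c3} : Finset (IrrCharacter G)), c ≠ H21.triv G := fun c h =>
    Finset.ne_of_mem_erase (e ▸ h)
  have n1 := ne c1 (by simp)
  have n2 := ne c2 (by simp)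
  have n3 := ne c3 (by simp)
  have sm : ∀ f : IrrCharacter G → ℤ, ∑ χ ∈ fB (principalBlock M G), f χ =
      f (H21.triv G) + f c1 + f c2 + f c3 := fun f => by
    rw [← Finset.add_sum_erase _ _ ht, e, Finset.sum_insert (by simp [n12, n13]),
      Finset.sum_pair n23]
    ring
  have a1 : a (H21.triv G) = 1 := by
    have := ha (H21.triv G)
    rw [H21.triv_apply] at this
    exact_mod_cast this.symm
  rw [sm, a1] at hs hm
  have hq : ((Nat.card (D : Subgroup G) : ℕ) : ℤ) = 1 + a c1 ^ 2 + a c2 ^ 2 + a c3 ^ 2 := by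
    rw [← hs]; ring
  have H : ∀ w1 w2 w3 : ℤ, (a c1 * w1 + a c2 * w2 + a c3 * w3) *
      (a c1 * w1 + a c2 * w2 + a c3 * w3 + 1) ≤
      (Nat.card (D : Subgroup G) : ℕ) * (w1 ^ 2 + w2 ^ 2 + w3 ^ 2) := fun w1 w2 w3 => by
    have := hw (fun χ => if χ = c1 then w1 else if χ = c2 then w2 else if χ = c3 then w3 else 0)
      (by simp [n1.symm, n2.symm, n3.symm])
    rw [sm, sm] at this
    simpa [n1.symm, n2.symm, n3.symm, n12.symm, n13.symm, n23.symm] using this
  refine ⟨a c1, a c2, a c3, m c1, m c2, m c3, hq, by rw [hm0] at hm; linarith, H, fun h2' => ?_⟩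
  refine last _ _ _ _ hq ?_ H
  have ho : Odd (Nat.card (D : Subgroup G)) := h2 ▸ (hp.out.odd_of_ne_two h2').pow
  obtain ⟨k, hk'⟩ := ho
  rw [hk']
  omega

end Cfsg.Agent.H22.K4Data
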