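import Cfsg.Agent.H44.K5Defs

set_option autoImplicit false

namespace Cfsg.Agent.H22.K5Herm

open Matrix

theorem detc {n : ℕ} (M : Matrix (Fin (n + 1)) (Fin (n + 1)) ℤ) (h : ∀ i : Fin n, M i.succ 0 = 0) :
    M.det = M 0 0 * (M.submatrix Fin.succ Fin.succ).det := by
  rw [Matrix.det_succ_column_zero, Fin.sum_univ_succ]
  simp [h]

theorem ent {n : ℕ} (B W : Matrix (Fin n) (Fin n) ℤ) (i j : Fin n) :
    (Wᵀ * B * W) i j = (fun k => W k i) ⬝ᵥ B *ᵥ (fun k => W k j) := by
  rw [Matrix.mul_assoc]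
  rfl

def sch {n : ℕ} (B : Matrix (Fin (n + 1)) (Fin (n + 1)) ℤ) : Matrix (Fin n) (Fin n) ℤ :=
  fun i j => B 0 0 * B i.succ j.succ - B 0 i.succ * B 0 j.succ

theorem quad {n : ℕ} (B : Matrix (Fin (n + 1)) (Fin (n + 1)) ℤ) (hB : ∀ i j, B i j = B j i) (k l : ℤ)
    (y z : Fin n → ℤ) : B 0 0 * (Fin.cons k y ⬝ᵥ B *ᵥ Fin.cons l z) =
      (B 0 0 * k + ∑ j, B 0 j.succ * y j) * (B 0 0 * l + ∑ j, B 0 j.succ * z j) + y ⬝ᵥ sch B *ᵥ z := by
  have h1 : y ⬝ᵥ sch B *ᵥ z = B 0 0 * (∑ i, y i * ∑ j, B i.succ j.succ * z j) -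
      (∑ j, B 0 j.succ * y j) * ∑ j, B 0 j.succ * z j := by
    rw [Finset.sum_mul_sum, Finset.mul_sum, ← Finset.sum_sub_distrib]
    refine Finset.sum_congr rfl fun i _ => ?_
    show y i * ∑ j, (B 0 0 * B i.succ j.succ - B 0 i.succ * B 0 j.succ) * z j = _
    rw [Finset.mul_sum, Finset.mul_sum, Finset.mul_sum, ← Finset.sum_sub_distrib]
    exact Finset.sum_congr rfl fun j _ => by ring
  have h2 : ∑ i : Fin n, y i * (B i.succ 0 * l + ∑ j, B i.succ j.succ * z j) =
      (∑ j, B 0 j.succ * y j) * l + ∑ i, y i * ∑ j, B i.succ j.succ * z j := by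
    rw [Finset.sum_mul, ← Finset.sum_add_distrib]
    exact Finset.sum_congr rfl fun i _ => by rw [hB i.succ 0]; ring
  rw [h1]
  simp only [dotProduct, mulVec, Fin.sum_univ_succ, Fin.cons_zero, Fin.cons_succ]
  rw [h2]
  ring

theorem herm : H44.K5.HermStmt := by
  intro n
  induction n with
  | zero => exact fun A _ _ => ⟨1, by simp, by simp⟩
  | succ n ih =>
    intro A hA hp
    classical
    have pos : ∀ U : Matrix (Fin (n + 2)) (Fin (n + 2)) ℤ, IsUnit U.det → ∀ x, x ≠ 0 →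
        0 < x ⬝ᵥ (Uᵀ * A * U) *ᵥ x := fun U hU x hx => by
      rw [← mulVec_mulVec, ← mulVec_mulVec, dotProduct_mulVec, vecMul_transpose]
      exact hp _ fun e => hx (Matrix.eq_zero_of_mulVec_eq_zero hU.ne_zero e)
    have pos0 : ∀ U : Matrix (Fin (n + 2)) (Fin (n + 2)) ℤ, IsUnit U.det → 0 < (Uᵀ * A * U) 0 0 :=
      fun U hU => by simpa using pos U hU (Pi.single 0 1) (by simp)
    obtain ⟨a, ⟨U, hU, ha⟩, hmin⟩ := Int.exists_least_of_bdd
      (P := fun z => ∃ U : Matrix (Fin (n + 2)) (Fin (n + 2)) ℤ, IsUnit U.det ∧ (Uᵀ * A * U) 0 0 = z)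
      ⟨0, fun z ⟨U, hU, e⟩ => e ▸ (pos0 U hU).le⟩ ⟨_, 1, by simp, rfl⟩
    refine ⟨U, hU, ?_⟩
    have a0 : 0 < a := ha ▸ pos0 U hU
    have hpB := pos U hU
    have hdet : (Uᵀ * A * U).det = A.det := by
      rw [det_mul, det_mul, det_transpose]
      rcases Int.isUnit_iff.1 hU with e | e <;> rw [e] <;> ring
    have hsym : (Uᵀ * A * U)ᵀ = Uᵀ * A * U := by
      rw [transpose_mul, transpose_mul, transpose_transpose, hA, Matrix.mul_assoc]
    have hm : ∀ W : Matrix (Fin (n + 2)) (Fin (n + 2)) ℤ, IsUnit W.det →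
        a ≤ (Wᵀ * (Uᵀ * A * U) * W) 0 0 := fun W hW =>
      hmin _ ⟨U * W, by rw [det_mul]; exact hU.mul hW, by simp only [transpose_mul, Matrix.mul_assoc]⟩
    generalize Uᵀ * A * U = B at *
    have hB : ∀ i j, B i j = B j i := fun i j => congrFun (congrFun hsym j) i
    subst ha
    have sS : (sch B)ᵀ = sch B := by
      ext i j
      simp only [transpose_apply, sch, hB j.succ i.succ]
      ring
    have pS : ∀ y : Fin (n + 1) → ℤ, y ≠ 0 → 0 < y ⬝ᵥ sch B *ᵥ y := fun y hy => by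
      have h1 := hpB (Fin.cons (-∑ j, B 0 j.succ * y j) (B 0 0 • y)) fun e => hy (by
        ext j
        have := congrFun e j.succ
        simpa [a0.ne'] using this)
      have h2 := quad B hB (-∑ j, B 0 j.succ * y j) (-∑ j, B 0 j.succ * y j) (B 0 0 • y) (B 0 0 • y)
      have h3 : ∑ j, B 0 j.succ * (B 0 0 • y) j = B 0 0 * ∑ j, B 0 j.succ * y j := by
        rw [Finset.mul_sum]
        exact Finset.sum_congr rfl fun j _ => by simp only [Pi.smul_apply, smul_eq_mul]; ring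
      rw [h3, mulVec_smul, smul_dotProduct, dotProduct_smul, smul_eq_mul, smul_eq_mul] at h2
      have h4 := mul_pos a0 h1
      rw [h2] at h4
      by_contra h5
      push Not at h5
      nlinarith [mul_pos a0 a0]
    have dS : (sch B).det = B 0 0 ^ n * B.det := by
      let E : Matrix (Fin (n + 2)) (Fin (n + 2)) ℤ := fun i =>
        Fin.cases (Pi.single 0 1) (fun i => B 0 0 • Pi.single i.succ 1 - B 0 i.succ • Pi.single 0 1) i
      have e0 : E 0 = Pi.single 0 1 := rfl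
      have e1 : ∀ i : Fin (n + 1), E i.succ =
          B 0 0 • Pi.single i.succ (1 : ℤ) - B 0 i.succ • Pi.single 0 (1 : ℤ) := fun i => rfl
      have dE : E.det = B 0 0 ^ (n + 1) := by
        rw [← det_transpose, detc _ (fun i => by
          rw [transpose_apply, e0, Pi.single_eq_of_ne (Fin.succ_ne_zero i)])]
        have : Eᵀ.submatrix Fin.succ Fin.succ = B 0 0 • (1 : Matrix _ _ ℤ) := by
          ext i j
          rw [submatrix_apply, transpose_apply, e1, Pi.sub_apply, Pi.smul_apply, Pi.smul_apply,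
            Pi.single_eq_of_ne (Fin.succ_ne_zero i), Pi.single_apply, Matrix.smul_apply, one_apply]
          simp
        rw [this, transpose_apply, e0, det_smul, det_one, Fintype.card_fin]
        simp
      have r0 : ∀ j, (E * B) 0 j = B 0 j := fun j => by
        show E 0 ⬝ᵥ (fun k => B k j) = _
        rw [e0, single_dotProduct, one_mul]
      have r1 : ∀ (i : Fin (n + 1)) j, (E * B) i.succ j = B 0 0 * B i.succ j - B 0 i.succ * B 0 j :=
        fun i j => by
          show E i.succ ⬝ᵥ (fun k => B k j) = _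
          rw [e1, sub_dotProduct, smul_dotProduct, smul_dotProduct, single_dotProduct,
            single_dotProduct, one_mul, one_mul, smul_eq_mul, smul_eq_mul]
      have h1 := detc (E * B) fun i => by rw [r1, hB i.succ 0]; ring
      have h2 : (E * B).submatrix Fin.succ Fin.succ = sch B := by
        ext i j
        exact r1 i j.succ
      rw [h2, r0, det_mul, dE] at h1
      refine mul_left_cancel₀ a0.ne' ?_
      rw [← h1]
      ring
    obtain ⟨V, hV, hs⟩ := ih (sch B) sS pS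
    rw [ent, dS] at hs
    set y : Fin (n + 1) → ℤ := fun k => V k 0 with hy
    set β := ∑ j, B 0 j.succ * y j with hβ
    obtain ⟨k, hk1, hk2⟩ : ∃ k : ℤ, -B 0 0 ≤ 2 * (B 0 0 * k + β) ∧ 2 * (B 0 0 * k + β) ≤ B 0 0 := by
      have e1 := Int.emod_add_mul_ediv (2 * β + B 0 0) (2 * B 0 0)
      have e2 := Int.emod_nonneg (2 * β + B 0 0) (by omega : 2 * B 0 0 ≠ 0)
      have e3 := Int.emod_lt_of_pos (2 * β + B 0 0) (by omega : 0 < 2 * B 0 0)
      exact ⟨-((2 * β + B 0 0) / (2 * B 0 0)), by nlinarith, by nlinarith⟩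
    let M : Matrix (Fin (n + 2)) (Fin (n + 2)) ℤ := fun i =>
      Fin.cases (Fin.cons 1 fun _ => k) (fun i => Fin.cons 0 (V i)) i
    have dM : M.det = V.det := by
      rw [detc M fun i => rfl]
      exact one_mul _
    have h1 := hm (M.submatrix id (Equiv.swap 0 1)) (by
      rw [det_permute', dM]
      exact (Units.isUnit _).mul hV)
    rw [ent] at h1
    have h2 : (fun i => M.submatrix id (Equiv.swap 0 1) i 0) = Fin.cons k y := by
      ext i
      rw [submatrix_apply, Equiv.swap_apply_left]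
      exact Fin.cases rfl (fun i => rfl) i
    rw [h2] at h1
    have h3 := quad B hB k k y y
    rw [← hβ] at h3
    set s := y ⬝ᵥ sch B *ᵥ y
    set a := B 0 0
    have h4 : 3 * a ^ 2 ≤ 4 * s := by nlinarith [mul_le_mul_of_nonneg_left h1 a0.le]
    have h5 : (3 * a ^ 2) ^ (n + 1) ≤ (4 * s) ^ (n + 1) := pow_le_pow_left₀ (by positivity) h4 _
    have h6 : (n + 1) * (n + 1 + 1) / 2 = n * (n + 1) / 2 + (n + 1) := by
      rw [show (n + 1) * (n + 1 + 1) = n * (n + 1) + 2 * (n + 1) by ring, Nat.add_mul_div_left _ _ two_pos]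
    rw [h6, ← hdet]
    generalize n * (n + 1) / 2 = m at *
    refine le_of_mul_le_mul_left ?_ (pow_pos a0 n)
    calc a ^ n * (a ^ (n + 1 + 1) * 3 ^ (m + (n + 1))) = (3 * a ^ 2) ^ (n + 1) * 3 ^ m := by ring
      _ ≤ (4 * s) ^ (n + 1) * 3 ^ m := by gcongr
      _ = 4 ^ (n + 1) * (s ^ (n + 1) * 3 ^ m) := by ring
      _ ≤ 4 ^ (n + 1) * (4 ^ m * (a ^ n * B.det)) := by gcongr
      _ = _ := by ring

end Cfsg.Agent.H22.K5Herm
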