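import Cfsg.Agent.H44.OnBV

/-! Project S95: automorphisms of `C(ζ)` fixing `4³` pointwise are induced by `4³`. -/

set_option autoImplicit false
set_option maxRecDepth 200000

namespace Cfsg.Agent.H22.OnInB

open Subgroup Cfsg.Agent.H44 Cfsg.Agent.H59 Cfsg.Agent.H59.On Cfsg.Agent.H46.S95
  Cfsg.Agent.H46.S95.On Cfsg.Agent.H44.OnBV

theorem two_cos {G : Type*} [Group G] (M : Subgroup G) {x : G} (hx : x * x = 1) {X : Set G}
    (h : ∀ s ∈ X, (s ∈ M ∧ x * s * x ∈ M) ∨ (x * s ∈ M ∧ s * x ∈ M)) {k : G}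
    (hk : k ∈ Subgroup.closure X) : (k ∈ M ∧ x * k * x ∈ M) ∨ (x * k ∈ M ∧ k * x ∈ M) := by
  have hi : x⁻¹ = x := inv_eq_of_mul_eq_one_right hx
  have e : ∀ a b : G, a * b = a * x * (x * b) := fun a b => by
    rw [mul_assoc, ← mul_assoc x, hx, one_mul]
  induction hk using closure_induction with
  | mem s hs => exact h s hs
  | one => exact .inl ⟨one_mem _, by rw [mul_one, hx]; exact one_mem _⟩
  | mul s t _ _ hs ht =>
    rcases hs with ⟨a, b⟩ | ⟨a, b⟩ <;> rcases ht with ⟨c, d⟩ | ⟨c, d⟩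
    · refine .inl ⟨mul_mem a c, ?_⟩
      rw [← mul_assoc, mul_assoc (x * s), e (x * s), ← mul_assoc x t]; exact mul_mem b d
    · refine .inr ⟨?_, by rw [mul_assoc]; exact mul_mem a d⟩
      rw [← mul_assoc, e (x * s)]; exact mul_mem b c
    · refine .inr ⟨by rw [← mul_assoc]; exact mul_mem a c, ?_⟩
      rw [mul_assoc, e s, ← mul_assoc x t]; exact mul_mem b d
    · refine .inl ⟨by rw [e s]; exact mul_mem b c, ?_⟩
      rw [← mul_assoc, mul_assoc (x * s)]; exact mul_mem a d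
  | inv s _ hs =>
    rcases hs with ⟨a, b⟩ | ⟨a, b⟩
    · exact .inl ⟨inv_mem a, by simpa only [mul_inv_rev, hi, mul_assoc] using inv_mem b⟩
    · exact .inr ⟨by simpa only [mul_inv_rev, hi] using inv_mem b,
        by simpa only [mul_inv_rev, hi] using inv_mem a⟩

/-- the graph of a homomorphism defined on `C(ζ)` -/
structure Gr (D : Subgroup (Γ × Γ)) : Prop where
  fn : ∀ y, ((1 : Γ), y) ∈ D → y = 1
  tot : ∀ x ∈ Cz ζ, ∃ y, (x, y) ∈ D

/-- the words of `A` are mapped to the words of `A'` -/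
def Has (D : Subgroup (Γ × Γ)) (A A' : List (List ℕ)) : Prop :=
  ∀ i, (ev ν (nth [] A i), ev ν (nth [] A' i)) ∈ D

/-- a word in the words of `A` -/
noncomputable def pw (A : List (List ℕ)) (w : List ℕ) : List ℕ := w.flatMap (nth [] A)

/-- relations between the words of `A` -/
noncomputable def rl (A : List (List ℕ)) (R : List (List ℕ × List ℕ)) : Bool :=
  allL (fun r => eqB (pw A r.1) (pw A r.2)) R

/-- the image of `g` differs from `h` by an element commuting with `x` -/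
noncomputable def cm (A A' : List (List ℕ)) (g h x a b : List ℕ) : Bool :=
  bA (eqB (pw A a ++ g) (g ++ pw A b)) (bA (eqB (pw A' a) x) (eqB (h ++ pw A' b) (x ++ h)))

variable {D : Subgroup (Γ × Γ)} {A A' : List (List ℕ)}

theorem Gr.eq (h : Gr D) {x y y' : Γ} (a : (x, y) ∈ D) (b : (x, y') ∈ D) : y = y' :=
  mul_inv_eq_one.1 (h.fn _ (by simpa using D.mul_mem a (D.inv_mem b)))

theorem Has.word (h : Has D A A') (w : List ℕ) : (ev ν (pw A w), ev ν (pw A' w)) ∈ D := by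
  induction w with
  | nil => exact D.one_mem
  | cons i w ih =>
    have := D.mul_mem (h i) ih
    rwa [Prod.mk_mul_mk, ← ev_append, ← ev_append] at this

theorem Has.cons (h : Has D A A') {g c : List ℕ} (e : (ev ν g, ev ν c) ∈ D) :
    Has D (g :: A) (c :: A') := fun i => by
  cases i with
  | zero => exact e
  | succ i => exact h i

theorem Has.rel (hD : Gr D) (h : Has D A A') {R : List (List ℕ × List ℕ)} (e : rl A R = true) :
    rl A' R = true := allL_iff.2 fun r hr => (ko.iff _ _).2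
  (hD.eq (h.word r.1) (by rw [ko.eq _ _ (allL_iff.1 e r hr)]; exact h.word r.2))

theorem Has.com (hD : Gr D) (hS : Has D A A') {g h x a b : List ℕ} {y : Γ}
    (hy : (ev ν g, y) ∈ D) (e : cm A A' g h x a b = true) :
    y * (ev ν h)⁻¹ * ev ν x = ev ν x * (y * (ev ν h)⁻¹) := by
  obtain ⟨e1, e2⟩ := bA_iff.1 e
  obtain ⟨e2, e3⟩ := bA_iff.1 e2
  have h1 := ko.eq _ _ e1
  have h3 := ko.eq _ _ e3
  rw [ev_append, ev_append] at h1 h3
  have h4 := D.mul_mem (hS.word a) hy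
  have h5 := D.mul_mem hy (hS.word b)
  rw [Prod.mk_mul_mk] at h4 h5
  rw [h1] at h4
  have h6 := hD.eq h4 h5
  rw [ko.eq _ _ e2] at h6
  calc _ = y * (ev ν h)⁻¹ * (ev ν x * ev ν h) * (ev ν h)⁻¹ := by group
    _ = y * ev ν (pw A' b) * (ev ν h)⁻¹ := by rw [← h3]; group
    _ = _ := by rw [← h6]; group

theorem mem_L (w : List ℕ) (h : eqB (w ++ [3, 7, 3, 8]) ([3, 7, 3, 8] ++ w) = true) :
    ev ν w ∈ Cz ζ := mem_Cz.2 (by rw [ζ, ← ev_append, ← ev_append]; exact ko.eq _ _ h)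

theorem step (hD : Gr D) (hS : Has D A A') (g h a a' b' : List ℕ) (R : List (List ℕ × List ℕ))
    (C : List (List ℕ))
    (e : bA (bA (eqB (g ++ [3, 7, 3, 8]) ([3, 7, 3, 8] ++ g)) (rl (g :: A) R))
      (bA (cm A A' g h [1] a a) (cm A A' g h [6] a' b')) = true)
    (e' : allL (fun w => bO (bN (rl ((w ++ h) :: A') R)) (anyL (eqB (w ++ h)) C)) Wf = true) :
    ∃ c ∈ C, Has D (g :: A) (c :: A') := by
  obtain ⟨e1, e2⟩ := bA_iff.1 e
  obtain ⟨e0, e1⟩ := bA_iff.1 e1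
  obtain ⟨e2, e3⟩ := bA_iff.1 e2
  obtain ⟨y, hy⟩ := hD.tot _ (mem_L g e0)
  obtain ⟨w, hw, e4⟩ := cw_f.1 (y * (ev ν h)⁻¹) (by
    simp only [List.forall_mem_cons]
    exact ⟨hS.com hD hy e2, hS.com hD hy e3, by simp⟩)
  rw [mul_inv_eq_iff_eq_mul, ← ev_append] at e4
  subst e4
  rcases bO_iff.1 (allL_iff.1 e' w hw) with k | k
  · rw [bN_iff, (hS.cons hy).rel hD e1] at k
    exact Bool.noConfusion k
  · obtain ⟨c, hc, k⟩ := anyL_iff.1 k
    exact ⟨c, hc, hS.cons (ko.eq _ _ k ▸ hy)⟩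

/-- an element of order three normalising `B` -/
def wr : List ℕ := [5, 4, 3, 4, 5, 8, 5, 7, 4, 3, 4, 5]

/-- representatives of `B` modulo the centre -/
def C1 : List (List ℕ) := [[], [1], [2], [1, 1], [2, 1], [2, 2], [1, 1, 1], [2, 1, 1], [2, 2, 1],
  [2, 2, 2], [2, 1, 1, 1], [2, 2, 1, 1], [2, 2, 2, 1], [2, 2, 1, 1, 1], [2, 2, 2, 1, 1],
  [2, 2, 2, 1, 1, 1]]

theorem step1 (hD : Gr D) (hS : Has D gB gB) : ∃ c ∈ B, (ev ν wr, c * ev ν wr * c⁻¹) ∈ D := by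
  obtain ⟨c, hc, h⟩ := step hD hS wr wr [0, 0] [1, 1] [2, 2, 1, 1]
    [([0, 0, 0], []), ([0, 2, 2], [3, 3, 0])]
    (C1.map fun l => pw gB l ++ (wr ++ invW iv (pw gB l))) (by decide +kernel) (by decide +kernel)
  obtain ⟨l, -, rfl⟩ := List.mem_map.1 hc
  refine ⟨ev ν (pw gB l), mem_of gB _ l ((ko.iff _ _).2 rfl), ?_⟩
  have := h 0
  rwa [nth_cons_zero, nth_cons_zero, ev_append, ev_append, ev_inv, ← mul_assoc] at this

/-- generators of `C(ζ)` -/
def gL : List (List ℕ) := [5, 6, 3, 4, 3, 5] :: [5, 6, 4, 5] :: [4] :: wr :: gB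

theorem steps (hD : Gr D) (hS : Has D (wr :: gB) (wr :: gB)) : Has D gL gL := by
  obtain ⟨c, hc, h⟩ := step hD hS [4] [4] [1, 1] [2, 2] [2, 2]
    [([0, 1, 0, 1, 0, 1], []), ([0, 0], []), ([0, 3], [3, 3, 3, 0])]
    [[4], [1, 6, 4], [1, 6, 3, 4, 3], [3, 4, 3]] (by decide +kernel) (by decide +kernel)
  simp only [List.mem_cons, List.not_mem_nil, or_false] at hc
  rcases hc with rfl | rfl | rfl | rfl
  · obtain ⟨c, hc, h⟩ := step hD h [5, 6, 4, 5] [5, 6, 4, 5] [2, 2] [3, 3] [0]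
      [([0, 0], []), ([0, 4, 0, 4, 0, 4], []), ([0, 5, 2, 2], [1, 2, 5, 1, 0])]
      [[5, 6, 4, 5]] (by decide +kernel) (by decide +kernel)
    obtain rfl := List.mem_singleton.1 hc
    obtain ⟨c, hc, h⟩ := step hD h [5, 6, 3, 4, 3, 5] [5, 6, 3, 4, 3, 5] [3, 3] [4, 4]
      [5, 5, 1, 4, 3] [([0, 0], []), ([0, 5, 0, 5, 0, 5], []), ([0, 3, 2, 3], [2, 3, 2, 0])]
      [[5, 6, 3, 4, 3, 5]] (by decide +kernel) (by decide +kernel)
    obtain rfl := List.mem_singleton.1 hc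
    exact h
  · obtain ⟨c, hc, -⟩ := step hD h [5, 6, 4, 5] [5, 6, 4, 5, 3, 4, 3] [2, 2] [3, 3] [0]
      [([0, 5, 2, 2], [1, 2, 5, 1, 0])] [] (by decide +kernel) (by decide +kernel)
    exact absurd hc List.not_mem_nil
  · obtain ⟨c, hc, -⟩ := step hD h [5, 6, 4, 5] [5, 6, 4, 5, 3, 4] [2, 2] [3, 3] [0]
      [([0, 5, 2, 2], [1, 2, 5, 1, 0])] [] (by decide +kernel) (by decide +kernel)
    exact absurd hc List.not_mem_nil
  · obtain ⟨c, hc, -⟩ := step hD h [5, 6, 3, 4, 3, 5] [5, 6, 4, 5, 3, 4, 3] [2, 2] [3, 3]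
      [4, 4, 0, 3, 2] [([0, 2, 1, 2], [1, 2, 1, 0])] [] (by decide +kernel) (by decide +kernel)
    exact absurd hc List.not_mem_nil

theorem L_gen {l : Γ} (hl : l ∈ Cz ζ) : l ∈ wgen ν gL := by
  have hM : wgen ν gL ≤ Cz ζ := wgen_le.2 fun s hs => mem_L s (allL_iff.1 (by decide +kernel :
    allL (fun s => eqB (s ++ [3, 7, 3, 8]) ([3, 7, 3, 8] ++ s)) gL = true) s hs)
  have h1 : l ∈ K0 := cent_eq.le (mem_Cz.2 (by
    rw [← ζ_sq, ← mul_assoc, mem_Cz.1 hl, mul_assoc, mem_Cz.1 hl, mul_assoc]))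
  have hx : ν 3 * ν 3 = 1 := by simpa only [ev_cons, ev_nil, mul_one] using sat [3, 3] (by decide)
  have k1 : ∀ s a b, bA (eqB s (pw gL a)) (eqB (3 :: s ++ [3]) (pw gL b)) = true →
      ev ν s ∈ wgen ν gL ∧ ν 3 * ev ν s * ν 3 ∈ wgen ν gL := fun s a b e => by
    refine ⟨mem_of _ _ a (bA_iff.1 e).1, ?_⟩
    have := mem_of _ _ b (bA_iff.1 e).2
    rwa [ev_append, ev_cons, ev_single] at this
  have k2 : ∀ s a b, bA (eqB (3 :: s) (pw gL a)) (eqB (s ++ [3]) (pw gL b)) = true →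
      ν 3 * ev ν s ∈ wgen ν gL ∧ ev ν s * ν 3 ∈ wgen ν gL := fun s a b e => by
    have h1 := mem_of _ _ a (bA_iff.1 e).1
    have h2 := mem_of _ _ b (bA_iff.1 e).2
    rw [ev_cons] at h1
    rw [ev_append, ev_single] at h2
    exact ⟨h1, h2⟩
  rcases two_cos (wgen ν gL) hx (by
    rintro _ ⟨s, hs, rfl⟩
    simp only [List.mem_cons, List.not_mem_nil, or_false] at hs
    rcases hs with rfl | rfl | rfl | rfl | rfl | rfl | rfl
    · exact .inl (k1 _ [4, 4] [4, 4] (by decide +kernel))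
    · exact .inr (k2 _ [] [] (by decide +kernel))
    · exact .inl (k1 _ [2] [0, 5, 5, 0] (by decide +kernel))
    · exact .inl (k1 _ [2, 0, 1, 0, 2, 4, 4] [2, 0, 1, 0, 2, 4, 4] (by decide +kernel))
    · exact .inl (k1 _ [5, 5] [5, 5] (by decide +kernel))
    · exact .inr (k2 _ [6, 2] [6, 2, 4, 4, 4] (by decide +kernel))
    · exact .inr (k2 _ [2, 6, 6, 6, 4] [2, 6, 6, 6] (by decide +kernel))) h1 with h | h
  · exact h.1
  · exact absurd (x_inv.symm.trans (mul_inv_eq_iff_eq_mul.2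
      (mem_Cz.1 ((mul_mem_cancel_right hl).1 (hM h.1))))) ζ_ne

theorem inB : InBS := by
  intro θ hθ
  let D : Subgroup (Γ × Γ) :=
    ((Cz ζ).subtype.prod ((Cz ζ).subtype.comp θ.toMonoidHom)).range
  have m : ∀ l : Cz ζ, ((l : Γ), (θ l : Γ)) ∈ D := fun l => ⟨l, rfl⟩
  have hD : Gr D := ⟨fun y ⟨l, e⟩ => by
    obtain ⟨e1, e2⟩ := Prod.ext_iff.1 e
    rw [show l = 1 from Subtype.ext e1] at e2
    simpa using e2.symm, fun x hx => ⟨_, m ⟨x, hx⟩⟩⟩
  have mB : ∀ b ∈ B, (b, b) ∈ D := fun b hb => by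
    have := m ⟨b, mem_Cz.2 (B_comm hb ζ_mem)⟩
    rwa [hθ _ hb] at this
  have gm : ∀ i, ev ν (nth [] gB i) ∈ B := fun i =>
    (nth_mem [] gB i).elim (fun e => by rw [e]; exact one_mem _) (mem_wgen ν _)
  obtain ⟨c, hc, h⟩ := step1 hD fun i => mB _ (gm i)
  let D' : Subgroup (Γ × Γ) := D.comap ((MonoidHom.id Γ).prodMap (MulAut.conj c).toMonoidHom)
  have m' : ∀ x y, (x, y) ∈ D' ↔ (x, c * y * c⁻¹) ∈ D := fun _ _ => Iff.rfl
  have hD' : Gr D' := ⟨fun y hy => by simpa using hD.fn _ ((m' _ _).1 hy), fun x hx =>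
    let ⟨y, hy⟩ := hD.tot x hx
    ⟨c⁻¹ * y * c, (m' _ _).2 (by simpa [mul_assoc] using hy)⟩⟩
  have h1 : Has D' gB gB := fun i => (m' _ _).2 (by rw [conj_B hc (gm i)]; exact mB _ (gm i))
  have h2 := steps hD' (h1.cons ((m' _ _).2 h))
  have h3 : wgen ν gL ≤ D'.comap ((MonoidHom.id Γ).prod (MonoidHom.id Γ)) :=
    wgen_le.2 fun s hs => by
      obtain ⟨i, hi, rfl⟩ := List.getElem_of_mem hs
      have := h2 i
      rwa [nth_eq_getD, List.getD_eq_getElem _ _ hi] at this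
  exact ⟨c, hc, fun l => hD.eq (m l) ((m' _ _).1 (h3 (L_gen l.2)))⟩

end Cfsg.Agent.H22.OnInB
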