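import Cfsg.Agent.H42.PcDefs

/-! Project PC: piece ORB. -/

set_option autoImplicit false

namespace Cfsg.Agent.H22.PcOrb

open Subgroup MulAction Cfsg.Agent.H42.Pc

universe u

theorem orb : OrbStmt.{u} := by
  intro S Ω _ _ _ _ T A c l pT ol h1 h2 h3 h4 h5 x hx s hs
  classical
  by_contra hn
  haveI := Fintype.ofFinite Ω
  haveI := Fintype.ofFinite (orbitRel.Quotient S Ω)
  haveI : Fact (Nat.Prime 2) := ⟨Nat.prime_two⟩
  set ν := Fintype.card (orbitRel.Quotient S Ω) with hν
  let f : Ω → orbitRel.Quotient S Ω := fun y => Quotient.mk'' y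
  have fe : ∀ a b : Ω, f a = f b ↔ a ∈ orbit S b := fun a b => Quotient.eq''
  have so : ∀ y : Ω, (orbit S y).ncard * c = Nat.card S := fun y => by
    rw [← index_stabilizer, ← h2 y, index_mul_card]
  have Sp : 0 < Nat.card S := Nat.card_pos
  have Tp : 0 < Nat.card T := Nat.card_pos
  have sumΩ : Nat.card Ω * c = ν * Nat.card S := by
    rw [Nat.card_eq_fintype_card, ← Finset.card_univ,
      Finset.card_eq_sum_card_fiberwise (f := f) (t := Finset.univ) (fun _ _ => Finset.mem_univ _),
      Finset.sum_mul, hν, ← Finset.card_univ, ← smul_eq_mul, ← Finset.sum_const]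
    refine Finset.sum_congr rfl fun q _ => ?_
    obtain ⟨y, rfl⟩ : ∃ y, f y = q := Quotient.exists_rep q
    rw [← so y, ← Set.ncard_coe_finset]
    congr 2
    ext a
    simp [fe]
  have Ωp : 0 < Nat.card Ω := by
    rcases Nat.eq_zero_or_pos (Nat.card Ω) with e | e
    · rw [e, zero_mul] at h1; omega
    · exact e
  have hc : c = ν * l := by
    refine Nat.eq_of_mul_eq_mul_left Ωp ?_
    rw [sumΩ, ← h1]; ring
  have νp : 0 < ν := Fintype.card_pos_iff.2 ⟨f x⟩
  have big : ∀ y : Ω, Nat.card T ≤ (orbit T y).ncard * ν := by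
    intro y
    have e : (orbit T y).ncard * Nat.card (stabilizer T y) = Nat.card T := by
      rw [← index_stabilizer, index_mul_card]
    obtain ⟨k, hk⟩ := (IsPGroup.iff_card).1 (pT.to_subgroup (stabilizer T y))
    have d : Nat.card (stabilizer T y) ∣ c := by
      rw [← h2 y]
      exact card_dvd_of_injective
        ({ toFun := fun g => ⟨g.1.1, g.2⟩, map_one' := rfl, map_mul' := fun _ _ => rfl } :
          stabilizer T y →* stabilizer S y)
        (fun a b e => Subtype.ext (Subtype.ext (congrArg (fun g : stabilizer S y => (g : S)) e)))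
    rw [hc, hk] at d
    have d2 : 2 ^ k ∣ ν :=
      (Nat.Coprime.pow_left k (Nat.coprime_two_left.2 ol)).dvd_of_dvd_mul_right d
    rw [← e, hk]
    exact Nat.mul_le_mul_left _ (Nat.le_of_dvd νp d2)
  have sub : ∀ y ∈ A, orbit T y ⊆ ((A.toFinset.filter (f · = f y) : Finset Ω) : Set Ω) := by
    rintro y hy _ ⟨t, rfl⟩
    simp only [Finset.coe_filter, Set.mem_toFinset, Set.mem_ofPred_eq]
    exact ⟨h4 y hy t t.2, (fe _ _).2 ⟨(t : S), rfl⟩⟩
  have key : ν * Nat.card T < Nat.card A * ν := by
    rw [Nat.card_coe_set_eq, Set.ncard_eq_toFinset_card' A,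
      Finset.card_eq_sum_card_fiberwise (f := f) (t := Finset.univ) (fun _ _ => Finset.mem_univ _),
      Finset.sum_mul]
    nth_rewrite 1 [hν]
    rw [← Finset.card_univ, ← smul_eq_mul, ← Finset.sum_const]
    refine Finset.sum_lt_sum (fun q _ => ?_) ⟨f x, Finset.mem_univ _, ?_⟩
    · obtain ⟨y, rfl⟩ : ∃ y, f y = q := Quotient.exists_rep q
      obtain ⟨g, hg⟩ := h5 y
      rw [← (fe _ _).2 ⟨g, rfl⟩, ← Set.ncard_coe_finset]
      exact (big _).trans (Nat.mul_le_mul_right _ (Set.ncard_le_ncard (sub _ hg)))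
    · have dj : Disjoint (orbit T x) (orbit T (s • x)) := by
        rw [Set.disjoint_left]
        rintro _ ⟨a, rfl⟩ ⟨b, e⟩
        refine hn ⟨(b⁻¹ * a : T), (b⁻¹ * a).2, ?_⟩
        change (b⁻¹ * a) • x = s • x
        rw [mul_smul, inv_smul_eq_iff]
        exact e.symm
      have u : orbit T x ∪ orbit T (s • x) ⊆
          ((A.toFinset.filter (f · = f x) : Finset Ω) : Set Ω) := by
        refine Set.union_subset (sub x hx) ?_
        have := sub _ hs
        rwa [(fe (s • x) x).2 ⟨s, rfl⟩] at this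
      have := Set.ncard_le_ncard u
      rw [Set.ncard_union_eq dj, Set.ncard_coe_finset] at this
      have b1 := big x
      have b2 := big (s • x)
      have := Nat.mul_le_mul_right ν this
      rw [add_mul] at this
      omega
  rw [h3, mul_comm] at key
  exact lt_irrefl _ key

end Cfsg.Agent.H22.PcOrb
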