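import Mathlib

/-! An extension of an elementary abelian group by an involution and a copy of the group. -/

set_option autoImplicit false

namespace Cfsg.Agent.H22.Row

variable {G : Type*} [Group G] {M : Type*} [AddCommGroup M]

theorem conj_of_comm {a b : G} (h : Commute a b) : a * b * a⁻¹ = b := by
  rw [h.eq, mul_inv_cancel_right]

/-- The elementary abelian group `v '' M` centralized by the involution `t`. -/
structure AV (v : M → G) (t : G) : Prop where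
  add : ∀ a b, v (a + b) = v a * v b
  inj : ∀ a, v a = 1 → a = 0
  two : ∀ a : M, a + a = 0
  tt : t * t = 1
  tv : ∀ a, t ≠ v a
  ct : ∀ a, Commute t (v a)

/-- `g` centralizes `V` and moves `t` to `t v(a)`. -/
def D (v : M → G) (t g : G) (a : M) : Prop := (∀ b, Commute g (v b)) ∧ g * t * g⁻¹ = t * v a

namespace AV

variable {v : M → G} {t : G} (h : AV v t)
include h

theorem zero : v 0 = 1 := by
  have := h.add 0 0
  rw [add_zero] at this
  exact left_eq_mul.1 this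

theorem sq (a : M) : v a * v a = 1 := by rw [← h.add, h.two, h.zero]

theorem inv (a : M) : (v a)⁻¹ = v a := inv_eq_of_mul_eq_one_right (h.sq a)

theorem t_inv : t⁻¹ = t := inv_eq_of_mul_eq_one_right h.tt

theorem eq_of {a b : M} (e : a + b = 0) : a = b := by
  rw [← add_zero a, ← h.two b, ← add_assoc, e, zero_add]

theorem v_inj {a b : M} (e : v a = v b) : a = b :=
  h.eq_of (h.inj _ (by rw [h.add, e, h.sq]))

theorem cv (a b : M) : Commute (v a) (v b) := by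
  rw [Commute, SemiconjBy, ← h.add, ← h.add, add_comm]

theorem D_of_comm {g : G} (h1 : ∀ b, Commute g (v b)) (h2 : Commute g t) : D v t g 0 :=
  ⟨h1, by rw [conj_of_comm h2, h.zero, mul_one]⟩

theorem D_v (a : M) : D v t (v a) 0 := h.D_of_comm (h.cv a) (h.ct a).symm

theorem D_t : D v t t 0 := h.D_of_comm h.ct (Commute.refl t)

theorem D_one : D v t 1 0 := h.D_of_comm (fun _ => Commute.one_left _) (Commute.one_left _)

theorem D_mul {g g' : G} {a a' : M} (h1 : D v t g a) (h2 : D v t g' a') :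
    D v t (g * g') (a + a') := by
  refine ⟨fun b => (h1.1 b).mul_left (h2.1 b), ?_⟩
  calc g * g' * t * (g * g')⁻¹ = g * (g' * t * g'⁻¹) * g⁻¹ := by group
    _ = g * t * g⁻¹ * (g * v a' * g⁻¹) := by rw [h2.2]; group
    _ = _ := by rw [h1.2, conj_of_comm (h1.1 a'), h.add, mul_assoc]

theorem D_inv {g : G} {a : M} (h1 : D v t g a) : D v t g⁻¹ a := by
  refine ⟨fun b => (h1.1 b).inv_left, ?_⟩
  have h2 : g * (t * v a) * g⁻¹ = t := by
    calc g * (t * v a) * g⁻¹ = g * t * g⁻¹ * (g * v a * g⁻¹) := by group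
      _ = _ := by rw [h1.2, conj_of_comm (h1.1 a), mul_assoc, h.sq, mul_one]
  conv_lhs => rw [← h2]
  group

theorem D_uniq {g : G} {a a' : M} (h1 : D v t g a) (h2 : D v t g a') : a = a' :=
  h.v_inj (mul_left_cancel (h1.2.symm.trans h2.2))

theorem D_comm {g : G} (h1 : D v t g 0) : Commute g t := by
  have := h1.2
  rw [h.zero, mul_one, mul_inv_eq_iff_eq_mul] at this
  exact this

theorem D_zero {g : G} {a : M} (h1 : D v t g a) (h2 : Commute g t) : a = 0 :=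
  h.D_uniq h1 (h.D_of_comm h1.1 h2)

theorem D_odd {g : G} {a : M} (h1 : D v t g a) {m : ℕ} (hm : Odd m) : D v t (g ^ m) a := by
  obtain ⟨k, rfl⟩ := hm
  induction k with
  | zero => simpa using h1
  | succ k ih =>
    have := h.D_mul (h.D_mul h1 h1) ih
    rwa [h.two, zero_add, ← pow_two, ← pow_add, show 2 + (2 * k + 1) = 2 * (k + 1) + 1 by ring]
      at this

omit h in
theorem sq_v {g : G} {a : M} (h : AV v t) (h1 : D v t g a) (b : M) :
    g * v b * (g * v b) = g * g := by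
  rw [mul_assoc, ← mul_assoc (v b), ← (h1.1 b).eq, mul_assoc, h.sq, mul_one]

theorem sq_t {g : G} {a : M} (h1 : D v t g a) : g * t * (g * t) = g * g * v a := by
  have := (h.D_inv h1).2
  calc g * t * (g * t) = g * g * ((g⁻¹ * t * g⁻¹⁻¹) * t) := by group
    _ = _ := by rw [this, mul_assoc t, ← (h.ct a).eq, ← mul_assoc t, h.tt, one_mul]

end AV

/-- `p p' = p' p v(b)`. -/
def B (v : M → G) (p p' : G) (b : M) : Prop := p * p' = p' * p * v b

namespace AV

variable {v : M → G} {t : G} (h : AV v t)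
include h

theorem B_symm {p p' : G} {b : M} (h1 : B v p p' b) : B v p' p b := by
  rw [B, h1, mul_assoc, h.sq, mul_one]

theorem B_mul {p p' r : G} {b b' : M} (h1 : B v p r b) (h2 : B v p' r b')
    (c : Commute p' (v b)) : B v (p * p') r (b + b') := by
  rw [B, mul_assoc, h2, ← mul_assoc, ← mul_assoc, h1, h.add, mul_assoc _ (v b), ← c.eq]
  simp only [mul_assoc]

theorem B_t {p : G} {a : M} (h1 : D v t p a) : B v p t a := by
  rw [B, mul_assoc, (h1.1 a).eq, ← mul_assoc, ← h1.2, inv_mul_cancel_right]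

theorem B_comm {p p' : G} : B v p p' 0 ↔ Commute p p' := by
  rw [B, h.zero, mul_one]; rfl

theorem B_sq {p p' : G} {b : M} (h1 : p * p = 1) (h2 : p' * p' = 1) :
    B v p p' b ↔ p * p' * (p * p') = v b := by
  rw [B, ← inv_mul_eq_iff_eq_mul, mul_inv_rev, inv_eq_of_mul_eq_one_right h1,
    inv_eq_of_mul_eq_one_right h2]

end AV

/-- The group `P` over `⟨t⟩ V`. -/
structure AS (v : M → G) (t : G) (P : Subgroup G) : Prop extends AV v t where
  vP : ∀ a, v a ∈ P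
  tP : t ∈ P
  mov : ∀ p ∈ P, ∃ a, D v t p a
  ker : ∀ p ∈ P, Commute p t → ∃ a, p = v a ∨ p = t * v a

namespace AS

variable {v : M → G} {t : G} {P : Subgroup G} (h : AS v t P)
include h

theorem fib {p p' : G} (hp : p ∈ P) (hp' : p' ∈ P) {a : M} (h1 : D v t p a) (h2 : D v t p' a) :
    ∃ b, p' = p * v b ∨ p' = p * t * v b := by
  have h3 := h.D_mul (h.D_inv h1) h2
  rw [h.two] at h3
  obtain ⟨b, e | e⟩ := h.ker _ (mul_mem (inv_mem hp) hp') (h.D_comm h3)
  · exact ⟨b, Or.inl (by rw [← e, mul_inv_cancel_left])⟩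
  · exact ⟨b, Or.inr (by rw [mul_assoc, ← e, mul_inv_cancel_left])⟩

theorem fib_sq {p p' : G} (hp : p ∈ P) (hp' : p' ∈ P) {a : M} (h1 : D v t p a) (h2 : D v t p' a) :
    p' * p' = p * p ∨ p' * p' = p * p * v a := by
  obtain ⟨b, rfl | rfl⟩ := h.fib hp hp' h1 h2
  · exact Or.inl (h.sq_v h1 b)
  · exact Or.inr ((h.sq_v (h.D_mul h1 h.D_t) b).trans (h.sq_t h1))

theorem fib_inv {p p' : G} (hp : p ∈ P) (hp' : p' ∈ P) {a : M} (h1 : D v t p a) (h2 : D v t p' a)
    (ha : a ≠ 0) (s1 : p * p = 1) (s2 : p' * p' = 1) : ∃ b, p' = p * v b := by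
  obtain ⟨b, e | rfl⟩ := h.fib hp hp' h1 h2
  · exact ⟨b, e⟩
  · rw [h.sq_v (h.D_mul h1 h.D_t) b, h.sq_t h1, s1, one_mul] at s2
    exact absurd (h.inj a s2) ha

theorem sq_zero {p : G} (hp : p ∈ P) (h1 : D v t p 0) : p * p = 1 := by
  simpa [h.zero] using h.fib_sq (one_mem P) hp h.D_one h1

variable (H1 : ∀ p ∈ P, ∀ a, D v t p a → p * p = 1 ∨ p * p = v a)
include H1

theorem exists_inv {p : G} (hp : p ∈ P) {a : M} (h1 : D v t p a) :
    ∃ p' ∈ P, D v t p' a ∧ p' * p' = 1 ∧ (p' = p ∨ p' = p * t) := by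
  rcases H1 p hp a h1 with e | e
  · exact ⟨p, hp, h1, e, Or.inl rfl⟩
  · exact ⟨p * t, mul_mem hp h.tP, by simpa using h.D_mul h1 h.D_t,
      by rw [h.sq_t h1, e, h.sq], Or.inr rfl⟩

theorem B_inv {p p' : G} (hp : p ∈ P) (hp' : p' ∈ P) {a a' : M} (h1 : D v t p a)
    (h2 : D v t p' a') (s1 : p * p = 1) (s2 : p' * p' = 1) : B v p p' 0 ∨ B v p p' (a + a') := by
  rw [h.B_sq s1 s2, h.B_sq s1 s2, h.zero]
  exact H1 _ (mul_mem hp hp') _ (h.D_mul h1 h2)

theorem key {p p' r : G} (hp : p ∈ P) (hp' : p' ∈ P) (hr : r ∈ P) {a a' y : M} (h1 : D v t p a)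
    (h2 : D v t p' a') (h3 : D v t r y) (s1 : p * p = 1) (s2 : p' * p' = 1) (s3 : r * r = 1)
    (c : Commute p p') (n1 : a' ≠ 0) (n2 : a ≠ a') (n3 : y ≠ 0) (n4 : a ≠ y) : Commute p r := by
  rcases h.B_inv H1 hp hr h1 h3 s1 s3 with e1 | e1
  · exact h.B_comm.1 e1
  exfalso
  have s4 : p * p' * (p * p') = 1 := by
    rw [mul_assoc, ← mul_assoc p', ← c.eq, mul_assoc, s2, mul_one, s1]
  have u : ∀ {b b'}, B v (p * p') r b → B v (p * p') r b' → b + b' = 0 := fun e e' => by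
    rw [h.v_inj (mul_left_cancel (e.symm.trans e')), h.two]
  rcases h.B_inv H1 hp' hr h2 h3 s2 s3 with e2 | e2 <;>
    rcases h.B_inv H1 (mul_mem hp hp') hr (h.D_mul h1 h2) h3 s4 s3 with e3 | e3 <;>
    have e4 := u (h.B_mul e1 e2 (h2.1 _)) e3
  · exact n4 (h.eq_of (by simpa using e4))
  · refine n1 ?_
    rw [← e4, show a + y + 0 + (a + a' + y) = a' + (a + a) + (y + y) by abel, h.two, h.two]; abel
  · refine n2 (h.eq_of ?_)
    rw [← e4, show a + y + (a' + y) + 0 = a + a' + (y + y) by abel, h.two]; abel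
  · refine n3 ?_
    rw [← e4, show a + y + (a' + y) + (a + a' + y) = y + (a + a) + (a' + a') + (y + y) by abel,
      h.two, h.two, h.two]; abel

variable (H2 : ∀ p ∈ P, p * p = 1 → ¬ Commute p t →
  ∃ p' ∈ P, p' * p' = 1 ∧ Commute p p' ∧ ¬ Commute p' t ∧ ¬ Commute (p * p') t)
include H2

theorem comm {p r : G} (hp : p ∈ P) (hr : r ∈ P) (s1 : p * p = 1) (s3 : r * r = 1)
    (n1 : ∀ b, p ≠ t * v b) (n3 : ∀ b, r ≠ t * v b) : Commute p r := by
  obtain ⟨a, h1⟩ := h.mov p hp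
  obtain ⟨y, h3⟩ := h.mov r hr
  by_cases c1 : Commute p t
  · obtain ⟨b, rfl | e⟩ := h.ker p hp c1
    exacts [(h3.1 b).symm, absurd e (n1 b)]
  by_cases c3 : Commute r t
  · obtain ⟨b, rfl | e⟩ := h.ker r hr c3
    exacts [h1.1 b, absurd e (n3 b)]
  have y0 : y ≠ 0 := fun e => c3 (h.D_comm (e ▸ h3))
  by_cases e : a = y
  · obtain ⟨b, rfl⟩ := h.fib_inv hp hr (e ▸ h1) h3 y0 s1 s3
    exact (Commute.refl p).mul_right (h1.1 b)
  obtain ⟨p', hp', s2, c, c4, c5⟩ := H2 p hp s1 c1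
  obtain ⟨a', h2⟩ := h.mov p' hp'
  exact h.key H1 hp hp' hr h1 h2 h3 s1 s2 s3 c (fun e => c4 (h.D_comm (e ▸ h2)))
    (fun e => c5 (h.D_comm (h.two a ▸ h.D_mul h1 (e ▸ h2)))) y0 e

theorem exists_W : ∃ W : Subgroup G, ∀ p, p ∈ W ↔ p ∈ P ∧ p * p = 1 ∧ ∀ b, p ≠ t * v b := by
  refine ⟨⟨⟨⟨{p | p ∈ P ∧ p * p = 1 ∧ ∀ b, p ≠ t * v b}, ?_⟩, ?_⟩, ?_⟩, fun _ => Iff.rfl⟩
  · rintro p r ⟨hp, s1, n1⟩ ⟨hr, s3, n3⟩
    have c := h.comm H1 H2 hp hr s1 s3 n1 n3
    refine ⟨mul_mem hp hr, by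
      rw [mul_assoc, ← mul_assoc r, ← c.eq, mul_assoc, s3, mul_one, s1], fun b e => ?_⟩
    obtain ⟨a, h1⟩ := h.mov p hp
    have e1 : r = p * t * v b := by rw [mul_assoc, ← e, ← mul_assoc, s1, one_mul]
    rw [e1, h.sq_v (h.D_mul h1 h.D_t) b, h.sq_t h1, s1, one_mul] at s3
    obtain ⟨b', rfl | e2⟩ := h.ker p hp (h.D_comm (h.inj a s3 ▸ h1))
    · exact n3 (b' + b) (by rw [e1, ← (h.ct b').eq, h.add, mul_assoc])
    · exact n1 b' e2
  · exact ⟨one_mem P, one_mul 1, fun b e => h.tv b (by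
      rw [← h.inv b, eq_inv_iff_mul_eq_one, ← e])⟩
  · rintro p hp
    rwa [inv_eq_of_mul_eq_one_right hp.2.1]

end AS

end Cfsg.Agent.H22.Row
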