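import Cfsg.Agent.H22.RowA
import Cfsg.Agent.H35.L3Defs
import Cfsg.Agent.H86.U3G

/-! The doubled row for `L₃(q)`: the group `P`. -/

set_option autoImplicit false
set_option linter.unusedSectionVars false

namespace Cfsg.Agent.H22.Row

open Cfsg Cfsg.Agent.H63 Cfsg.Agent.H63.SL Cfsg.Agent.H35.L3 Subgroup
open scoped commutatorElement

universe u v

variable {F : Type v} [Field F] {G : Type u} [Group G] [Finite G] {L : Subgroup G}
  {x : Fin 3 → Fin 3 → F → G} {t : G}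

/-- The coordinates on the row. -/
def vv (x : Fin 3 → Fin 3 → F → G) (w : F × F) : G := x 0 1 w.1 * x 0 2 w.2

/-- The elements of odd order of `C(L) ⊓ C(t)`. -/
def O0 (L : Subgroup G) (t k : G) : Prop := k ∈ C[L] ∧ Commute k t ∧ Odd (orderOf k)

/-- The standing hypotheses. -/
structure St (L : Subgroup G) (x : Fin 3 → Fin 3 → F → G) (t : G) : Prop where
  m : M3 L x
  pin : Pin3 x
  ka : KA L x
  tc : Tc L t
  r2 : R2 L t
  s3 : Start3 x t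

/-- The group `P`. -/
structure PS (L : Subgroup G) (x : Fin 3 → Fin 3 → F → G) (t : G) (P : Subgroup G) : Prop where
  as : AS (vv x) t P
  conj : ∀ s ∈ L, s ∈ N[Row x 0] → ∀ p ∈ P, s * p * s⁻¹ ∈ P
  odd : ∀ p ∈ P, ∀ k, O0 L t k → Commute p k
  dec : ∀ g a, D (vv x) t g a → ∃ p ∈ P, D (vv x) t p a ∧ ∀ l ∈ L, Commute g l → Commute p l
  two : ∀ g a, D (vv x) t g a → g * g = 1 → g ∈ P

namespace St

variable (h : St L x t)
include h

theorem xL {i j : Fin 3} (hij : i ≠ j) (a : F) : x i j a ∈ L :=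
  h.m.gen ▸ subset_closure ⟨i, j, hij, a, rfl⟩

theorem tL {l : G} (hl : l ∈ L) : Commute l t := h.tc.tc l hl

theorem x0 {i j : Fin 3} (hij : i ≠ j) : x i j 0 = 1 := by
  have := h.m.st.add i j hij 0 0
  rw [add_zero] at this
  exact left_eq_mul.1 this

theorem add_self (a : F) : a + a = 0 := by rw [← two_mul, h.m.st.two, zero_mul]

theorem x_inv {i j : Fin 3} (hij : i ≠ j) (a : F) : (x i j a)⁻¹ = x i j a :=
  inv_eq_of_mul_eq_one_right (by rw [← h.m.st.add i j hij, h.add_self, h.x0 hij])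

theorem vL (w : F × F) : vv x w ∈ L := mul_mem (h.xL (by decide) _) (h.xL (by decide) _)

theorem v_a (r : F) : vv x (r, 0) = x 0 1 r := by rw [vv, h.x0 (by decide), mul_one]

theorem v_c (e : F) : vv x (0, e) = x 0 2 e := by rw [vv, h.x0 (by decide), one_mul]

theorem av : AV (vv x) t where
  add a b := by
    simp only [vv, Prod.fst_add, Prod.snd_add, h.m.st.add 0 1 (by decide),
      h.m.st.add 0 2 (by decide), mul_assoc]
    rw [← mul_assoc (x 0 1 b.1), (h.m.st.row 0 1 2 (by decide) (by decide) _ _).eq, mul_assoc]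
  inj a e := by
    have := h.pin.uniq 0 1 2 (by decide) (by decide) (by decide) a.1 0 a.2 0 0 0 (by
      rw [h.x0 (i := 1) (by decide), h.x0 (i := 0) (j := 1) (by decide),
        h.x0 (i := 0) (j := 2) (by decide), mul_one, mul_one, mul_one]
      exact e)
    exact Prod.ext this.1 this.2.2
  two a := Prod.ext (h.add_self _) (h.add_self _)
  tt := by rw [← pow_two, ← h.tc.t2, pow_orderOf_eq_one]
  tv a e := h.ka.tn t h.tc (e ▸ h.vL a)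
  ct a := (h.tL (h.vL a)).symm

theorem memV {g : G} : g ∈ Row x 0 ↔ ∃ w, g = vv x w := by
  rw [h.pin.memR 0 1 2 (by decide) (by decide) (by decide)]
  exact ⟨fun ⟨a, b, e⟩ => ⟨(a, b), e⟩, fun ⟨w, e⟩ => ⟨w.1, w.2, e⟩⟩

theorem memCV {g : G} : g ∈ C[Row x 0] ↔ ∀ w, Commute g (vv x w) :=
  ⟨fun hg w => (hg _ (h.memV.2 ⟨w, rfl⟩)).symm, fun hg y hy => by
    obtain ⟨w, rfl⟩ := h.memV.1 hy
    exact (hg w).symm⟩

theorem memCY {i j k : Fin 3} (h1 : i ≠ j) (h2 : j ≠ k) (h3 : i ≠ k) {g : G} :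
    g ∈ C[Y3 x i k] ↔
      (∀ a, Commute g (x i j a)) ∧ (∀ a, Commute g (x j k a)) ∧ ∀ a, Commute g (x i k a) := by
  have e := h.pin.memY i j k h1 h2 h3
  refine ⟨fun hg => ⟨fun a => (hg _ ((e _).2 ⟨a, 0, 0, ?_⟩)).symm,
    fun a => (hg _ ((e _).2 ⟨0, a, 0, ?_⟩)).symm, fun a => (hg _ ((e _).2 ⟨0, 0, a, ?_⟩)).symm⟩,
    fun hg y hy => ?_⟩
  · rw [h.x0 h2, h.x0 h3, mul_one, mul_one]
  · rw [h.x0 h1, h.x0 h3, mul_one, one_mul]
  · rw [h.x0 h1, h.x0 h2, one_mul, one_mul]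
  · obtain ⟨a, b, c, rfl⟩ := (e y).1 hy
    exact (((hg.1 a).mul_right (hg.2.1 b)).mul_right (hg.2.2 c)).symm

theorem memC2 {g : G} :
    g ∈ C[Y3 x 0 2] ↔ (∀ w, Commute g (vv x w)) ∧ ∀ s, Commute g (x 1 2 s) := by
  rw [h.memCY (j := 1) (by decide) (by decide) (by decide)]
  exact ⟨fun ⟨a, b, c⟩ => ⟨fun w => (a _).mul_right (c _), b⟩,
    fun ⟨a, b⟩ => ⟨fun r => h.v_a r ▸ a _, b, fun r => h.v_c r ▸ a _⟩⟩

theorem memC1 {g : G} :
    g ∈ C[Y3 x 0 1] ↔ (∀ w, Commute g (vv x w)) ∧ ∀ s, Commute g (x 2 1 s) := by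
  rw [h.memCY (j := 2) (by decide) (by decide) (by decide)]
  exact ⟨fun ⟨a, b, c⟩ => ⟨fun w => (c _).mul_right (a _), b⟩,
    fun ⟨a, b⟩ => ⟨fun r => h.v_c r ▸ a _, b, fun r => h.v_a r ▸ a _⟩⟩

theorem norm_of {s : G} {φ : F × F → F × F} (hs : ∀ w, s * vv x w * s⁻¹ = vv x (φ w)) :
    s ∈ N[Row x 0] :=
  mem_normalizer_fintype fun y hy => by
    obtain ⟨w, rfl⟩ := h.memV.1 hy
    exact h.memV.2 ⟨_, hs w⟩

theorem b_act (s : F) (w : F × F) :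
    x 1 2 s * vv x w * (x 1 2 s)⁻¹ = vv x (w.1, w.2 + w.1 * s) := by
  have e1 := h.m.st.rel 0 1 2 (by decide) (by decide) (by decide) w.1 s
  have c1 := h.m.st.col 1 0 2 (by decide) (by decide) s w.2
  rw [commutatorElement_def, h.x_inv (i := 0) (by decide)] at e1
  rw [vv, vv, add_comm, h.m.st.add 0 2 (by decide), ← e1, mul_assoc, mul_assoc, c1.inv_left.eq.symm]
  simp only [← mul_assoc]
  rw [← h.m.st.add 0 1 (by decide), h.add_self, h.x0 (by decide), one_mul]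

theorem n_act (w : F × F) : n3 x 1 2 * vv x w * (n3 x 1 2)⁻¹ = vv x (w.2, w.1) := by
  have e1 := h.pin.nn 1 2 (by decide) 0 1 (by decide) w.1
  have e2 := h.pin.nn 1 2 (by decide) 0 2 (by decide) w.2
  rw [show Equiv.swap (1 : Fin 3) 2 0 = 0 by decide] at e1 e2
  rw [Equiv.swap_apply_left] at e1
  rw [Equiv.swap_apply_right] at e2
  rw [vv, vv, (h.m.st.row 0 1 2 (by decide) (by decide) _ _).eq (a := x 0 1 w.2), ← e1, ← e2]
  group

theorem nL : n3 x 1 2 ∈ L :=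
  mul_mem (mul_mem (h.xL (by decide) _) (h.xL (by decide) _)) (h.xL (by decide) _)

theorem tor {l : F} (hl : l ≠ 0) : ∃ s ∈ L, (∀ w, s * vv x w * s⁻¹ = vv x (l * l * w.1, l * w.2)) ∧
    ∀ a, s * x 1 2 (l * a) * s⁻¹ = x 1 2 a := by
  obtain ⟨s, h1, h2⟩ := h.pin.tor ![Units.mk0 l hl, (Units.mk0 l hl)⁻¹, 1] (by simp)
  refine ⟨s, h.m.gen ▸ h1, fun w => ?_, fun a => ?_⟩
  · have e1 := h2 0 1 (by decide) w.1
    have e2 := h2 0 2 (by decide) w.2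
    simp at e1 e2
    rw [vv, vv, ← e1, ← e2]
    group
  · have e1 := h2 1 2 (by decide) (l * a)
    simpa [hl] using e1

theorem D_conj {s : G} (hs : s ∈ L) (hn : s ∈ N[Row x 0]) {g : G} {a a' : F × F}
    (h1 : D (vv x) t g a) (e : s * vv x a * s⁻¹ = vv x a') : D (vv x) t (s * g * s⁻¹) a' := by
  constructor
  · intro b
    obtain ⟨w, hw⟩ := h.memV.1 ((mem_normalizer_iff.1 (inv_mem hn) _).1 (h.memV.2 ⟨b, rfl⟩))
    have := (h1.1 w).conj s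
    rwa [← hw, show s * (s⁻¹ * vv x b * s⁻¹⁻¹) * s⁻¹ = vv x b by group] at this
  · calc s * g * s⁻¹ * t * (s * g * s⁻¹)⁻¹ = s * (g * (s⁻¹ * t * s⁻¹⁻¹) * g⁻¹) * s⁻¹ := by group
      _ = s * t * s⁻¹ * (s * vv x a * s⁻¹) := by
        rw [conj_of_comm (h.tL (inv_mem hs)), h1.2]; group
      _ = _ := by rw [conj_of_comm (h.tL hs), e]

theorem ontoC (e : F) : ∃ g, D (vv x) t g (0, e) ∧ ∀ s, Commute g (x 1 2 s) := by
  by_cases he : e = 0
  · subst he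
    exact ⟨1, h.av.D_one, fun _ => Commute.one_left _⟩
  obtain ⟨p, h1, c, hc, h2⟩ := h.s3
  obtain ⟨h3, h4⟩ := h.memC2.1 h1
  obtain ⟨s, s1, s2, s3⟩ := h.tor (div_ne_zero he hc)
  refine ⟨s * p * s⁻¹, h.D_conj s1 (h.norm_of s2) (a := (0, c)) ⟨h3, h.v_c c ▸ h2⟩ ?_,
    fun a => s3 a ▸ (h4 _).conj s⟩
  rw [s2, mul_zero, div_mul_cancel₀ _ hc]

theorem ontoA (r : F) : ∃ g, D (vv x) t g (r, 0) ∧ ∀ s, Commute g (x 2 1 s) := by
  obtain ⟨g, h1, h2⟩ := h.ontoC r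
  refine ⟨_, h.D_conj h.nL (h.norm_of h.n_act) h1 (h.n_act _), fun s => ?_⟩
  have e := h.pin.nn 1 2 (by decide) 1 2 (by decide) s
  rw [Equiv.swap_apply_left, Equiv.swap_apply_right] at e
  exact e ▸ (h2 s).conj _

theorem D_K {k : G} (hk : k ∈ C[L]) (hc : Commute k t) : D (vv x) t k 0 :=
  h.av.D_of_comm (fun b => (hk _ (h.vL b)).symm) hc

theorem ker0 {g : G} (h1 : D (vv x) t g 0) :
    ∃ w, ∃ k ∈ C[L], Commute k t ∧ g = vv x w * k := by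
  have c := h.av.D_comm h1
  obtain ⟨y, hy, k, hk, rfl⟩ := h.ka.c1 0 g (h.tc.cN (mem_centralizer_singleton_iff.2 c))
    (h.memCV.2 h1.1)
  obtain ⟨w, rfl⟩ := h.memV.1 hy
  exact ⟨w, k, hk, by simpa using (h.av.ct w).symm.inv_left.mul_left c, rfl⟩

theorem odd_mem {g : G} {a : F × F} (h1 : D (vv x) t g a) (ho : Odd (orderOf g)) : O0 L t g := by
  have h2 := h.av.D_odd h1 ho
  rw [pow_orderOf_eq_one] at h2
  obtain rfl := h.av.D_uniq h2 h.av.D_one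
  obtain ⟨w, k, hk, -, e⟩ := h.ker0 h1
  have h3 := pow_orderOf_eq_one g
  have c : Commute (vv x w) k := hk _ (h.vL w)
  refine ⟨?_, h.av.D_comm h1, ho⟩
  generalize orderOf g = m at ho h3
  rw [e, c.mul_pow, H86.U3.odd_pow_of_sq (h.av.sq w) ho, mul_eq_one_iff_eq_inv] at h3
  rw [e, h3]
  exact mul_mem (inv_mem (pow_mem hk _)) hk

/-- The elements of `DV` centralizing `O0`. -/
def C1 : Subgroup G where
  carrier := {g | (∃ a, D (vv x) t g a) ∧ ∀ k, O0 L t k → Commute g k}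
  one_mem' := ⟨⟨0, h.av.D_one⟩, fun _ _ => Commute.one_left _⟩
  mul_mem' := fun ⟨⟨_, a⟩, b⟩ ⟨⟨_, c⟩, d⟩ =>
    ⟨⟨_, h.av.D_mul a c⟩, fun k hk => (b k hk).mul_left (d k hk)⟩
  inv_mem' := fun ⟨⟨_, a⟩, b⟩ => ⟨⟨_, h.av.D_inv a⟩, fun k hk => (b k hk).inv_left⟩

theorem C1_conj {s : G} (hs : s ∈ L) (hn : s ∈ N[Row x 0]) {g : G} (hg : g ∈ h.C1) :
    s * g * s⁻¹ ∈ h.C1 := by
  obtain ⟨⟨a, h1⟩, h2⟩ := hg
  obtain ⟨w, hw⟩ := h.memV.1 ((mem_normalizer_iff.1 hn _).1 (h.memV.2 ⟨a, rfl⟩))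
  refine ⟨⟨w, h.D_conj hs hn h1 hw⟩, fun k hk => ?_⟩
  have c : Commute s k := hk.1 s hs
  exact (c.mul_left (h2 k hk)).mul_left c.inv_left

theorem y_D {p : G} {r e : F} (h1 : D (vv x) t p (r, e)) (s : F) :
    D (vv x) t (p⁻¹ * (x 1 2 s * p * (x 1 2 s)⁻¹)) (0, r * s) := by
  have := h.av.D_mul (h.av.D_inv h1)
    (h.D_conj (h.xL (by decide) s) (h.norm_of (h.b_act s)) h1 (h.b_act s _))
  rwa [Prod.mk_add_mk, h.add_self, ← add_assoc, h.add_self, zero_add] at this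

theorem ontoC1 (a : F × F) : ∃ g ∈ h.C1, D (vv x) t g a := by
  have h1 : ∀ s, ∃ g ∈ h.C1, D (vv x) t g (0, s) := fun s => by
    obtain ⟨p, hp, -⟩ := h.ontoA 1
    have h2 := h.y_D hp s
    rw [one_mul] at h2
    refine ⟨_, ⟨⟨_, h2⟩, fun k hk => ?_⟩, h2⟩
    have h3 := h.odd_mem (h.av.D_mul (h.av.D_mul hp (h.D_K hk.1 hk.2.1)) (h.av.D_inv hp))
      ((MulAut.conj p).orderOf_eq k ▸ hk.2.2 :)
    have c1 : Commute (x 1 2 s) k := hk.1 _ (h.xL (by decide) s)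
    have c2 : Commute (x 1 2 s) (p * k * p⁻¹) := h3.1 _ (h.xL (by decide) s)
    rw [Commute, SemiconjBy]
    calc _ = p⁻¹ * (x 1 2 s * (p * ((x 1 2 s)⁻¹ * k * (x 1 2 s)⁻¹⁻¹) * p⁻¹) * (x 1 2 s)⁻¹) *
          (x 1 2 s * p * (x 1 2 s)⁻¹) := by group
      _ = _ := by rw [conj_of_comm c1.inv_left, conj_of_comm c2]; group
  obtain ⟨g, g1, g2⟩ := h1 a.1
  obtain ⟨g', g3, g4⟩ := h1 a.2
  refine ⟨_, mul_mem (h.C1_conj h.nL (h.norm_of h.n_act) g1) g3, ?_⟩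
  simpa using h.av.D_mul (h.D_conj h.nL (h.norm_of h.n_act) g2 (h.n_act _)) g4

theorem exists_PS : ∃ P, PS L x t P := by
  obtain ⟨P, hP⟩ := H86.U3.two_closed (N := h.C1) fun o ho h1 g hg =>
    (hg.2 o (h.odd_mem ho.1.choose_spec h1)).symm
  have i2 : ∀ g : G, g * g = 1 → ∃ n, g ^ 2 ^ n = 1 := fun g e => ⟨1, by rw [pow_one, pow_two, e]⟩
  have vP : ∀ a, vv x a ∈ P := fun a =>
    (hP _).2 ⟨⟨⟨0, h.av.D_v a⟩, fun k hk => hk.1 _ (h.vL a)⟩, i2 _ (h.av.sq a)⟩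
  have tP : t ∈ P := (hP _).2 ⟨⟨⟨0, h.av.D_t⟩, fun k hk => hk.2.1.symm⟩, i2 _ h.av.tt⟩
  have dec : ∀ g a, D (vv x) t g a → ∃ p ∈ P, ∃ k, O0 L t k ∧ g = p * k := fun g a h1 => by
    obtain ⟨g', g1, g2⟩ := h.ontoC1 a
    have h2 := h.av.D_mul (h.av.D_inv g2) h1
    rw [h.av.two] at h2
    obtain ⟨w, k, hk, c, e⟩ := h.ker0 h2
    obtain ⟨y, o, hy, ho, y2, o2, rfl⟩ := H86.U3.exists_decomp k
    have hk' := zpowers_le.2 hk
    obtain ⟨y', o', hy', ho', y3, o3, e'⟩ := H86.U3.exists_decomp g'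
    have hg' := zpowers_le.2 g1
    have o4 := h.odd_mem (hg' ho').1.choose_spec o3
    have o5 : O0 L t o := ⟨hk' ho, H86.U3.comm_of_mem_zpowers ho c, o2⟩
    have yP : y ∈ P := by
      rcases h.r2 y (hk' hy) (H86.U3.comm_of_mem_zpowers hy c) y2 with rfl | rfl
      exacts [one_mem P, tP]
    have hm := mul_mem (vP w) yP
    have c' : Commute o' o := (hg' ho').2 o o5
    refine ⟨y' * (vv x w * y), mul_mem ((hP _).2 ⟨hg' hy', y3⟩) hm, o' * o,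
      ⟨mul_mem o4.1 o5.1, o4.2.1.mul_left o5.2.1,
        (o3.mul o2).of_dvd_nat c'.orderOf_mul_dvd_mul_orderOf⟩, ?_⟩
    rw [mul_assoc, ← mul_assoc _ o', (((hP _).1 hm).1.2 o' o4).eq, mul_assoc o', ← mul_assoc y',
      ← e', mul_assoc, ← e, mul_inv_cancel_left]
  refine ⟨P, ⟨h.av, vP, tP, fun p hp => ((hP p).1 hp).1.1, fun p hp c => ?_⟩,
    fun s hs hn p hp => ?_, fun p hp => ((hP p).1 hp).1.2, fun g a h1 => ?_, fun g a h1 h2 => ?_⟩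
  · obtain ⟨a, h1⟩ := ((hP p).1 hp).1.1
    obtain ⟨w, k, hk, c', rfl⟩ := h.ker0 (h.av.D_zero h1 c ▸ h1)
    have h2 := mul_mem (inv_mem (vP w)) hp
    rw [inv_mul_cancel_left] at h2
    rcases h.r2 k hk c' ((hP k).1 h2).2 with rfl | rfl
    · exact ⟨w, Or.inl (mul_one _)⟩
    · exact ⟨w, Or.inr (h.av.ct w).eq.symm⟩
  · obtain ⟨h1, n, h2⟩ := (hP p).1 hp
    exact (hP _).2 ⟨h.C1_conj hs hn h1, n, by rw [conj_pow, h2]; group⟩
  · obtain ⟨p, hp, k, hk, rfl⟩ := dec g a h1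
    refine ⟨p, hp, ?_, fun l hl c => ?_⟩
    · simpa using h.av.D_mul h1 (h.av.D_inv (h.D_K hk.1 hk.2.1))
    · simpa using c.mul_left (Commute.inv_left (a := k) (hk.1 l hl).symm)
  · obtain ⟨p, hp, k, hk, rfl⟩ := dec g a h1
    obtain ⟨h3, n, h4⟩ := (hP p).1 hp
    have c := h3.2 k hk
    have h5 : (p * k) ^ 2 ^ (n + 1) = 1 := by rw [pow_succ', pow_mul, pow_two, h2, one_pow]
    rw [c.mul_pow, pow_succ, pow_mul, h4, one_pow, one_mul, ← pow_succ] at h5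
    rwa [H86.U3.eq_one_of_odd_of_two hk.2.2 h5, mul_one]

end St

end Cfsg.Agent.H22.Row
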