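import Cfsg.Agent.H22.RowB

/-! The doubled row for `L₃(q)`. -/

set_option autoImplicit false
set_option linter.unusedSectionVars false

namespace Cfsg.Agent.H22.Row

open Cfsg Cfsg.Agent.H63 Cfsg.Agent.H63.SL Cfsg.Agent.H35.L3 Subgroup
open scoped commutatorElement

universe u v

variable {F : Type v} [Field F] [Finite F] {G : Type u} [Group G] [Finite G] {L : Subgroup G}
  {x : Fin 3 → Fin 3 → F → G} {t : G} {P : Subgroup G}

/-- The cocycle of `p`. -/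
def yy (x : Fin 3 → Fin 3 → F → G) (p : G) (s : F) : G := p⁻¹ * (x 1 2 s * p * (x 1 2 s)⁻¹)

omit [Finite G] in
theorem conj_sq {a : G} (h : a * a = 1) (g : G) : g * a * g⁻¹ * (g * a * g⁻¹) = 1 := by
  rw [show g * a * g⁻¹ * (g * a * g⁻¹) = g * (a * a) * g⁻¹ by group, h]; group

namespace St

variable (h : St L x t)
include h

theorem third (u : F) : ∃ s : F, s ≠ 0 ∧ s ≠ u := by
  have := Fintype.ofFinite F
  obtain ⟨a, b, c, h1, h2, h3⟩ := Fintype.two_lt_card_iff.1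
    (show 2 < Fintype.card F by have := h.m.four; rw [Nat.card_eq_fintype_card] at this; omega)
  by_contra hc
  push Not at hc
  by_cases ha : a = 0
  · exact h3 ((hc b fun e => h1 (ha.trans e.symm)).trans (hc c fun e => h2 (ha.trans e.symm)).symm)
  by_cases hb : b = 0
  · exact h2 ((hc a ha).trans (hc c fun e => h3 (hb.trans e.symm)).symm)
  · exact h1 ((hc a ha).trans (hc b hb).symm)

variable (hP : PS L x t P)
include hP

theorem b_conj (s : F) {p : G} (hp : p ∈ P) : x 1 2 s * p * (x 1 2 s)⁻¹ ∈ P :=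
  hP.conj _ (h.xL (by decide) s) (h.norm_of (h.b_act s)) p hp

theorem yP {p : G} (hp : p ∈ P) (s : F) : yy x p s ∈ P := mul_mem (inv_mem hp) (h.b_conj hP s hp)

theorem ontoPC (e : F) : ∃ g ∈ P, D (vv x) t g (0, e) ∧ ∀ s, Commute g (x 1 2 s) := by
  obtain ⟨g, h1, h2⟩ := h.ontoC e
  obtain ⟨p, h3, h4, h5⟩ := hP.dec g _ h1
  exact ⟨p, h3, h4, fun s => h5 _ (h.xL (by decide) s) (h2 s)⟩

theorem ontoPA (r : F) : ∃ g ∈ P, D (vv x) t g (r, 0) ∧ ∀ s, Commute g (x 2 1 s) := by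
  obtain ⟨g, h1, h2⟩ := h.ontoA r
  obtain ⟨p, h3, h4, h5⟩ := hP.dec g _ h1
  exact ⟨p, h3, h4, fun s => h5 _ (h.xL (by decide) s) (h2 s)⟩

theorem b_on {p : G} (hp : p ∈ P) {e : F} (h1 : D (vv x) t p (0, e)) :
    ∃ f, ∀ s, x 1 2 s * p * (x 1 2 s)⁻¹ = p * vv x (0, f * s) := by
  obtain ⟨z, z1, z2, z3⟩ := h.ontoPC hP e
  have k : ∀ {z : G} (w : F × F), (∀ s, Commute z (x 1 2 s)) → ∀ s,
      x 1 2 s * (z * vv x w) * (x 1 2 s)⁻¹ = z * vv x w * vv x (0, w.1 * s) := fun {z} w c s => by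
    rw [mul_assoc z, ← h.av.add, ← mul_assoc, ← (c s).eq, mul_assoc z, mul_assoc z, h.b_act]
    congr 2
    ext <;> simp
  obtain ⟨w, rfl | rfl⟩ := hP.as.fib z1 hp z2 h1
  · exact ⟨w.1, k w z3⟩
  · exact ⟨w.1, k w fun s => (z3 s).mul_left (h.tL (h.xL (by decide) s)).symm⟩

omit hP in
theorem y_zero (p : G) : yy x p 0 = 1 := by simp [yy, h.x0 (i := 1) (j := 2) (by decide)]

omit hP in
theorem y_add (p : G) (s s' : F) :
    yy x p (s + s') = yy x p s * (x 1 2 s * yy x p s' * (x 1 2 s)⁻¹) := by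
  simp only [yy, h.m.st.add 1 2 (by decide)]
  group

theorem exists_f {p : G} (hp : p ∈ P) {r e : F} (h1 : D (vv x) t p (r, e)) : ∃ f : F → F,
    (∀ s s', x 1 2 s' * yy x p s * (x 1 2 s')⁻¹ = yy x p s * vv x (0, f s * s')) ∧
    (∀ s, yy x p s * yy x p s = vv x (0, f s * s)) ∧
    (∀ s s', B (vv x) (yy x p s) (yy x p s') (0, f s * s' + f s' * s)) ∧
    ∀ s s', f (s + s') = f s + f s' := by
  choose f hf using fun s => h.b_on hP (h.yP hP hp s) (h.y_D h1 s)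
  have e1 : ∀ s s', yy x p (s + s') = yy x p s * yy x p s' * vv x (0, f s' * s) := fun s s' => by
    rw [h.y_add, hf, mul_assoc]
  refine ⟨f, hf, fun s => ?_, fun s s' => ?_, fun s s' => ?_⟩
  · have := e1 s s
    rw [h.add_self, h.y_zero, eq_comm, mul_eq_one_iff_eq_inv, h.av.inv] at this
    exact this
  · have := (e1 s s').symm.trans (add_comm s s' ▸ e1 s' s)
    rw [← eq_mul_inv_iff_mul_eq, h.av.inv, mul_assoc, ← h.av.add] at this
    simpa [B] using this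
  · have e2 := hf (s + s') 1
    have c1 : Commute (x 1 2 1) (vv x (0, f s' * s)) := by
      rw [h.v_c]; exact h.m.st.col 1 0 2 (by decide) (by decide) _ _
    have c2 := (h.y_D h1 s').1 (0, f s * 1)
    have e3 : x 1 2 1 * yy x p (s + s') * (x 1 2 1)⁻¹ =
        yy x p (s + s') * vv x (0, (f s + f s') * 1) := by
      calc _ = (x 1 2 1 * yy x p s * (x 1 2 1)⁻¹) * (x 1 2 1 * yy x p s' * (x 1 2 1)⁻¹) *
            (x 1 2 1 * vv x (0, f s' * s) * (x 1 2 1)⁻¹) := by rw [e1]; group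
        _ = yy x p s * (vv x (0, f s * 1) * yy x p s') * vv x (0, f s' * 1) * vv x (0, f s' * s) := by
          rw [hf, hf, conj_of_comm c1]; group
        _ = _ := by
          rw [e1, ← show yy x p s' * _ = _ * yy x p s' from c2.eq]
          simp only [mul_assoc, ← h.av.add, Prod.mk_add_mk]
          rw [show f s * 1 + f s' * 1 + f s' * s = f s' * s + (f s + f s') * 1 by ring, add_zero,
            add_zero]
    simpa using h.av.v_inj (mul_left_cancel (e2.symm.trans e3))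

theorem exists_y : ∃ (y : F → G) (f : F → F), (∀ s, y s ∈ P) ∧ (∀ s, D (vv x) t (y s) (0, s)) ∧
    (∀ s, y s * y s = vv x (0, f s * s)) ∧
    (∀ s s', B (vv x) (y s) (y s') (0, f s * s' + f s' * s)) ∧ ∀ s, s ≠ 0 → f s = 0 ∨ f s = 1 := by
  obtain ⟨p, hp, h1, -⟩ := h.ontoPA hP 1
  obtain ⟨f, -, f2, f3, f4⟩ := h.exists_f hP hp h1
  have d : ∀ s, D (vv x) t (yy x p s) (0, s) := fun s => by simpa [yy] using h.y_D h1 s
  refine ⟨yy x p, f, h.yP hP hp, d, f2, f3, fun u hu => ?_⟩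
  obtain ⟨s, hs, hs'⟩ := h.third u
  have hs2 : s + u ≠ 0 := fun e => hs' (by linear_combination e - h.add_self u)
  obtain ⟨g, g1, g2, -⟩ := h.tor (div_ne_zero hs2 hs)
  have d1 := h.D_conj g1 (h.norm_of g2) (d s) (g2 _)
  rw [mul_zero, div_mul_cancel₀ _ hs] at d1
  have e1 : g * yy x p s * g⁻¹ * (g * yy x p s * g⁻¹) = vv x (0, f s * (s + u)) := by
    calc _ = g * (yy x p s * yy x p s) * g⁻¹ := by group
      _ = _ := by rw [f2, g2]; congr 2 <;> field_simp; simp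
  have e2 : f u = f s + f (s + u) := by rw [← f4, ← add_assoc, h.add_self, zero_add]
  rcases hP.as.fib_sq (h.yP hP hp _) (hP.conj g g1 (h.norm_of g2) _ (h.yP hP hp s)) (d _) d1
    with e | e <;> rw [e1, f2] at e
  · have := mul_right_cancel₀ hs2 (congrArg Prod.snd (h.av.v_inj e))
    exact Or.inl (by rw [e2, this, h.add_self])
  · rw [← h.av.add] at e
    have : f s * (s + u) = (f (s + u) + 1) * (s + u) := by
      rw [add_mul, one_mul]; exact congrArg Prod.snd (h.av.v_inj e)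
    exact Or.inr (by rw [e2, mul_right_cancel₀ hs2 this]; linear_combination h.add_self (f (s + u)))

omit hP in
theorem toZ (a : F × F) : ∃ s ∈ L, s ∈ N[Row x 0] ∧ ∃ e, s * vv x a * s⁻¹ = vv x (0, e) := by
  by_cases ha : a.1 = 0
  · exact ⟨1, one_mem L, one_mem _, a.2, by rw [← ha]; simp⟩
  refine ⟨n3 x 1 2 * x 1 2 (a.2 / a.1), mul_mem h.nL (h.xL (by decide) _),
    mul_mem (h.norm_of h.n_act) (h.norm_of (h.b_act _)), a.1, ?_⟩
  calc _ = n3 x 1 2 * (x 1 2 (a.2 / a.1) * vv x a * (x 1 2 (a.2 / a.1))⁻¹) * (n3 x 1 2)⁻¹ := by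
        group
    _ = _ := by rw [h.b_act, h.n_act, mul_div_cancel₀ _ ha, h.add_self]

theorem H1 : ∀ p ∈ P, ∀ a, D (vv x) t p a → p * p = 1 ∨ p * p = vv x a := by
  intro p hp a h1
  obtain ⟨s, s1, s2, e, s3⟩ := h.toZ a
  have d := h.D_conj s1 s2 h1 s3
  have hp' := hP.conj s s1 s2 p hp
  suffices k : s * p * s⁻¹ * (s * p * s⁻¹) = 1 ∨ s * p * s⁻¹ * (s * p * s⁻¹) = vv x (0, e) by
    rw [show s * p * s⁻¹ * (s * p * s⁻¹) = s * (p * p) * s⁻¹ by group, ← s3] at k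
    simpa using k
  by_cases he : e = 0
  · subst he
    exact Or.inl (hP.as.sq_zero hp' d)
  obtain ⟨y, f, y1, y2, y3, -, y5⟩ := h.exists_y hP
  have z : vv x (0, 0) = 1 := h.av.zero
  rcases hP.as.fib_sq (y1 e) hp' (y2 e) d with k | k <;> rcases y5 e he with k' | k' <;>
    simp [k, y3, k', z, h.av.sq]

theorem H2Z {p : G} (hp : p ∈ P) (s1 : p * p = 1) {e : F} (he : e ≠ 0) (d : D (vv x) t p (0, e)) :
    ∃ p' ∈ P, p' * p' = 1 ∧ Commute p p' ∧ ¬ Commute p' t ∧ ¬ Commute (p * p') t := by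
  classical
  obtain ⟨y, f, y1, y2, y3, y4, y5⟩ := h.exists_y hP
  have z : vv x (0, 0) = 1 := h.av.zero
  obtain ⟨τ, τ0, τ1⟩ : ∃ τ : F → G, τ 0 = 1 ∧ τ 1 = t :=
    ⟨fun i => if i = 0 then 1 else t, by simp, by simp⟩
  have k : ∀ s, s ≠ 0 → y s * τ (f s) ∈ P ∧ D (vv x) t (τ (f s)) 0 ∧
      y s * τ (f s) * (y s * τ (f s)) = 1 ∧
      ∀ g a, D (vv x) t g (0, a) → B (vv x) (τ (f s)) g (0, f s * a) := fun s hs => by
    rcases y5 s hs with e | e <;> rw [e]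
    · rw [τ0, mul_one, y3, e, zero_mul]
      exact ⟨y1 s, h.av.D_one, z, fun g a _ => by simp [B, z]⟩
    · rw [τ1, h.av.sq_t (y2 s), y3, e, one_mul]
      exact ⟨mul_mem (y1 s) hP.as.tP, h.av.D_t, h.av.sq _, fun g a d => by
        rw [one_mul]; exact h.av.B_symm (h.av.B_t d)⟩
  obtain ⟨s, hs, hs'⟩ := h.third e
  obtain ⟨a1, a2, a3, a4⟩ := k e he
  obtain ⟨b1, b2, b3, b4⟩ := k s hs
  have d1 := h.av.D_mul (y2 e) a2
  have d2 := h.av.D_mul (y2 s) b2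
  rw [add_zero] at d1 d2
  have c : Commute (y e * τ (f e)) (y s * τ (f s)) := by
    have := h.av.B_mul (h.av.B_symm (h.av.B_mul (y4 s e) (b4 _ _ (y2 e)) (b2.1 _))) (a4 _ _ d2)
      (a2.1 _)
    rw [Prod.mk_add_mk, Prod.mk_add_mk, show f s * e + f e * s + f s * e + f e * s = 0 by
      linear_combination h.add_self (f s * e + f e * s), add_zero, add_zero] at this
    exact h.av.B_comm.1 this
  obtain ⟨w, rfl⟩ := hP.as.fib_inv a1 hp d1 d (by simpa using he) a3 s1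
  refine ⟨_, b1, b3, c.mul_left (d2.1 w).symm, fun c' => hs ?_, fun c' => hs' ?_⟩
  · simpa using h.av.D_zero d2 c'
  · have : e + s = 0 := by simpa using h.av.D_zero (h.av.D_mul d d2) c'
    linear_combination this - h.add_self e

theorem H2 : ∀ p ∈ P, p * p = 1 → ¬ Commute p t →
    ∃ p' ∈ P, p' * p' = 1 ∧ Commute p p' ∧ ¬ Commute p' t ∧ ¬ Commute (p * p') t := by
  intro p hp s0 c
  obtain ⟨a, h1⟩ := hP.as.mov p hp
  obtain ⟨s, s1, s2, e, s3⟩ := h.toZ a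
  have d := h.D_conj s1 s2 h1 s3
  have ct : ∀ g, Commute (s⁻¹ * g * s⁻¹⁻¹) t ↔ Commute g t := fun g => by
    rw [← Commute.conj_iff s⁻¹ (a := g), conj_of_comm (h.tL (inv_mem s1))]
  obtain ⟨p', p1, p2, p3, p4, p5⟩ := h.H2Z hP (hP.conj s s1 s2 p hp) (e := e)
    (conj_sq s0 s) (by
      rintro rfl
      exact c (by simpa [mul_assoc] using (ct _).2 (h.av.D_comm d))) d
  refine ⟨_, hP.conj _ (inv_mem s1) (inv_mem s2) p' p1, conj_sq p2 _, ?_,
    fun e => p4 ((ct _).1 e), fun e => p5 ((ct _).1 (by simpa [mul_assoc] using e))⟩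
  simpa [mul_assoc] using p3.conj s⁻¹

theorem hatRow : ∃ W, HatRow L x t W := by
  obtain ⟨W, hW⟩ := hP.as.exists_W (h.H1 hP) (h.H2 hP)
  have vW : ∀ a, vv x a ∈ W := fun a => (hW _).2 ⟨hP.as.vP a, h.av.sq a, fun b e => h.av.tv (a + b)
    (by rw [h.av.add, e, mul_assoc, h.av.sq, mul_one])⟩
  have fix : ∀ p ∈ W, Commute p t → ∃ a, p = vv x a := fun p hp c => by
    obtain ⟨h1, -, h3⟩ := (hW p).1 hp
    obtain ⟨a, e | e⟩ := hP.as.ker p h1 c
    exacts [⟨a, e⟩, absurd e (h3 a)]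
  have lift : ∀ g ∈ P, ∀ a, D (vv x) t g a → ∃ p ∈ W, D (vv x) t p a ∧
      ∀ l ∈ L, Commute g l → Commute p l := fun g hg a d => by
    by_cases ha : a = 0
    · exact ⟨1, one_mem W, ha ▸ h.av.D_one, fun _ _ _ => Commute.one_left _⟩
    obtain ⟨p, h1, h2, h3, h4⟩ := hP.as.exists_inv (h.H1 hP) hg d
    refine ⟨p, (hW p).2 ⟨h1, h3, ?_⟩, h2, fun l hl c => ?_⟩
    · rintro b rfl
      exact ha (h.av.D_zero h2 ((Commute.refl t).mul_left (h.av.ct b).symm))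
    · rcases h4 with rfl | rfl
      exacts [c, c.mul_left (h.tL hl).symm]
  have lA : ∀ r, ∃ p ∈ W ⊓ C[Y3 x 0 1], D (vv x) t p (r, 0) := fun r => by
    obtain ⟨g, h1, h2, h3⟩ := h.ontoPA hP r
    obtain ⟨p, h4, h5, h6⟩ := lift g h1 _ h2
    exact ⟨p, ⟨h4, h.memC1.2 ⟨h5.1, fun s => h6 _ (h.xL (by decide) s) (h3 s)⟩⟩, h5⟩
  have lC : ∀ r, ∃ p ∈ W ⊓ C[Y3 x 0 2], D (vv x) t p (0, r) := fun r => by
    obtain ⟨g, h1, h2, h3⟩ := h.ontoPC hP r
    obtain ⟨p, h4, h5, h6⟩ := lift g h1 _ h2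
    exact ⟨p, ⟨h4, h.memC2.2 ⟨h5.1, fun s => h6 _ (h.xL (by decide) s) (h3 s)⟩⟩, h5⟩
  refine ⟨W, fun y hy => ?_, fun p hp => ((hW p).1 hp).2.1, fun p hp => ?_, fun y hy => ?_,
    fun p hp c => h.memV.2 (fix p hp c),
    fun k hk c o p hp => hP.odd p ((hW p).1 hp).1 k ⟨hk, c, o⟩, fun p h1 h2 h3 => ?_,
    fun p hp _ s => ?_, fun p hp => ?_⟩
  · obtain ⟨a, rfl⟩ := h.memV.1 hy
    exact vW a
  · obtain ⟨a, d⟩ := hP.as.mov p ((hW p).1 hp).1
    exact h.memV.2 ⟨a, by rw [d.2, inv_mul_cancel_left]⟩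
  · obtain ⟨a, rfl⟩ := h.memV.1 hy
    obtain ⟨p, h1, h2⟩ := lA a.1
    obtain ⟨p', h3, h4⟩ := lC a.2
    exact ⟨_, mul_mem h1.1 h3.1, by simpa using (h.av.D_mul h2 h4).2⟩
  · obtain ⟨a, e⟩ := h.memV.1 h3
    have h4 := hP.two p a ⟨h.memCV.1 h1, by rw [← e, mul_inv_cancel_left]⟩ h2
    by_cases h5 : ∀ b, p ≠ t * vv x b
    · exact Or.inl ((hW p).2 ⟨h4, h2, h5⟩)
    · push Not at h5
      obtain ⟨b, rfl⟩ := h5
      exact Or.inr (h.memV.2 ⟨b, inv_mul_cancel_left _ _⟩)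
  · obtain ⟨h1, h2, h3⟩ := (hW p).1 hp
    obtain ⟨a, d⟩ := hP.as.mov p h1
    obtain ⟨f, f1, f2, -⟩ := h.exists_f hP h1 (r := a.1) (e := a.2) d
    have e : ⁅p, x 1 2 s⁆ = yy x p s := by
      rw [yy, commutatorElement_def, inv_eq_of_mul_eq_one_right h2]; group
    have hy : yy x p s ∈ W := mul_mem (inv_mem hp) ((hW _).2 ⟨h.b_conj hP s h1,
      conj_sq h2 _, fun b e => h3 (b.1, b.2 + b.1 * s) (by
        rw [← h.b_act, ← mul_assoc, ← mul_assoc, ← (h.tL (h.xL (by decide) s)).eq, mul_assoc _ t,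
          ← e, h.x_inv (by decide)]
        simp only [← mul_assoc]
        rw [mul_assoc _ (x 1 2 s) (x 1 2 s), ← h.m.st.add 1 2 (by decide), h.add_self,
          h.x0 (by decide), one_mul, mul_one])⟩)
    have h4 : f s * s = 0 := congrArg Prod.snd (h.av.inj _ ((f2 s).symm.trans ((hW _).1 hy).2.1))
    rw [e]
    rcases mul_eq_zero.1 h4 with h5 | rfl
    · refine h.memC2.2 ⟨(h.y_D (r := a.1) (e := a.2) d s).1, fun s' => ?_⟩
      have := f1 s s'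
      rw [h5, zero_mul, show vv x (0, 0) = 1 from h.av.zero, mul_one,
        mul_inv_eq_iff_eq_mul] at this
      exact this.symm
    · rw [h.y_zero]; exact one_mem _
  · obtain ⟨a, d⟩ := hP.as.mov p ((hW p).1 hp).1
    obtain ⟨p1, h1, h2⟩ := lA a.1
    obtain ⟨p2, h3, h4⟩ := lC a.2
    have d' := h.av.D_mul (h.av.D_inv (h.av.D_mul h2 h4)) d
    rw [show (a.1, (0 : F)) + ((0 : F), a.2) = a by simp, h.av.two] at d'
    obtain ⟨b, e⟩ := fix _ (mul_mem (inv_mem (mul_mem h1.1 h3.1)) hp) (h.av.D_comm d')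
    refine ⟨p1 * vv x (b.1, 0), mul_mem h1 ⟨vW _, h.memC1.2 ⟨h.av.cv _, fun s => ?_⟩⟩,
      p2 * vv x (0, b.2), mul_mem h3 ⟨vW _, h.memC2.2 ⟨h.av.cv _, fun s => ?_⟩⟩, ?_⟩
    · rw [h.v_a]; exact h.m.st.col 0 2 1 (by decide) (by decide) _ _
    · rw [h.v_c]; exact h.m.st.col 0 1 2 (by decide) (by decide) _ _
    · rw [mul_assoc, ← mul_assoc (vv x _), ← (h4.1 _).eq, mul_assoc p2, ← h.av.add, Prod.mk_add_mk,
        add_zero, zero_add, ← e, ← mul_assoc, mul_inv_cancel_left]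

end St

theorem row (hp : PinStmt3.{u, v}) (hk : KAStmt.{u, v}) : RowStmt.{u, v} := by
  intro F _ _ G _ _ L x m t tc r2 s3
  have h : St L x t := ⟨m, hp x m.st, hk L x m, tc, r2, s3⟩
  obtain ⟨P, hP⟩ := h.exists_PS
  exact h.hatRow hP

end Cfsg.Agent.H22.Row
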