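import Cfsg.Agent.H46.UDefs
import Cfsg.Agent.H20.HomoSyl

/-! A group with an abelian Sylow `2`-subgroup of rank two and exponent at least four has no
subgroup `A₅`. -/

set_option autoImplicit false

namespace Cfsg.Agent.H22.S94Hc

open Subgroup Cfsg.Agent.H46.S94 Cfsg.Agent.H8

universe u

theorem a5_sq : ∀ g : Equiv.Perm (Fin 5), Equiv.Perm.sign g = 1 → g ^ 4 = 1 → g * g = 1 := by
  decide +kernel

theorem hc : HCStmt.{u} := by
  intro X _ _ σ Λ Z T ⟨e⟩ ZL cZ sL so _ hT ab ZT _ om ⟨x, xT, x4⟩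
  have : Fact (Nat.Prime 2) := ⟨Nat.prime_two⟩
  have sim : IsSimpleGroup Λ := e.isSimpleGroup
  have dich : ∀ K : Subgroup X, K.Normal → ∀ y ∈ Λ, y ∈ K → y = 1 ∨ Λ ≤ K := fun K _ y h1 h2 =>
    (sim.eq_bot_or_eq_top_of_normal (K.subgroupOf Λ) inferInstance).imp
      (fun k => mem_bot.1 ((subgroupOf_eq_bot.1 k).le_bot ⟨h2, h1⟩)) subgroupOf_eq_top.1
  have z2 : ∀ z ∈ Z, z * z = 1 := fun z hz => by
    have k : (⟨z, ZL hz⟩ : Λ) ^ 4 = 1 := Subtype.ext (by
      simpa [cZ] using congrArg Subtype.val (pow_card_eq_one' (x := (⟨z, hz⟩ : Z))))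
    have k1 := a5_sq (e ⟨z, ZL hz⟩) (e ⟨z, ZL hz⟩).2 (by
      rw [← coe_pow, ← map_pow, k, map_one, coe_one])
    rw [← coe_mul, ← map_mul, OneMemClass.coe_eq_one, map_eq_one_iff _ e.injective] at k1
    exact congrArg Subtype.val k1
  let π := QuotientGroup.mk' (pPrimeCore 2 X)
  have cO := H3.pPrimeCore_coprime 2 X
  have ker : ∀ y ∈ T, π y = 1 → y = 1 := fun y hy h => by
    obtain ⟨k, hk⟩ := IsPGroup.iff_orderOf.1 hT.isPGroup ⟨y, hy⟩
    rw [orderOf_mk] at hk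
    have k1 := (pPrimeCore 2 X).orderOf_dvd_natCard ((QuotientGroup.eq_one_iff y).1 h)
    exact orderOf_eq_one_iff.1 (Nat.eq_one_of_dvd_coprimes (cO.pow_right k) k1 hk.dvd)
  have inj : ∀ y ∈ T, ∀ w ∈ T, π y = π w → y = w := fun y hy w hw h =>
    mul_inv_eq_one.1 (ker _ (mul_mem hy (inv_mem hw)) (by rw [map_mul, map_inv, h, mul_inv_cancel]))
  have hS := hT.map π
  rw [map_top_of_surjective _ (QuotientGroup.mk'_surjective _)] at hS
  have nS : (T.map π).Normal := H20.normal_of_three_invols _ hS.toSylowTop le_rfl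
    (by
      rintro ⟨_, a, ha, rfl⟩ ⟨_, b, hb, rfl⟩
      exact Subtype.ext (by simpa using congrArg π (ab a ha b hb)))
    (by
      have k : ((Z : Set X) \ {1}).ncard = 3 := by
        rw [Set.ncard_sdiff_singleton_of_mem (one_mem Z), ← Nat.card_coe_set_eq]
        exact congrArg (· - 1) cZ
      rw [← k, ← Nat.card_coe_set_eq]
      refine (Nat.card_eq_of_bijective (fun z => ⟨⟨π z.1, mem_map_of_mem π (ZT z.2.1)⟩,
        orderOf_eq_prime (Subtype.ext (by
          change π z.1 ^ 2 = 1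
          rw [← map_pow, pow_two, z2 _ z.2.1, map_one]))
          fun h => z.2.2 (ker _ (ZT z.2.1) (congrArg Subtype.val h))⟩) ⟨fun z w h => Subtype.ext
        (inj _ (ZT z.2.1) _ (ZT w.2.1) (congrArg (·.1.1) h)), ?_⟩).symm
      rintro ⟨⟨_, y, hy, rfl⟩, h⟩
      have h' : orderOf (π y) = 2 := (orderOf_coe _).trans h
      refine ⟨⟨y, om y hy (ker _ (mul_mem hy hy) ?_), ?_⟩, rfl⟩
      · rw [map_mul, ← pow_two]
        exact orderOf_dvd_iff_pow_eq_one.1 h'.dvd
      · rintro rfl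
        simp at h')
    (by
      have k : Nat.card T ≤ Nat.card (T.map π) := Nat.card_le_card_of_injective (π.subgroupMap T)
        fun a b h => Subtype.ext (inj _ a.2 _ b.2 (congrArg Subtype.val h))
      refine lt_of_lt_of_le (not_le.1 fun c => ?_) k
      have k1 := orderOf_dvd_of_pow_eq_one ((pow_two x).trans
        (z2 x ((eq_of_le_of_card_ge ZT (cZ ▸ c)).ge xT)))
      rw [x4] at k1
      omega)
    (H3.pPrimeCore_quotient_pPrimeCore 2 X)
  obtain ⟨z, hz, z1⟩ := (bot_or_exists_ne_one Z).resolve_left fun k => by simp [k] at cZ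
  have k1 : π σ ∈ T.map π := (dich _ (nS.comap π) z (ZL hz) (mem_map_of_mem π (ZT hz))).resolve_left z1 sL
  obtain ⟨k, hk⟩ := IsPGroup.iff_orderOf.1 hS.isPGroup ⟨_, k1⟩
  rw [orderOf_mk] at hk
  have k2 : π σ = 1 := orderOf_eq_one_iff.1 (Nat.eq_one_of_dvd_coprimes
    (Nat.Coprime.pow_right k (show Nat.Coprime 3 2 by norm_num)) (so ▸ orderOf_map_dvd π σ) hk.dvd)
  rcases dich (pPrimeCore 2 X) inferInstance σ sL ((QuotientGroup.eq_one_iff σ).1 k2) with k3 | k3
  · simp [k3] at so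
  · exact z1 (ker z (ZT hz) ((QuotientGroup.eq_one_iff z).2 (k3 (ZL hz))))

end Cfsg.Agent.H22.S94Hc
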