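import Cfsg.Agent.H6.TIDefs
import Cfsg.Agent.H40.AAa
import Cfsg.Agent.H49.XSDual
import Cfsg.Agent.H83.Misc

/-! The extraspecial group in the centralizer of an element of a point. -/

set_option autoImplicit false
set_option linter.unusedSectionVars false

namespace Cfsg.Agent.H22.TIQD

open Cfsg Subgroup Cfsg.Agent.H6.TI
open Cfsg.Agent.H83 (cj mem_cj conj_mem_cj centMod mem_centMod)
open Cfsg.Agent.H49 (XS mem_zpowers_invol)
open scoped Cfsg.Agent.H63 commutatorElement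

universe u

variable {G : Type u} [Group G] [Finite G] {Ω : Set (Subgroup G)} {K A B B' : Subgroup G} {z : G}

theorem nz (z : G) : C1[z] ≤ N[zpowers z] :=
  H83.le_norm_of_le_cent fun x hx y hy => by
    obtain ⟨k, rfl⟩ := hy
    exact ((show Commute x z from mem_centralizer_singleton_iff.1 hx).zpow_right k).eq.symm

/-- The group `Q`. -/
def QQ (A : Subgroup G) (z : G) : Subgroup G := centMod C1[z] A (zpowers z) (nz z)

theorem mem_QQ {x : G} : x ∈ QQ A z ↔ x ∈ C1[z] ∧ ∀ a ∈ A, ⁅a, x⁆ ∈ zpowers z := Iff.rfl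

theorem cmul (a b x : G) : ⁅a * b, x⁆ = a * ⁅b, x⁆ * a⁻¹ * ⁅a, x⁆ := by
  simp only [commutatorElement_def]; group

theorem idx2 {H : Subgroup G} (h : H.relIndex A = 2) {a b : G} (ha : a ∈ A) (hb : b ∈ A)
    (ha' : a ∉ H) (hb' : b ∉ H) : a * b ∈ H :=
  (mul_mem_iff_of_index_two (H := H.subgroupOf A) h (a := ⟨a, ha⟩) (b := ⟨b, hb⟩)).2
    (iff_of_false ha' hb')

/-- The local data. -/
structure Cx (Ω : Set (Subgroup G)) (K A : Subgroup G) (z : G) : Prop extends C3 Ω K where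
  qa : QA Ω
  mA : A ∈ Ω
  z0 : zc Ω A = ⊥
  cA : C[A] ≤ A
  zA : z ∈ A
  z1 : z ≠ 1
  big : ¬ A ≤ zpowers z

namespace Cx

variable (c : Cx Ω K A z)
include c

theorem zz : z * z = 1 := c.sq A c.mA z c.zA

theorem ax2 {H : Subgroup G} (h1 : H ≤ A) (h2 : H.relIndex A = 2) : ∃ B, Mn Ω A B ∧ ax A B = H :=
  c.qa.hyp A c.mA H h1 h2 (c.z0 ▸ bot_le)

theorem sep {U : Subgroup G} (hU : U ≤ A) {x : G} (hx : x ∈ A) (hx' : x ∉ U) :
    ∃ B, Mn Ω A B ∧ U ≤ ax A B ∧ x ∉ ax A B := by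
  obtain ⟨M, h1, h2, h3, h4⟩ := H40.AA.exists_index_two hU
    (fun a ha => c.sq A c.mA a ha ▸ one_mem U) hx'
  obtain ⟨B, e, rfl⟩ := c.ax2 h2 (relIndex_eq_two_iff.2 ⟨x⁻¹, inv_mem hx, fun b hb => by
    rcases h4 b hb with h | h
    · exact Or.inr ⟨h, fun k => h3 (inv_mem_iff.1 ((mul_mem_cancel_left h).1 k))⟩
    · exact Or.inl ⟨h, fun k => h3 (inv_mem_iff.1 ((mul_mem_cancel_left k).1 h))⟩⟩)
  exact ⟨B, e, h1, h3⟩

theorem le_QQ : A ≤ QQ A z := fun x hx =>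
  ⟨mem_centralizer_singleton_iff.2 (c.ba.mul_comm A c.mA x hx z c.zA), fun a ha => by
    rw [commutatorElement_eq_one_iff_mul_comm.2 (c.ba.mul_comm A c.mA a ha x hx)]
    exact one_mem _⟩

theorem cz : C1[z] ≤ N[A] := fun g hg =>
  c.ba.cent A c.mA z c.zA c.z1 g (mem_centralizer_singleton_iff.1 hg)

/-- transvections with centre `z` -/
theorem tv (e : Mn Ω A B) (hz : z ∈ ax A B) {a : G} (ha : a ∈ A) (ha' : a ∉ ax A B) :
    ∃ b ∈ ax B A, (∀ x ∈ A, x ∉ ax A B → ⁅x, b⁆ = z) ∧ b ∈ QQ A z := by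
  obtain ⟨b, ⟨hb, h1⟩, -⟩ := c.ba.phi e.toEd a ha ha' z hz
  have h2 : ∀ i ∈ ax A B, ⁅i, b⁆ = 1 := fun i hi =>
    commutatorElement_eq_one_iff_mul_comm.2 (c.ba.comm A e.l B e.r e.ne i hi b hb)
  have h3 : ∀ x ∈ A, x ∉ ax A B → ⁅x, b⁆ = z := fun x hx hx' => by
    have := cmul a⁻¹ (a * x) b
    rw [inv_mul_cancel_left, h2 _ (idx2 (c.q2 A B e) ha hx ha' hx'),
      inv_eq_of_mul_eq_one_right (c.sq A c.mA a ha), h1] at this
    simpa using this
  refine ⟨b, hb, h3, mem_centralizer_singleton_iff.2 (c.ba.comm A e.l B e.r e.ne z hz b hb).symm,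
    fun x hx => ?_⟩
  by_cases h4 : x ∈ ax A B
  · rw [h2 x h4]; exact one_mem _
  · rw [h3 x hx h4]; exact mem_zpowers z

theorem dec {x : G} (hx : x ∈ QQ A z) : x ∈ A ∨ ∃ B, Mn Ω A B ∧ z ∈ ax A B ∧
    ∃ b ∈ ax B A, b ∈ QQ A z ∧ ∃ a ∈ A, x = b * a := by
  refine or_iff_not_imp_left.2 fun h1 => ?_
  have h2 : ∀ a ∈ A, a ∉ C1[x] → ⁅a, x⁆ = z := fun a ha h =>
    ((mem_zpowers_invol c.zz).1 (hx.2 a ha)).resolve_left fun k =>
      h (mem_centralizer_singleton_iff.2 (commutatorElement_eq_one_iff_mul_comm.1 k))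
  obtain ⟨a, ha, ha'⟩ : ∃ a ∈ A, a ∉ C1[x] := by
    by_contra k
    push Not at k
    exact h1 (c.cA fun a ha => mem_centralizer_singleton_iff.1 (k a ha))
  obtain ⟨B, e, h3⟩ := c.ax2 (inf_le_right (a := C1[x])) (by
    rw [inf_relIndex_right]
    refine relIndex_eq_two_iff.2 ⟨a, ha, fun b hb => ?_⟩
    by_cases h : b ∈ C1[x]
    · exact Or.inr ⟨h, fun k => ha' ((mul_mem_cancel_left h).1 k)⟩
    · refine Or.inl ⟨mem_centralizer_singleton_iff.2
        (commutatorElement_eq_one_iff_mul_comm.1 ?_), h⟩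
      rw [cmul, h2 a ha ha', h2 b hb h, c.ba.mul_comm A c.mA b hb z c.zA, mul_inv_cancel_right,
        c.zz])
  have h4 : z ∈ ax A B := h3 ▸ ⟨mem_centralizer_singleton_iff.2
    (mem_centralizer_singleton_iff.1 hx.1).symm, c.zA⟩
  obtain ⟨b, hb, h5, h6⟩ := c.tv e h4 ha fun k => ha' (h3 ▸ k).1
  refine ⟨B, e, h4, b, hb, h6, b⁻¹ * x, c.cA fun y hy => ?_, by group⟩
  have h7 : ⁅y, b⁆ = ⁅y, x⁆ := by
    by_cases k : y ∈ ax A B
    · rw [commutatorElement_eq_one_iff_mul_comm.2 (c.ba.comm A e.l B e.r e.ne y k b hb),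
        commutatorElement_eq_one_iff_mul_comm.2 (mem_centralizer_singleton_iff.1 (h3 ▸ k).1)]
    · rw [h5 y hy k, h2 y hy fun k' => k (h3 ▸ ⟨k', hy⟩)]
  calc _ = b⁻¹ * ⁅y, b⁆⁻¹ * y * x := by rw [commutatorElement_def]; group
    _ = _ := by rw [h7, commutatorElement_def]; group

theorem tcomm (e : Mn Ω A B) (e' : Mn Ω A B') (hz : z ∈ ax A B) (hz' : z ∈ ax A B') {b b' : G}
    (hb : b ∈ ax B A) (hb' : b' ∈ ax B' A) (q : b ∈ QQ A z) (q' : b' ∈ QQ A z) :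
    b * b' = b' * b := by
  by_cases h : ax A B = ax A B'
  · obtain ⟨a, ha, rfl⟩ := c.ln.line e e' h
    rw [(ax_cjN (le_normalizer ha) B).2] at hb'
    exact c.ba.vcomm e.toEd b (mem_sup_right hb) b'
      (H83.cj_le_of_norm le_sup_right (c.ba.vnorm e.toEd (mem_sup_left ha)) hb')
  have k : ∀ {B b}, z ∈ ax A B → b ∈ QQ A z → b ∈ N[ax A B] := fun {B b} hz q =>
    mem_normalizer_fintype fun i hi => by
      rw [show b * i * b⁻¹ = i * ⁅i⁻¹, b⁆ * i⁻¹ * i by rw [commutatorElement_def]; group,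
        inv_mul_cancel_right]
      exact mul_mem hi (zpowers_le.2 hz (q.2 _ (inv_mem hi.1)))
  exact c.ba.comm B e.r B' e'.r (fun k => h (k ▸ rfl)) b
    ⟨hb.1, c.adj e' e (Ne.symm h) b hb (k hz' q)⟩ b' ⟨hb'.1, c.adj e e' h b' hb' (k hz q')⟩

theorem xs : XS (QQ A z) z := by
  have ca : ∀ x ∈ QQ A z, ∀ a ∈ A, ⁅x, a⁆ ∈ zpowers z := fun x hx a ha => by
    rw [← commutatorElement_inv]; exact inv_mem (hx.2 a ha)
  have nc : ∀ x ∈ A, x ∉ zpowers z → ∃ y ∈ QQ A z, x * y ≠ y * x := fun x hx hx' => by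
    obtain ⟨B, e, h1, h2⟩ := c.sep (zpowers_le.2 c.zA) hx hx'
    obtain ⟨b, -, h3, h4⟩ := c.tv e (h1 (mem_zpowers z)) hx h2
    exact ⟨b, h4, fun k => c.z1 ((h3 x hx h2).symm.trans
      (commutatorElement_eq_one_iff_mul_comm.2 k))⟩
  refine ⟨c.le_QQ c.zA, c.z1, c.zz, fun x hx => mem_centralizer_singleton_iff.1 hx.1,
    fun x hx h => ?_, fun x hx y hy => ?_, ?_⟩
  · by_contra k
    obtain ⟨y, hy, k'⟩ := nc x (c.cA fun a ha => (h a (c.le_QQ ha)).symm)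
      fun k' => k ((mem_zpowers_invol c.zz).1 k')
    exact k' (h y hy)
  · have h : ⁅x, y⁆ ∈ zpowers z := by
      rcases c.dec hy with h | ⟨B, e, hz, b, hb, q, a, ha, rfl⟩
      · exact ca x hx y h
      refine (mem_centMod.1 (mul_mem ((mem_centMod (A := QQ A z) (hN := nz z)).2 ⟨q.1, ?_⟩)
        (mem_centMod.2 ⟨(c.le_QQ ha).1, fun x hx => ca x hx a ha⟩))).2 x hx
      intro x hx
      rcases c.dec hx with h | ⟨B', e', hz', b', hb', q', a', ha', rfl⟩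
      · exact q.2 x h
      rw [cmul, commutatorElement_eq_one_iff_mul_comm.2 (c.tcomm e' e hz' hz hb' hb q' q), mul_one]
      exact H83.conj_mem (nz z) q'.1 (q.2 a' ha')
    have h1 : x * y = ⁅x, y⁆ * (y * x) := by rw [commutatorElement_def]; group
    rcases (mem_zpowers_invol c.zz).1 h with k | k
    · exact Or.inl (by rw [h1, k, one_mul])
    · exact Or.inr (by rw [h1, k, mem_centralizer_singleton_iff.1 (mul_mem hy.1 hx.1)])
  · obtain ⟨x, hx, hx'⟩ := SetLike.not_le_iff_exists.1 c.big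
    exact ⟨x, c.le_QQ hx, nc x hx hx'⟩

theorem trn {a a' : G} (ha : a ∈ A) (h1 : a ∉ zpowers z) (ha' : a' ∈ A) (h2 : a' ∉ zpowers z) :
    ∃ j ∈ C1[z], j * a * j⁻¹ = a' := by
  have sa := c.sq A c.mA a ha
  have haa := mul_mem ha ha'
  obtain ⟨B, e, h3, h4⟩ := c.sep (U := zpowers z ⊔ zpowers (a * a'))
    (sup_le (zpowers_le.2 c.zA) (zpowers_le.2 haa)) ha (by
      intro k
      obtain ⟨x, hx, y, hy, k⟩ := (H83.mem_sup_right_norm (H83.le_norm_of_le_cent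
        fun x hx y hy => c.ba.mul_comm A c.mA y (zpowers_le.2 haa hy) x (zpowers_le.2 c.zA hx))).1 k
      rcases (mem_zpowers_invol (c.sq A c.mA _ haa)).1 hy with rfl | rfl
      · exact h1 (by rwa [← k, mul_one])
      · rw [← mul_assoc, c.ba.mul_comm A c.mA x (zpowers_le.2 c.zA hx) a ha, mul_assoc,
          mul_eq_left] at k
        exact h2 (eq_inv_of_mul_eq_one_right k ▸ inv_mem hx))
  obtain ⟨j, ⟨hj, k⟩, -⟩ := c.ba.phi e.toEd a ha h4 _ (h3 (mem_sup_right (mem_zpowers _)))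
  refine ⟨j, mem_centralizer_singleton_iff.2
    (c.ba.comm A e.l B e.r e.ne z (h3 (mem_sup_left (mem_zpowers z))) j hj).symm, ?_⟩
  rw [commutatorElement_def, inv_eq_of_mul_eq_one_right sa, mul_assoc, mul_assoc, mul_right_inj] at k
  rw [mul_assoc, k]

theorem core : (pCore 2 C1[z]).map C1[z].subtype = QQ A z := by
  have hR := H52.normalizer_le_normalizer_map_pCore (p := 2) C1[z]
  have hC : (pCore 2 C1[z]).map C1[z].subtype ≤ C1[z] := map_subtype_le _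
  refine le_antisymm (fun r hr => ⟨hC hr, fun a ha => ?_⟩) (H52.le_map_pCore_subtype
    H83.centMod_le (H83.le_norm_centMod le_normalizer c.cz (nz z)) c.xs.isPGroup)
  by_cases h : a ∈ zpowers z
  · rw [commutatorElement_def, mul_assoc, mul_assoc, ← mul_assoc r]
    exact mul_mem h (H83.conj_mem (nz z) (hC hr) (inv_mem h))
  obtain ⟨v, hv, hv', k⟩ := H83.exists_central_mod (H52.isPGroup_map_pCore_subtype (p := 2) C1[z])
    (c.ba.two A c.mA) (hC.trans c.cz) (hC.trans (nz z)) ((c.le_QQ.trans H83.centMod_le).trans (nz z))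
    (lt_of_le_not_ge (zpowers_le.2 c.zA) c.big)
  obtain ⟨j, hj, rfl⟩ := c.trn hv hv' ha h
  have k1 := H83.conj_mem (nz z) hj (inv_mem
    (k _ (mem_sup_left (H83.conj_mem' (le_normalizer.trans hR) hj hr))))
  convert k1 using 1
  simp only [commutatorElement_def]
  group

theorem nb {b : G} (h1 : b ∈ N[A]) (h2 : b ∉ A) (h3 : IsConj z b) (h4 : C1[b].relIndex A = 2) :
    ∃ P, Mn Ω A P ∧ b ∈ P ∧ ax A P = C1[b] ⊓ A := by
  obtain ⟨g, rfl⟩ := isConj_iff.1 h3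
  have hP := c.conj A c.mA g
  have hb := conj_mem_cj (g := g) c.zA
  have e : Ed Ω A (cj g A) := c.ba.symm ⟨hP, c.mA, fun k => h2 (k ▸ hb), fun k =>
    c.z1 (by simpa using mem_bot.1 (k.le ⟨hb, h1⟩))⟩
  have h5 : ax A (cj g A) = C1[g * z * g⁻¹] ⊓ A := by
    ext a
    refine ⟨fun k => ⟨mem_centralizer_singleton_iff.2 ?_, k.1⟩, fun k => ?_⟩
    · exact (c.ba.cA e a k.1 _ (mem_sup_right ⟨hb, h1⟩) h2).2 k
    · exact (c.ba.cA e a k.2 _ (mem_sup_right ⟨hb, h1⟩) h2).1 (mem_centralizer_singleton_iff.1 k.1)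
  refine ⟨_, ?_, hb, h5⟩
  by_contra k
  have := c.q4 A _ e k
  rw [qq, h5, inf_relIndex_right, h4] at this
  omega

theorem hx {b : G} (h1 : b ∈ N[A]) (h2 : b ∉ A) (h3 : IsConj z b) (h4 : C1[b].relIndex A = 2)
    {a : G} (ha : a ∈ A) (h5 : IsConj z (b * a)) : ∃ a' ∈ A, a = ⁅a', b⁆ := by
  have h6 : C1[b * a] ⊓ A = C1[b] ⊓ A := by
    ext x
    simp only [mem_inf, mem_centralizer_singleton_iff]
    refine and_congr_left fun hx => ?_
    rw [mul_assoc, ← c.ba.mul_comm A c.mA x hx a ha, ← mul_assoc, ← mul_assoc, mul_left_inj]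
  obtain ⟨P, e, k1, k2⟩ := c.nb h1 h2 h3 h4
  obtain ⟨P', e', k3, k4⟩ := c.nb (mul_mem h1 (le_normalizer ha))
    (fun k => h2 ((mul_mem_cancel_right ha).1 k)) h5
    (by rw [← inf_relIndex_right, h6, inf_relIndex_right, h4])
  obtain ⟨x, hx, rfl⟩ := c.ln.line e e' (by rw [k2, k4, h6])
  have hx' := H83.conj_mem' le_rfl h1 hx
  have k5 : b⁻¹ * (x⁻¹ * (b * a) * x) = 1 := by
    refine mem_bot.1 (c.ti A e.l P e.r e.ne ▸ mem_inf.2 ⟨?_, mul_mem (inv_mem k1) (mem_cj.1 k3)⟩)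
    rw [show b⁻¹ * (x⁻¹ * (b * a) * x) = (b⁻¹ * x * b)⁻¹ * a * x by group]
    exact mul_mem (mul_mem (inv_mem hx') ha) hx
  refine ⟨_, hx', ?_⟩
  calc a = b⁻¹ * x * b * (b⁻¹ * (x⁻¹ * (b * a) * x)) * x⁻¹ := by group
    _ = _ := by rw [k5, commutatorElement_def]; group

end Cx

theorem qd : QDStmt.{u} := by
  intro G _ _ Ω K c qa h0 hc
  obtain ⟨A, C, e, e'⟩ := c.nm
  obtain ⟨h1, -, h2, ⟨k, h3⟩, -⟩ := c.ba.hq e
  rw [c.q4 A C e e', h3] at h1 h2
  have hk : 2 ≤ k := (Nat.pow_le_pow_iff_right (by norm_num : 1 < 2)).1 h2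
  have h4 : Nat.card A = 2 ^ (k + 1 + 1) := by rw [← h1]; ring
  obtain ⟨z, hz, hz1⟩ := (nontrivial_iff_exists_ne_one A).1
    (Finite.one_lt_card_iff_nontrivial.1 (by omega))
  have zz := c.sq A e.l z hz
  have x : Cx Ω K A z := ⟨c, qa, e.l, h0 A e.l, hc A e.l, hz, hz1, fun k => by
    have := card_le_of_le k
    rw [H49.card_zpowers_invol hz1 zz] at this
    omega⟩
  have h5 : A.subgroupOf C1[z] ≤ pCore 2 C1[z] := fun a ha => by
    obtain ⟨y, hy, k⟩ := x.core.ge (x.le_QQ ha)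
    exact Subtype.ext k ▸ hy
  have h6 : generalizedFittingSubgroup C1[z] = pCore 2 C1[z] :=
    H52.fstar_eq_pCore_iff_centralizer_le.2 fun y hy => h5 (x.cA fun a ha =>
      congrArg Subtype.val (hy ⟨a, (x.le_QQ ha).1⟩ (h5 ha)))
  refine ⟨z, A, k + 1, H49.orderOf_two_iff.2 ⟨hz1, zz⟩, hz, c.sq A e.l, by omega, h4, ?_, ?_,
    h6 ▸ h5, x.cz, fun b h1 h2 h3 h4 a ha => x.hx h1 h2 h3 h4 ha⟩ <;> rw [h6]
  · exact (H49.isExtraspecial_map_iff (subtype_injective _)).1 (x.core ▸ x.xs.isExtraspecial)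
  · have h7 := x.xs.card_mul_card_centralizer_of_mem x.le_QQ hz
    rw [le_antisymm (inf_le_right.trans x.cA) (le_inf x.le_QQ fun a ha b hb =>
      c.ba.mul_comm A e.l b hb a ha), h4, ← x.core, card_map_of_injective (subtype_injective _)] at h7
    refine Nat.eq_of_mul_eq_mul_left (by norm_num : 0 < 2) ?_
    rw [← h7]
    ring

end Cfsg.Agent.H22.TIQD
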