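import Mathlib
import Cfsg.Agent.H31.SU3
import Cfsg.Agent.S0280
import Cfsg.Agent.H14.InduceChar
import Cfsg.Agent.H11.Irr
import Cfsg.Agent.H11.TICongr
import Cfsg.Agent.H12.Values
import Cfsg.Agent.H24.Deg

/-! Principal series of `SU₃(3)`: irreducible characters of degree 28 and 21. -/

namespace Cfsg.Agent.H22.U33
open Cfsg Cfsg.Agent.H31
open scoped ComplexConjugate

variable {F : Type*} [Field F] {σ : F →+* F}

/-- the special unitary group in the hyperbolic model -/
abbrev GG (σ : F →+* F) := ↥(sisom (hyp3 σ))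

/-- stabiliser of the isotropic point `⟨e₀⟩` -/
def BB (σ : F →+* F) : Subgroup (GG σ) where
  carrier := {g | ∃ c : F, g.1 ![1, 0, 0] = c • ![1, 0, 0]}
  one_mem' := ⟨1, by simp⟩
  mul_mem' := by
    rintro g g' ⟨c, hc⟩ ⟨c', hc'⟩
    refine ⟨c' * c, ?_⟩
    change g.1 (g'.1 _) = _
    rw [hc', map_smul, hc, mul_smul]
  inv_mem' := by
    rintro g ⟨c, hc⟩
    have h1 : (g⁻¹).1 (g.1 ![1, 0, 0]) = ![1, 0, 0] := by
      change (g⁻¹ * g).1 _ = _
      simp
    rw [hc, map_smul] at h1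
    have hc0 : c ≠ 0 := by
      rintro rfl
      have := congrFun h1 0
      simp at this
    exact ⟨c⁻¹, by rw [← h1, smul_smul, inv_mul_cancel₀ hc0, one_smul, h1]⟩

theorem mem_BB {g : GG σ} : g ∈ BB σ ↔ ∃ c : F, g.1 ![1, 0, 0] = c • ![1, 0, 0] := Iff.rfl

theorem BB_apply (g : BB σ) : g.1.1 ![1, 0, 0] = (g.1.1 ![1, 0, 0] 0) • ![1, 0, 0] := by
  obtain ⟨c, hc⟩ := g.2
  rw [hc]; simp

/-- the multiplier on the fixed point -/
noncomputable def cB (σ : F →+* F) : BB σ →* Fˣ :=
  MonoidHom.toHomUnits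
    { toFun := fun g => g.1.1 ![1, 0, 0] 0
      map_one' := by simp
      map_mul' := fun g g' => by
        change g.1.1 (g'.1.1 _) 0 = _
        rw [BB_apply g', map_smul]
        simp [mul_comm] }

theorem cB_spec (g : BB σ) : g.1.1 ![1, 0, 0] = (cB σ g : F) • ![1, 0, 0] := BB_apply g

theorem cB_eq {g : BB σ} {c : F} (h : g.1.1 ![1, 0, 0] = c • ![1, 0, 0]) : (cB σ g : F) = c := by
  have := cB_spec g
  rw [h] at this
  simpa using (congrFun this 0).symm

variable (h : IsInvol σ)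

/-- the torus element -/
noncomputable def dd (a : Fˣ) : GG σ := ⟨diag3 σ a a.ne_zero, diag3_mem_sisom h a.ne_zero⟩

theorem dd_vec (c : Fˣ) (a b d : F) :
    (dd h c).1 ![a, b, d] = ![c * a, σ c / c * b, (σ c)⁻¹ * d] := diag3_vec c.ne_zero a b d

theorem dd_mem (a : Fˣ) : dd h a ∈ BB σ := ⟨a, by rw [dd_vec, smul_vec3]; simp⟩

theorem cB_dd (a : Fˣ) : cB σ ⟨dd h a, dd_mem h a⟩ = a :=
  Units.ext (cB_eq (by change (dd h a).1 _ = _; rw [dd_vec, smul_vec3]; simp))

include h in
theorem cB_surj : Function.Surjective (cB σ) := fun a => ⟨_, cB_dd h a⟩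

theorem uu_vec (p : Heis h) (a b c : F) :
    (Heis.toSisom h p).1 ![a, b, c] = ![a - σ p.x * b + p.y * c, b + p.x * c, c] := by
  rw [Heis.coe_toSisom, uni3_vec]

theorem uu_e0 (p : Heis h) : (Heis.toSisom h p).1 ![1, 0, 0] = ![1, 0, 0] := by
  rw [uu_vec]; simp

theorem uu_mem (p : Heis h) : Heis.toSisom h p ∈ BB σ := ⟨1, by rw [uu_e0, one_smul]⟩

theorem uu_inj : Function.Injective (Heis.toSisom h) := by
  intro p p' hp
  have := congrArg (fun g : GG σ => g.1 ![0, 0, 1]) hp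
  simp only [uu_vec, vec3_inj] at this
  ext
  · simpa using this.2.1
  · simpa using this.1

theorem mem_range_uu {g : GG σ} : g ∈ (Heis.toSisom h).range ↔ g.1 ![1, 0, 0] = ![1, 0, 0] := by
  constructor
  · rintro ⟨p, rfl⟩; exact uu_e0 h p
  · intro hg
    obtain ⟨x, y, hxy, e⟩ := exists_uni3_of_fix h g.2 hg
    exact ⟨⟨x, y, hxy⟩, Subtype.ext e.symm⟩

theorem range_le_BB : (Heis.toSisom h).range ≤ BB σ := by
  rintro _ ⟨p, rfl⟩; exact uu_mem h p

theorem cB_eq_one_iff {g : BB σ} : cB σ g = 1 ↔ g.1 ∈ (Heis.toSisom h).range := by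
  rw [mem_range_uu]
  constructor
  · intro e; rw [cB_spec, e]; simp
  · intro e; exact Units.ext (cB_eq (by rw [e]; simp))

theorem ker_cB : (cB σ).ker = (Heis.toSisom h).range.subgroupOf (BB σ) := by
  ext g; rw [MonoidHom.mem_ker, Subgroup.mem_subgroupOf, cB_eq_one_iff h]

theorem card_ker_cB : Nat.card (cB σ).ker = Nat.card (Heis h) := by
  rw [ker_cB h, Nat.card_congr (Subgroup.subgroupOfEquivOfLe (range_le_BB h)).toEquiv]
  exact (Nat.card_congr (MonoidHom.ofInjective (uu_inj h)).toEquiv).symm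

/-- elements fixing both points `⟨e₀⟩` and `⟨e₂⟩` are diagonal -/
theorem eq_dd (g : BB σ) {c : F} (h2 : g.1.1 ![0, 0, 1] = c • ![0, 0, 1]) :
    g.1 = dd h (cB σ g) := by
  have h1 : ((dd h (cB σ g))⁻¹ * g.1) ∈ (Heis.toSisom h).range := by
    refine (cB_eq_one_iff h (g := (⟨dd h (cB σ g), dd_mem h _⟩ : BB σ)⁻¹ * g)).1 ?_
    rw [map_mul, map_inv, cB_dd, inv_mul_cancel]
  obtain ⟨p, hp⟩ := h1
  have e : g.1 = dd h (cB σ g) * Heis.toSisom h p := by rw [hp]; group
  have e2 := congrArg (fun k : GG σ => k.1 ![0, 0, 1]) e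
  rw [h2] at e2
  change _ = (dd h (cB σ g)).1 ((Heis.toSisom h p).1 _) at e2
  rw [uu_vec, dd_vec, smul_vec3, vec3_inj] at e2
  have hs : σ (cB σ g : F) ≠ 0 := (map_ne_zero σ).2 (Units.ne_zero _)
  have hx : p.x = 0 := by
    have := e2.2.1
    simpa [hs] using this
  have hy : p.y = 0 := by
    have := e2.1
    simpa [hx] using this
  have : p = 1 := by ext <;> simp [hx, hy, Heis.one_x, Heis.one_y]
  rw [e, this, map_one, mul_one]

include h in
theorem exists_off {x : GG σ} (hx : x ∉ BB σ) :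
    ∃ (p : Heis h) (c : F), c ≠ 0 ∧ x.1 ![1, 0, 0] = (Heis.toSisom h p).1 (c • ![0, 0, 1]) := by
  have hiso : hyp3 σ (x.1 ![1, 0, 0]) (x.1 ![1, 0, 0]) = 0 := by
    have := (mem_sisom.1 x.2).1 ![1, 0, 0] ![1, 0, 0]
    rw [this, hyp3_vec]; simp
  rcases isotropic3_cases hiso with ⟨c, hc⟩ | ⟨c, a, b, hc, hab, e⟩
  · exact absurd ⟨c, by rw [hc, smul_vec3]; simp⟩ hx
  · refine ⟨⟨a, b, hab⟩, c, hc, ?_⟩
    rw [map_smul, uu_vec, e]; simp

theorem cB_uu (p : Heis h) : cB σ ⟨Heis.toSisom h p, uu_mem h p⟩ = 1 :=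
  (cB_eq_one_iff h).2 ⟨p, rfl⟩

/-- the linear character of `B` inflated from `θ` -/
noncomputable def lam (σ : F →+* F) (θ : Fˣ →* ℂˣ) : BB σ → ℂ := fun g => ((θ.comp (cB σ)) g : ℂ)

theorem lam_irr (θ : Fˣ →* ℂˣ) : IsIrrCharacter (BB σ) (lam σ θ) :=
  H11.isIrrCharacter_monoidHom _

theorem lam_apply (θ : Fˣ →* ℂˣ) (g : BB σ) : lam σ θ g = θ (cB σ g) := rfl

include h in
theorem sum_off [Fintype Fˣ] [Fintype (BB σ)] (f : Fˣ → ℂ) (θ : Fˣ →* ℂˣ) {x : GG σ}
    (hx : x ∉ BB σ) :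
    ∑ g : BB σ, f (cB σ g) * conj (extendByZero (BB σ) (lam σ θ) (x⁻¹ * g * x)) =
      ∑ a : Fˣ, f a * conj (θ (Units.map σ.toMonoidHom a)⁻¹ : ℂ) := by
  obtain ⟨p, c, hc, hp⟩ := exists_off h hx
  obtain ⟨u, hu⟩ : ∃ u : BB σ, u = ⟨Heis.toSisom h p, uu_mem h p⟩ := ⟨_, rfl⟩
  have hu1 : cB σ u = 1 := by rw [hu]; exact cB_uu h p
  have hp' : x.1 ![1, 0, 0] = u.1.1 (c • ![0, 0, 1]) := by rw [hu]; exact hp
  let i : Fˣ → BB σ := fun a => u * ⟨dd h a, dd_mem h a⟩ * u⁻¹
  have hi : ∀ a, cB σ (i a) = a := by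
    intro a; simp only [i, map_mul, map_inv, hu1, cB_dd]; simp
  symm
  refine Fintype.sum_of_injective i (fun a b e => by rw [← hi a, e, hi]) _ _ ?_ ?_
  · intro g hg
    rw [H14.extendByZero_of_not_mem, map_zero, mul_zero]
    rintro ⟨d, hd⟩
    apply hg
    have h1 : g.1.1 (x.1 ![1, 0, 0]) = d • x.1 ![1, 0, 0] := by
      rw [← map_smul, ← hd]
      change _ = (x * (x⁻¹ * g * x)).1 _
      rw [← mul_assoc, ← mul_assoc, mul_inv_cancel, one_mul]; rfl
    have h2 : (u⁻¹ * g * u).1.1 ![0, 0, 1] = d • ![0, 0, 1] := by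
      rw [hp', map_smul, map_smul, smul_comm] at h1
      have h3 := smul_right_injective _ hc h1
      change (u⁻¹).1.1 (g.1.1 (u.1.1 _)) = _
      rw [h3, map_smul]
      change d • (u⁻¹ * u).1.1 _ = _
      simp
    have h3 := eq_dd h _ h2
    refine ⟨cB σ (u⁻¹ * g * u), ?_⟩
    have h4 : (⟨dd h (cB σ (u⁻¹ * g * u)), dd_mem h _⟩ : BB σ) = u⁻¹ * g * u :=
      Subtype.ext h3.symm
    simp only [i]
    rw [h4]; group
  · intro a
    have h1 : (x⁻¹ * (i a).1 * x).1 ![1, 0, 0] = (σ a)⁻¹ • ![1, 0, 0] := by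
      have h2 : (i a).1.1 (x.1 ![1, 0, 0]) = (σ a)⁻¹ • x.1 ![1, 0, 0] := by
        rw [hp']
        change (i a * u).1.1 _ = _
        simp only [i, inv_mul_cancel_right]
        change u.1.1 ((dd h a).1 _) = _
        rw [smul_vec3, dd_vec, ← map_smul, smul_vec3]; simp
      change (x⁻¹).1 ((i a).1.1 (x.1 _)) = _
      rw [h2, map_smul]
      change _ • (x⁻¹ * x).1 _ = _
      simp
    have hm : x⁻¹ * (i a).1 * x ∈ BB σ := ⟨_, h1⟩
    rw [hi, H14.extendByZero_of_mem _ _ hm, lam_apply]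
    congr 4
    exact Units.ext (by rw [cB_eq h1]; simp)

theorem sum_on [Fintype (BB σ)] (f : Fˣ → ℂ) (θ : Fˣ →* ℂˣ) {x : GG σ} (hx : x ∈ BB σ) :
    ∑ g : BB σ, f (cB σ g) * conj (extendByZero (BB σ) (lam σ θ) (x⁻¹ * g * x)) =
      ∑ g : BB σ, f (cB σ g) * conj (θ (cB σ g) : ℂ) := by
  refine Finset.sum_congr rfl fun g _ => ?_
  rw [H14.extendByZero_conj_of_mem' _ (H11.isClassFunction_of_irr (lam_irr θ)) _ hx,
    H14.extendByZero_coe, lam_apply]

theorem conj_uu (c : Fˣ) (p p' : Heis h) (hx : p'.x = σ c * σ c / c * p.x)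
    (hy : p'.y = c * σ c * p.y) :
    dd h c * Heis.toSisom h p * (dd h c)⁻¹ = Heis.toSisom h p' := by
  rw [mul_inv_eq_iff_eq_mul]
  refine Subtype.ext (LinearEquiv.ext fun v => ?_)
  rw [vec3_eta v]
  change (dd h c).1 ((Heis.toSisom h p).1 _) = (Heis.toSisom h p').1 ((dd h c).1 _)
  have hc : (c : F) ≠ 0 := c.ne_zero
  have hs : σ (c : F) ≠ 0 := (map_ne_zero σ).2 hc
  rw [uu_vec, dd_vec, dd_vec, uu_vec, vec3_inj, hx, hy]
  simp only [map_mul, map_div₀, h.invol]
  refine ⟨?_, ?_, trivial⟩ <;> field_simp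

theorem two_dvd_sum {α : Type*} (s : Finset α) (f : α → ℂ) (τ : α → α)
    (hf : ∀ a, IsIntegral ℤ (f a)) (hs : ∀ a ∈ s, τ a ∈ s) (hτ : ∀ a ∈ s, τ (τ a) = a)
    (hne : ∀ a ∈ s, τ a ≠ a) (hfτ : ∀ a ∈ s, f (τ a) = f a) :
    ∃ β : ℂ, IsIntegral ℤ β ∧ 2 * β = ∑ a ∈ s, f a := by
  let R := integralClosure ℤ ℂ
  let g : α → R := fun a => ⟨f a, hf a⟩
  have h1 : ∑ a ∈ s, Ideal.Quotient.mk (Ideal.span {(2 : R)}) (g a) = 0 := by
    refine Finset.sum_involution (fun a _ => τ a) ?_ (fun a ha _ => hne a ha) hs hτ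
    intro a ha
    have : g (τ a) = g a := Subtype.ext (hfτ a ha)
    rw [this, ← map_add, Ideal.Quotient.eq_zero_iff_mem, ← two_mul]
    exact Ideal.mul_mem_right _ _ (Ideal.subset_span rfl)
  rw [← map_sum, Ideal.Quotient.eq_zero_iff_mem, Ideal.mem_span_singleton] at h1
  obtain ⟨β, hβ⟩ := h1
  refine ⟨β, β.2, ?_⟩
  have := congrArg (fun r : R => (r : ℂ)) hβ
  simp only [AddSubmonoidClass.coe_finsetSum, g] at this
  rw [this]; rfl

section Nine
variable [Fintype F] (hF : Fintype.card F = 3 ^ 2)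

theorem nonempty_equiv : Nonempty (GG (frobQ hF) ≃* PSU 3 F 3) := by
  obtain ⟨e⟩ := nonempty_psu3_equiv hF
  have h1 := (isHerm_hyp3 (isInvol_frobQ hF)).card_center_sisom hF (fun _ => rfl) (by simp)
  have h2 : Subgroup.center (GG (frobQ hF)) = ⊥ := by
    rw [← Subgroup.card_eq_one, h1]; simp
  exact ⟨(QuotientGroup.quotientBot.symm.trans
    (QuotientGroup.quotientMulEquivOfEq h2.symm)).trans e⟩

include hF in
theorem card_psu : Nat.card (PSU 3 F 3) = 6048 := by
  have := S0280.result hF 3 (by norm_num)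
  simp only [Finset.prod_range_succ, Finset.prod_range_zero] at this
  norm_num at this
  omega

theorem card_GG : Nat.card (GG (frobQ hF)) = 6048 := by
  obtain ⟨e⟩ := nonempty_equiv hF
  rw [Nat.card_congr e.toEquiv, card_psu hF]

instance : Finite (GG (frobQ hF)) := Nat.finite_of_card_ne_zero (by rw [card_GG]; norm_num)

include hF in
theorem card_units : Nat.card Fˣ = 8 := by
  rw [Nat.card_units, Nat.card_eq_fintype_card, hF]; norm_num

theorem card_ker : Nat.card (cB (frobQ hF)).ker = 27 := by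
  rw [card_ker_cB (isInvol_frobQ hF), Heis.card hF (fun _ => rfl)]; norm_num

theorem card_BB : Nat.card (BB (frobQ hF)) = 216 := by
  have h1 := Subgroup.card_mul_index (cB (frobQ hF)).ker
  rw [Subgroup.index_ker, MonoidHom.range_eq_top.2 (cB_surj (isInvol_frobQ hF)), card_ker,
    Subgroup.card_top, card_units hF] at h1
  omega

theorem index_BB : (BB (frobQ hF)).index = 28 := by
  have h1 := Subgroup.card_mul_index (BB (frobQ hF))
  rw [card_BB, card_GG] at h1
  omega

theorem key [Fintype Fˣ] [Fintype (GG (frobQ hF))] [Fintype (BB (frobQ hF))] (f : Fˣ → ℂ)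
    (θ : Fˣ →* ℂˣ) :
    ∑ g : BB (frobQ hF), f (cB _ g) * conj (indFun (BB (frobQ hF)) (lam _ θ) g) =
      27 * ∑ a : Fˣ, f a * (conj (θ a : ℂ) + (θ a : ℂ) ^ 3) := by
  classical
  have h := isInvol_frobQ hF
  simp only [H14.indFun_apply, map_mul, map_sum, card_BB, Finset.mul_sum]
  rw [Finset.sum_comm]
  have e1 : ∀ x : GG (frobQ hF), ∑ g : BB (frobQ hF), f (cB _ g) * (conj ((216 : ℕ) : ℂ)⁻¹ *
      conj (extendByZero (BB (frobQ hF)) (lam _ θ) (x⁻¹ * g * x))) =
      (216 : ℂ)⁻¹ * if x ∈ BB (frobQ hF) then 27 * ∑ a : Fˣ, f a * conj (θ a : ℂ) else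
        ∑ a : Fˣ, f a * (θ a : ℂ) ^ 3 := by
    intro x
    have e2 : ∀ g : BB (frobQ hF), f (cB _ g) * (conj ((216 : ℕ) : ℂ)⁻¹ *
        conj (extendByZero (BB (frobQ hF)) (lam _ θ) (x⁻¹ * g * x))) = (216 : ℂ)⁻¹ *
        (f (cB _ g) * conj (extendByZero (BB (frobQ hF)) (lam _ θ) (x⁻¹ * g * x))) := by
      intro g; simp only [map_inv₀, map_natCast]; push_cast; ring
    simp only [e2, ← Finset.mul_sum]
    congr 1
    split_ifs with hx
    · rw [sum_on f θ hx, H11.sum_comp_of_surjective (cB _) (cB_surj h)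
        (fun a => f a * conj (θ a : ℂ)), card_ker]
      norm_num
    · rw [sum_off h f θ hx]
      refine Finset.sum_congr rfl fun a _ => ?_
      have : Units.map (frobQ hF).toMonoidHom a = a ^ 3 := Units.ext (by simp)
      rw [this, H11.conj_monoidHom_apply, inv_inv, map_pow]
      simp
  simp only [e1]
  rw [← Finset.mul_sum, Finset.sum_ite, Finset.sum_const, Finset.sum_const]
  have c1 : (Finset.univ.filter fun x : GG (frobQ hF) => x ∈ BB (frobQ hF)).card = 216 := by
    rw [← card_BB hF, Nat.card_eq_fintype_card, Fintype.card_subtype]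
  have c2 : (Finset.univ.filter fun x : GG (frobQ hF) => ¬ x ∈ BB (frobQ hF)).card = 5832 := by
    have := Finset.card_filter_add_card_filter_not (s := Finset.univ)
      (fun x : GG (frobQ hF) => x ∈ BB (frobQ hF))
    rw [c1, Finset.card_univ, ← Nat.card_eq_fintype_card, card_GG] at this
    omega
  rw [c1, c2]
  simp only [mul_add, Finset.sum_add_distrib, ← Finset.mul_sum, nsmul_eq_mul]
  push_cast
  ring

include hF in
theorem exists_gen : ∃ g : Fˣ, g ^ 4 ≠ 1 ∧ (g : F) ^ 4 = -1 := by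
  obtain ⟨g, hg⟩ := IsCyclic.exists_ofOrder_eq_natCard (α := Fˣ)
  rw [card_units hF] at hg
  have h4 : g ^ 4 ≠ 1 := pow_ne_one_of_lt_orderOf (by norm_num) (by omega)
  refine ⟨g, h4, ?_⟩
  have h8 : g ^ 8 = 1 := hg ▸ pow_orderOf_eq_one g
  have : ((g : F) ^ 4) ^ 2 = 1 := by
    rw [← pow_mul, ← Units.val_pow_eq_pow_val, h8]; rfl
  rcases sq_eq_one_iff.1 this with h | h
  · exact absurd (Units.ext (by simpa using h)) h4
  · exact h

include hF in
theorem exists_theta : ∃ θ : Fˣ →* ℂˣ, ∃ g, θ g ^ 4 ≠ 1 := by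
  obtain ⟨g, hg, -⟩ := exists_gen hF
  obtain ⟨θ, hθ⟩ := CommGroup.exists_apply_ne_one_of_hasEnoughRootsOfUnity Fˣ ℂ hg
  exact ⟨θ, g, by rwa [← map_pow]⟩

section
variable [Fintype Fˣ] [Fintype (GG (frobQ hF))]

theorem ind_char (θ : Fˣ →* ℂˣ) : IsCharacter _ (indFun (BB (frobQ hF)) (lam _ θ)) :=
  H14.IsCharacter.indFun _ (H11.isCharacter_of_irr (lam_irr θ))

theorem deg_ind (θ : Fˣ →* ℂˣ) : charDegree (indFun (BB (frobQ hF)) (lam _ θ)) = 28 := by
  rw [H24.deg_indFun _ (H11.isCharacter_of_irr (lam_irr θ)), index_BB]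
  rw [H24.deg_eq (n := 1) (by simp [lam_apply])]

theorem inner_self (θ : Fˣ →* ℂˣ) :
    classInner (indFun (BB (frobQ hF)) (lam _ θ)) (indFun (BB (frobQ hF)) (lam _ θ)) =
      1 + 8⁻¹ * ∑ a : Fˣ, (θ a : ℂ) ^ 4 := by
  classical
  have := Fintype.ofFinite (BB (frobQ hF))
  rw [H14.classInner_indFun_left _ _ (H14.indFun_isClassFunction _ _), H11.classInner_def, card_BB]
  have k := key hF (fun a => (θ a : ℂ)) θ
  simp only [lam_apply]
  rw [k]
  have e : ∀ a : Fˣ, (θ a : ℂ) * (conj (θ a : ℂ) + (θ a : ℂ) ^ 3) = 1 + (θ a : ℂ) ^ 4 := by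
    intro a
    rw [H11.conj_monoidHom_apply, mul_add, ← Units.val_mul, ← map_mul, mul_inv_cancel, map_one]
    simp; ring
  simp only [e, Finset.sum_add_distrib, Finset.sum_const, Finset.card_univ,
    ← Nat.card_eq_fintype_card, card_units hF]
  push_cast; simp; ring

theorem mem_28 : 28 ∈ charDegrees (GG (frobQ hF)) := by
  obtain ⟨θ, g, hg⟩ := exists_theta hF
  have h1 := inner_self hF θ
  have h2 : ∑ a : Fˣ, (θ a : ℂ) ^ 4 = 0 := by
    have := sum_hom_units_eq_zero ((Units.coeHom ℂ).comp (θ ^ 4)) (by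
      intro e
      apply hg
      have := DFunLike.congr_fun e g
      exact Units.ext (by simpa using this))
    simpa using this
  rw [h2, mul_zero, add_zero] at h1
  rw [← deg_ind hF θ]
  exact H24.deg_mem_cd (H11.isIrrCharacter_of_classInner_self (ind_char hF θ) h1)

theorem inner_U [Fintype (Heis.toSisom (isInvol_frobQ hF)).range] (θ : Fˣ →* ℂˣ) :
    classInner (fun u : (Heis.toSisom (isInvol_frobQ hF)).range =>
      indFun (BB (frobQ hF)) (lam _ θ) u) (fun _ => 1) = 2 := by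
  classical
  have h := isInvol_frobQ hF
  have := Fintype.ofFinite (BB (frobQ hF))
  have k := key hF (fun a => if a = 1 then 1 else 0) θ
  simp only [ite_mul, one_mul, zero_mul, Finset.sum_ite_eq', Finset.mem_univ, if_true, map_one,
    Units.val_one] at k
  rw [← H11.conj_classInner, H11.classInner_def]
  have hc : Nat.card (Heis.toSisom h).range = 27 := by
    rw [← Nat.card_congr (MonoidHom.ofInjective (uu_inj h)).toEquiv, Heis.card hF (fun _ => rfl)]
    norm_num
  have e : ∑ u : (Heis.toSisom h).range, (1 : ℂ) * conj (indFun (BB (frobQ hF)) (lam _ θ) u) =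
      ∑ g : BB (frobQ hF), if cB _ g = 1 then conj (indFun (BB (frobQ hF)) (lam _ θ) g) else 0 := by
    refine Fintype.sum_of_injective (Subgroup.inclusion (range_le_BB h))
      (Subgroup.inclusion_injective _) _ _ ?_ ?_
    · intro g hg
      rw [if_neg]
      intro e
      exact hg ⟨⟨g, (cB_eq_one_iff h).1 e⟩, rfl⟩
    · intro u
      rw [if_pos ((cB_eq_one_iff h).2 u.2), one_mul]; rfl
  rw [hc, e, k]
  simp; norm_num

theorem odd_deg [Fintype (Heis.toSisom (isInvol_frobQ hF)).range] {χ : GG (frobQ hF) → ℂ}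
    (hχ : IsCharacter _ χ)
    (h1 : classInner (fun u : (Heis.toSisom (isInvol_frobQ hF)).range => χ u) (fun _ => 1) = 1) :
    Odd (charDegree χ) := by
  classical
  have h := isInvol_frobQ hF
  have := Fintype.ofFinite (Heis h)
  have hc : Nat.card (Heis.toSisom h).range = 27 := by
    rw [← Nat.card_congr (MonoidHom.ofInjective (uu_inj h)).toEquiv, Heis.card hF (fun _ => rfl)]
    norm_num
  rw [H11.classInner_one_right, hc] at h1
  have h2 : ∑ p : Heis h, χ (Heis.toSisom h p) = 27 := by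
    rw [Fintype.sum_equiv (MonoidHom.ofInjective (uu_inj h)).toEquiv
      (fun p => χ (Heis.toSisom h p)) (fun u : (Heis.toSisom h).range => χ u) (fun p => rfl)]
    push_cast at h1
    linear_combination 27 * h1
  obtain ⟨g, -, hg⟩ := exists_gen hF
  have h3 : (3 : F) = 0 := by
    have := FiniteField.cast_card_eq_zero F
    rw [hF] at this
    exact pow_eq_zero_iff (n := 2) (by norm_num) |>.1 (by exact_mod_cast this)
  have h2' : (2 : F) ≠ 0 := fun e => one_ne_zero (by linear_combination h3 - e : (1 : F) = 0)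
  let τ : Heis h → Heis h := fun p => if p.x = 0 then p⁻¹ else
    ⟨-p.x, p.y, by rw [map_neg]; linear_combination p.eq⟩
  have hy : ∀ p : Heis h, p.x = 0 → frobQ hF p.y = -p.y := by
    intro p hp
    have := p.eq
    rw [hp] at this
    linear_combination this
  obtain ⟨β, hβ, e⟩ := two_dvd_sum (Finset.univ.erase 1) (fun p => χ (Heis.toSisom h p)) τ
    (fun p => H12.IsCharacter_isIntegral hχ _)
    (by
      intro p hp
      simp only [Finset.mem_erase, Finset.mem_univ, and_true, τ] at hp ⊢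
      split_ifs with hx
      · exact inv_ne_one.2 hp
      · intro e
        have := congrArg Heis.x e
        simp only [Heis.one_x, neg_eq_zero] at this
        exact hx this)
    (by
      intro p _
      by_cases hx : p.x = 0
      · simp [τ, hx, Heis.inv_x]
      · simp [τ, hx])
    (by
      intro p hp
      simp only [Finset.mem_erase, Finset.mem_univ, and_true, τ] at hp ⊢
      split_ifs with hx
      · intro e
        have := congrArg Heis.y e
        rw [Heis.inv_y, hy p hx] at this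
        apply hp
        ext
        · rw [hx, Heis.one_x]
        · rw [Heis.one_y]
          exact (mul_eq_zero.1 (by linear_combination -this : 2 * p.y = 0)).resolve_left h2'
      · intro e
        have := congrArg Heis.x e
        exact hx ((mul_eq_zero.1 (by linear_combination -this : 2 * p.x = 0)).resolve_left h2'))
    (by
      intro p _
      simp only [τ]
      split_ifs with hx
      · rw [← conj_uu h g p p⁻¹ (by simp [Heis.inv_x, hx])
          (by rw [Heis.inv_y, hy p hx, frobQ_apply]; linear_combination (-p.y) * hg)]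
        exact H11.isClassFunction_of_isCharacter hχ _ _
      · rw [← conj_uu h (-1) p _ (by simp; ring) (by simp; ring)]
        exact H11.isClassFunction_of_isCharacter hχ _ _)
  rw [Finset.sum_erase_eq_sub (Finset.mem_univ _), h2, map_one, ← H24.deg_cast hχ] at e
  have := H11.int_dvd_of_mul_eq hβ (m := 2) (by norm_num) (a := 27 - charDegree χ)
    (by push_cast; exact e)
  rw [Nat.odd_iff]
  omega

theorem mem_21 (hperf : commutator (GG (frobQ hF)) = ⊤) : 21 ∈ charDegrees (GG (frobQ hF)) := by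
  classical
  have h := isInvol_frobQ hF
  have := Fintype.ofFinite (BB (frobQ hF))
  have := Fintype.ofFinite (Heis.toSisom h).range
  obtain ⟨θ0, g, hg⟩ := exists_theta hF
  obtain ⟨θ, hθ⟩ : ∃ θ, θ = θ0 ^ 2 := ⟨_, rfl⟩
  have hθ1 : θ g ≠ 1 := by
    intro e
    apply hg
    rw [hθ, MonoidHom.pow_apply] at e
    rw [show 4 = 2 * 2 from rfl, pow_mul, e, one_pow]
  have hθ4 : ∀ a, (θ a : ℂ) ^ 4 = 1 := by
    intro a
    rw [hθ, MonoidHom.pow_apply, ← Units.val_pow_eq_pow_val, ← pow_mul, ← map_pow,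
      show 2 * 4 = Nat.card Fˣ from (card_units hF).symm, pow_card_eq_one', map_one]
    rfl
  have h1 := inner_self hF θ
  simp only [hθ4, Finset.sum_const, Finset.card_univ, ← Nat.card_eq_fintype_card,
    card_units hF] at h1
  obtain ⟨Φ, hΦ⟩ : ∃ Φ, Φ = indFun (BB (frobQ hF)) (lam _ θ) := ⟨_, rfl⟩
  have hΦc : IsCharacter _ Φ := hΦ ▸ ind_char hF θ
  have hΦ2 : classInner Φ Φ = 2 := by rw [hΦ, h1]; norm_num
  have hd : charDegree Φ = 28 := hΦ ▸ deg_ind hF θ
  have hU : classInner (fun u : (Heis.toSisom h).range => Φ u) (fun _ => 1) = 2 :=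
    hΦ ▸ inner_U hF θ
  obtain ⟨χ, hχ, hne⟩ := H11.exists_irr_constituent hΦc (by
    rintro rfl; rw [H11.classInner_zero_left] at hΦ2; norm_num at hΦ2)
  have hχc := H11.isCharacter_of_irr hχ
  have hψc := H11.isCharacter_sub_irr hΦc hχ hne
  obtain ⟨m, hm⟩ := H11.exists_nat_classInner hΦc hχc
  obtain ⟨r, hr⟩ := H11.exists_nat_classInner hψc hψc
  have hm' : classInner χ Φ = m := by rw [← H11.classInner_comm_of_isCharacter hΦc hχc, hm]
  have hr' := hr
  rw [H11.classInner_sub_left, H11.classInner_sub_right, H11.classInner_sub_right, hΦ2, hm, hm',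
    H11.classInner_irr_self hχ] at hr'
  have hm0 : m ≠ 0 := by rintro rfl; exact hne (by simpa using hm)
  have hmr : 3 = r + 2 * m := by
    have : ((3 : ℕ) : ℂ) = ((r + 2 * m : ℕ) : ℂ) := by push_cast; linear_combination hr'
    exact_mod_cast this
  obtain rfl : m = 1 := by omega
  obtain rfl : r = 1 := by omega
  have hψ := H11.isIrrCharacter_of_classInner_self hψc (by simpa using hr)
  obtain ⟨ψ, hψe⟩ : ∃ ψ, ψ = Φ - χ := ⟨_, rfl⟩
  rw [← hψe] at hψ hψc hr
  have hsum : Φ = χ + ψ := by rw [hψe]; abel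
  have hΦψ : classInner Φ ψ ≠ 0 := by
    rw [hψe, H11.classInner_sub_right, hΦ2, hm]; norm_num
  have hover : ∀ η, IsIrrCharacter _ η → classInner Φ η ≠ 0 →
      classInner (fun u : (Heis.toSisom h).range => η u) (fun _ => 1) ≠ 0 ∧ charDegree η ≠ 1 := by
    intro η hη hi
    rw [hΦ, H14.classInner_indFun_left _ _ (H11.isClassFunction_of_irr hη),
      H11.classInner_ne_zero_comm] at hi
    constructor
    · refine H24.over_trans (range_le_BB h) (H11.isCharacter_of_irr hη) (lam_irr θ)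
        H11.isCharacter_one hi ?_
      have : (fun n : (Heis.toSisom h).range => lam _ θ ⟨n, range_le_BB h n.2⟩) = fun _ => 1 := by
        funext n
        rw [lam_apply, (cB_eq_one_iff h).2 n.2]; simp
      rw [this, H11.classInner_one_one]; exact one_ne_zero
    · intro e
      have e1 := H24.irr_deg hη
      rw [e] at e1
      rw [H24.deg_eq_one_iff_commutator_le hη, hperf, top_le_iff] at e
      have e2 : (fun b : BB (frobQ hF) => η b) = fun _ => 1 := by
        funext b
        have : (b : GG (frobQ hF)) ∈ H11.charKer η := e ▸ Subgroup.mem_top _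
        rw [H11.apply_eq_of_mem_charKer this, e1]; simp
      rw [e2] at hi
      have := H11.irr_eq_of_classInner_ne_zero H11.isIrrCharacter_one (lam_irr θ) hi
      have := congrFun this ⟨dd h g, dd_mem h g⟩
      rw [lam_apply, cB_dd] at this
      exact hθ1 (Units.ext (by simpa using this.symm))
  obtain ⟨a1, a2⟩ := hover χ hχ hne
  obtain ⟨b1, b2⟩ := hover ψ hψ hΦψ
  obtain ⟨a, ha⟩ := H11.exists_nat_classInner (H11.isCharacter_restrict hχc (Heis.toSisom h).range)
    H11.isCharacter_one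
  obtain ⟨b, hb⟩ := H11.exists_nat_classInner (H11.isCharacter_restrict hψc (Heis.toSisom h).range)
    H11.isCharacter_one
  have hab : a + b = 2 := by
    have e : (fun u : (Heis.toSisom h).range => Φ u) =
        (fun u : (Heis.toSisom h).range => χ u) + fun u : (Heis.toSisom h).range => ψ u := by
      rw [hsum]; rfl
    rw [e, H11.classInner_add_left, ha, hb] at hU
    exact_mod_cast hU
  have ha0 : a ≠ 0 := by rintro rfl; exact a1 (by simpa using ha)
  have hb0 : b ≠ 0 := by rintro rfl; exact b1 (by simpa using hb)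
  obtain rfl : a = 1 := by omega
  have hodd := odd_deg hF hχc (by simpa using ha)
  have hdeg : charDegree χ + charDegree ψ = 28 := by
    have : ((charDegree χ + charDegree ψ : ℕ) : ℂ) = (charDegree Φ : ℕ) := by
      push_cast
      rw [H24.deg_cast hχc, H24.deg_cast hψc, H24.deg_cast hΦc, hsum]; rfl
    rw [← hd]; exact_mod_cast this
  have d1 := H24.deg_dvd_card hχ
  have d2 := H24.deg_dvd_card hψ
  rw [card_GG] at d1 d2
  have m1 := H24.deg_mem_cd hχ
  have m2 := H24.deg_mem_cd hψ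
  generalize charDegree χ = x at *
  generalize charDegree ψ = y at *
  obtain rfl : y = 28 - x := by omega
  have hx : x ≤ 28 := by omega
  rw [Nat.odd_iff] at hodd
  interval_cases x <;> first | exact m1 | exact m2 | omega

end

end Nine

end Cfsg.Agent.H22.U33
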