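import Cfsg.Agent.H97.U5Defs

/-!
U5F-A2: a critical subgroup not contained in `R` contains the second centre.
-/

set_option autoImplicit false
set_option linter.unusedSectionVars false

namespace Cfsg.Agent.H22.U5

open Cfsg.Agent.H97 Cfsg.Agent.H97.U5 Cfsg.Agent.H96.VB Subgroup
open scoped commutatorElement

universe u

variable {K : Type u} [Field K] [Finite K] {T : Hm K} {p : ℕ} [Fact p.Prime] [CharP K p]

theorem Z_le_zp {P : Subgroup (U T)} (h : Cp p P) : Z T ≤ zp p P := fun _ hz =>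
  ⟨h.cent fun x _ => comm_Z hz x, pow_V_eq_one p (Z2_le_V (Z_le_Z2 hz)), fun x _ => comm_Z hz x⟩

theorem cm_one {g k : U T} (hg : g ∈ Z2 T) (hk : k ∈ R T) : ⁅g, k⁆ = 1 :=
  commutatorElement_eq_one_iff_mul_comm.2 (comm_VR (Z2_le_V hg) hk)

theorem zp_cm {P : Subgroup (U T)} {z x : U T} (hz : z ∈ zp p P) (hx : x ∈ P) : ⁅z, x⁆ = 1 :=
  commutatorElement_eq_one_iff_mul_comm.2 (hz.2.2 x hx)

theorem off2 {P : Subgroup (U T)} (h : Cp p P) (hZ : ¬ Z2 T ≤ P) {z : U T} (hz : z ∈ zp p P)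
    (z0 : z.t ≠ 0) (g : U T) (hg : ∀ x ∈ P, ⁅g, x⁆ ∈ P) : ∃ c ∈ Z2 T, c⁻¹ * g ∈ P := by
  obtain ⟨μ, hμ⟩ : ∃ μ : K, ∀ x ∈ zp p P, ∀ k ∈ P, k ∈ Z2 T → k.m = μ * x.t → x.t = 0 := by
    have k1 : ∀ x ∈ zp p P, ∀ k ∈ P, k ∈ Z2 T → T.σ x.t * k.m = x.t * T.σ k.m := fun x hx k hk h2 => by
      have := cm_a2 (g := x) h2
      rw [zp_cm hx hk] at this
      exact (sub_eq_zero.1 this.symm)
    by_cases e : ∀ x ∈ zp p P, x.t * T.σ z.t = z.t * T.σ x.t
    · refine ⟨T.om, fun x hx k hk h2 h3 => ?_⟩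
      have h4 := k1 z hz k hk h2
      rw [h3, map_mul] at h4
      have h5 : x.t * T.σ z.t * T.ep = 0 := by
        rw [Hm.ep]; linear_combination h4 - T.σ T.om * e x hx
      exact ((mul_eq_zero.1 ((mul_eq_zero.1 h5).resolve_right T.ep_ne)).resolve_right
        (T.σ_ne_zero z0))
    · push Not at e
      obtain ⟨y, hy, e⟩ := e
      refine ⟨1, fun x _ k hk h2 h3 => ?_⟩
      have h4 := k1 z hz k hk h2
      have h5 := k1 y hy k hk h2
      rw [h3, one_mul] at h4 h5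
      have h6 : (y.t * T.σ z.t - z.t * T.σ y.t) * x.t = 0 := by
        linear_combination y.t * h4 - z.t * h5
      exact (mul_eq_zero.1 h6).resolve_left (sub_ne_zero.2 e)
  refine h.off (Z2 T) (fun x => xm T (μ * x.t)) hZ (fun c hc x _ => Z_le_zp h (cm_Z' hc))
    (fun c hc d _ x _ => commutatorElement_eq_one_iff_mul_comm.2 (comm_Z (cm_Z' hc) d).symm)
    (fun x _ => ⟨rfl, rfl, rfl, rfl⟩) (fun x hx y hy e c hc => cm_one hc ?_) g hg
  refine hμ _ (mul_mem (inv_mem hx) hy) _ e (mul_mem (inv_mem ⟨rfl, rfl, rfl, rfl⟩)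
    ⟨rfl, rfl, rfl, rfl⟩) ?_
  simp; ring

theorem a2 : A2Stmt T p := by
  intro P h _
  by_contra hZ
  by_cases e : zp p P ≤ R T
  · exact hZ fun g hg => h.chain1 ch_zp (fun x _ => Z_le_zp h (cm_Z' hg)) fun x hx => cm_one hg (e hx)
  obtain ⟨z, hz, z0⟩ := SetLike.not_le_iff_exists.1 e
  replace z0 : z.t ≠ 0 := z0
  have k1 : ∀ x ∈ P, z.t * x.v2 = x.t * z.v2 := fun x hx => by
    have := cm_v1 z x
    rw [zp_cm hz hx] at this
    exact sub_eq_zero.1 this.symm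
  by_cases e2 : z.v2 = 0
  · have k2 : ∀ w, ∃ y ∈ P, y ∈ Z3 T ∧ y.v1 = w := fun w => by
      obtain ⟨c, hc, hy⟩ := off2 h hZ hz z0 (rv T w 0) fun x hx => by
        have h1 : x ∈ QV T := by
          have := k1 x hx
          rw [e2, mul_zero] at this
          exact (mul_eq_zero.1 this).resolve_left z0
        rw [← commutatorElement_inv]
        exact inv_mem (Z_le_zp h (cm_QVR h1 ⟨rfl, rfl, rv_d0 T w⟩).1).1
      exact ⟨_, hy, mul_mem (inv_mem (V_le_Z3 (Z2_le_V hc))) ⟨rfl, rfl⟩, by simp [hc.1, hc.2.1]⟩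
    have k3 : Z T ≤ ⁅P, P⁆ := fun y hy => by
      obtain ⟨w, hw⟩ := T.exists_skew (c := y.a) (by simpa [hy.2.1] using y.ha)
      obtain ⟨y1, h1, h2, h3⟩ := k2 1
      obtain ⟨y2, h4, h5, h6⟩ := k2 w
      have h7 := cm_Z3Z3 h2 h5
      have h8 : y = ⁅y1, y2⁆ := U.ext (hy.1.trans h7.1.symm) (hy.2.1.trans h7.2.1.symm)
        (hy.2.2.1.trans h7.2.2.1.symm) (by rw [(cm_RR h2.1 h5.1).2.1, h3, h6, ← hw]; simp)
        (hy.2.2.2.1.trans h7.2.2.2.1.symm) (hy.2.2.2.2.trans h7.2.2.2.2.symm)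
      exact h8 ▸ commutator_mem_commutator h1 h4
    exact hZ fun g hg => h.chain1 (Ch.self.commutator Ch.self) (fun x _ => k3 (cm_Z' hg))
      fun x hx => cm_one hg (Z3_le_R ((commutator_le.2 fun a _ b _ => cm_Z3 a b) hx))
  · have k2 : ∀ x ∈ P, ∃ l, T.σ l = l ∧ x.t = l * z.t ∧ x.v2 = l * z.v2 := fun x hx => by
      have h1 := cm_d z x
      rw [zp_cm hz hx] at h1
      obtain ⟨l, h2, h3⟩ := T.exists_fix e2 (sub_eq_zero.1 h1.symm)
      refine ⟨l, h2, mul_right_cancel₀ e2 ?_, h3⟩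
      rw [← k1 x hx, h3]; ring
    have k3 : Z1 T z.t ≤ P := fun k hk => h.cent fun x hx => by
      obtain ⟨l, h1, h2, -⟩ := k2 x hx
      refine (commutatorElement_eq_one_iff_mul_comm.1 (eq_one_of_Z (cm_Z hk.1) ?_)).symm
      rw [cm_a2 hk.1, h2, map_mul, h1]
      linear_combination l * hk.2
    obtain ⟨c, hc, hy⟩ := off2 h hZ hz z0 (rv T (z.t * z.v2) 0) fun x hx => by
      obtain ⟨l, h1, -, h2⟩ := k2 x hx
      rw [← commutatorElement_inv]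
      refine inv_mem (k3 ⟨cm_Z2 ⟨rfl, rfl⟩, ?_⟩)
      rw [cm_m3 ⟨rfl, rfl⟩, h2]
      simp only [rv_d0, rv_v1, mul_zero, zero_add, map_mul, h1, T.inv]
      ring
    have h1 := cm_m3 (g := z) (mul_mem (inv_mem (V_le_Z3 (Z2_le_V hc)))
      (show rv T (z.t * z.v2) 0 ∈ Z3 T from ⟨rfl, rfl⟩))
    rw [zp_cm hz hy] at h1
    simp [hc.1, hc.2.1, hc.2.2.1, hc.2.2.2, z0, e2] at h1

end Cfsg.Agent.H22.U5
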