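import Cfsg.Agent.H97.U5Defs

/-!
U5F-RIGR: the automizer of `R` contains the reflection `wR`.
-/

set_option autoImplicit false
set_option linter.unusedSectionVars false

namespace Cfsg.Agent.H22.U5R

open Cfsg.Agent.H97 Cfsg.Agent.H97.U5 Cfsg.Agent.H96.VB Subgroup
open scoped commutatorElement

universe u

variable {K : Type u} [Field K] {T : Hm K} {p : ℕ}

theorem t0 (x : R T) : x.1.t = 0 := x.2

theorem wR_tor (a b : Kˣ) (g : U T) : wR (tor T (a, b) g) = tor T (b, a) (wR g) := by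
  ext <;> simp [wR]
  ring

theorem tor_tor (g : U T) : tor T (-1, -1) (tor T (-1, -1) g) = g := by
  ext <;> simp

variable (T) in
/-- the restriction of a diagonal automorphism -/
def rs (c : Kˣ × Kˣ) : MulAut (R T) where
  toFun g := ⟨tor T c g, by simp [mem_R, t0]⟩
  invFun g := ⟨(tor T c)⁻¹ g, by rw [← map_inv, mem_R, tor_t, t0, mul_zero]⟩
  left_inv g := Subtype.ext ((tor T c).symm_apply_apply _)
  right_inv g := Subtype.ext ((tor T c).apply_symm_apply _)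
  map_mul' g k := Subtype.ext (map_mul (tor T c) g.1 k.1)

variable (T) in
/-- the reflection -/
def om : MulAut (R T) where
  toFun g := ⟨wR g, wR_mem _⟩
  invFun g := ⟨tor T (-1, -1) (wR g), by simp [mem_R, wR]⟩
  left_inv g := Subtype.ext (by
    change tor T _ (wR (wR g.1)) = _
    rw [wR_wR g.2, tor_tor])
  right_inv g := Subtype.ext (by
    change wR (tor T _ (wR g.1)) = _
    rw [wR_tor, wR_wR g.2, tor_tor])
  map_mul' g k := Subtype.ext (wR_mul g.2 k.2)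

theorem rs_coe (c : Kˣ × Kˣ) (g : R T) : (rs T c g).1 = tor T c g := rfl

theorem om_coe (g : R T) : (om T g).1 = wR g := rfl

theorem om_rs (a b : Kˣ) : om T * rs T (a, b) = rs T (b, a) * om T :=
  MulEquiv.ext fun g => Subtype.ext (wR_tor a b g.1)

theorem cj (w y : R T) : (w * y * w⁻¹).1.v1 = y.1.v1 ∧ (w * y * w⁻¹).1.v2 = y.1.v2 ∧
    (w * y * w⁻¹).1.a = y.1.a + y.1.v1 * T.σ w.1.v1 - w.1.v1 * T.σ y.1.v1 ∧
    (w * y * w⁻¹).1.m = y.1.m + y.1.v1 * T.σ w.1.v2 - w.1.v1 * T.σ y.1.v2 ∧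
    (w * y * w⁻¹).1.d = y.1.d + y.1.v2 * T.σ w.1.v2 - w.1.v2 * T.σ y.1.v2 := by
  simp only [coe_mul, coe_inv]
  refine ⟨?_, ?_, ?_, ?_, ?_⟩ <;> u5r [t0]

/-- trivial on `R / V` -/
def Tr (γ : MulAut (R T)) : Prop := ∀ x : R T, (γ x).1.v1 = x.1.v1 ∧ (γ x).1.v2 = x.1.v2

theorem vanish {f : R T → K} (h1 : ∀ x y, f (x * y) = f x + f y) (h2 : ∀ x : R T, x.1 ∈ V T → f x = 0)
    {a b : Kˣ} (ha : (a : K) ≠ 1) (hb : (b : K) ≠ 1) (h3 : ∀ x, f (rs T (a, b) x) = f x) (y : R T) :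
    f y = 0 := by
  have a1 := sub_ne_zero.2 ha
  have b1 := sub_ne_zero.2 hb
  let x : R T := ⟨rv T (y.1.v1 / (a - 1)) (y.1.v2 / (b - 1)), rfl⟩
  have h4 := h2 ((y * x)⁻¹ * rs T (a, b) x) ⟨t0 _, by
    simp [rs_coe, t0, x]; field_simp; ring, by simp [rs_coe, x]; field_simp; ring⟩
  have h5 := h1 (y * x) ((y * x)⁻¹ * rs T (a, b) x)
  rw [mul_inv_cancel_left, h3, h4, h1] at h5
  linear_combination -h5

theorem adds {γ : MulAut (R T)} (h : Tr γ) (x y : R T) :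
    (γ (x * y)).1.a - (x * y).1.a = ((γ x).1.a - x.1.a) + ((γ y).1.a - y.1.a) ∧
    (γ (x * y)).1.m - (x * y).1.m = ((γ x).1.m - x.1.m) + ((γ y).1.m - y.1.m) ∧
    (γ (x * y)).1.d - (x * y).1.d = ((γ x).1.d - x.1.d) + ((γ y).1.d - y.1.d) := by
  rw [map_mul]
  simp only [coe_mul, U.mul_a, U.mul_m, U.mul_d, t0, (h x).1, (h x).2, (h y).1, (h y).2, map_zero]
  refine ⟨by ring, by ring, by ring⟩

theorem exists_e : ∃ c : K, c ≠ 0 ∧ c ^ 3 ≠ T.σ c ^ 2 := by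
  by_contra k
  push Not at k
  have h1 := k _ T.ep_ne
  rw [T.σ_ep] at h1
  have h2 : T.ep = 1 := mul_left_cancel₀ (pow_ne_zero 2 T.ep_ne) (by linear_combination h1)
  have h3 : (2 : K) = 0 := by
    have := T.σ_ep
    rw [h2, map_one] at this
    linear_combination this
  have h4 : T.σ T.om = T.om + 1 := by
    rw [Hm.ep] at h2
    linear_combination -h2 - h3
  have h5 : T.om ≠ 0 := fun e => T.om_ne (by rw [e, map_zero])
  have h6 := k _ h5
  have h7 := k _ (T.σ_ne_zero h5)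
  rw [T.inv, h4] at h7
  rw [h4] at h6
  have h8 : T.om = 1 := mul_left_cancel₀ h5 (by
    linear_combination h7 - h6 - (T.om ^ 2 + 3 * T.om + 1) * h3)
  exact T.om_ne (by rw [h8, map_one])

variable {C : Subgroup (MulAut (U T))} {A : Subgroup (MulAut (R T))} (hL : U5.LB p C (R T) A)
  (hK : KerR A) (hT : TS T C)
include hL

theorem rs_mem {c : Kˣ × Kˣ} (h : tor T c ∈ C) : rs T c ∈ A :=
  hL.res _ h _ fun _ hx => ext_apply _ hx

theorem conj_mem (w : R T) : MulAut.conj w ∈ A := hL.cj w _ fun _ hx => ext_apply _ hx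

include hK hT

theorem key {γ : MulAut (R T)} (h1 : om T * γ ∈ A) (h2 : Tr γ) {a b : Kˣ} (h : tor T (a, b) ∈ C) :
    ∃ w : R T, ∀ x, γ (rs T (a, b) x) = w * rs T (a, b) (γ x) * w⁻¹ := by
  have h3 : tor T (b, a) ∈ C := by
    have := mul_mem h (hT.1 (a⁻¹ * b))
    rwa [← map_mul, Prod.mk_mul_mk, mul_inv_cancel_left, mul_inv_rev, inv_inv,
      mul_inv_cancel_left] at this
  have h4 := mul_mem (mul_mem (mul_mem h1 (rs_mem hL h)) (inv_mem h1)) (inv_mem (rs_mem hL h3))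
  have h5 : ∀ x, (om T * γ * rs T (a, b) * (om T * γ)⁻¹ * (rs T (b, a))⁻¹)
      (om T (rs T (a, b) (γ x))) = om T (γ (rs T (a, b) x)) := fun x => by
    rw [← MulAut.mul_apply _ (om T) (rs T (a, b)), om_rs]
    simp
  obtain ⟨e, he, h6⟩ := hK _ h4 fun x hx => by
    obtain ⟨y, hy⟩ := (om T * rs T (a, b) * γ).surjective ⟨x, hx⟩
    obtain rfl : (om T (rs T (a, b) (γ y))).1 = x := congrArg Subtype.val hy
    rw [ext_coe, h5]
    simp [om_coe, rs_coe, wR, (h2 _).1, (h2 _).2]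
  refine ⟨(om T)⁻¹ ⟨e, he⟩, fun x => (om T).injective ?_⟩
  rw [← h5, map_mul, map_mul, map_inv, MulAut.apply_inv_self]
  exact Subtype.ext ((ext_coe _ _).symm.trans (h6 _ (om T _).2))

omit hL hK hT in
theorem rigR (h : AR1 T p) : RigRStmt T p := by
  rintro C A hL hK hT ⟨n, hn, sw⟩
  have fixV : ∀ γ : MulAut (R T), Tr γ → ∀ x : R T, x.1 ∈ V T → γ x = x := fun γ hγ x hx =>
    Subtype.ext ((ext_coe _ _).symm.trans
      ((h.ker γ fun y hy => by rw [ext_apply _ hy]; exact hγ ⟨y, hy⟩).1 _ hx))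
  have g1 : om T * ((om T)⁻¹ * n) ∈ A := by rwa [mul_inv_cancel_left]
  have g2 : Tr ((om T)⁻¹ * n) := fun x => by
    have := sw x.1 x.2
    rw [ext_coe] at this
    change (tor T (-1, -1) (wR (n x).1)).v1 = _ ∧ (tor T (-1, -1) (wR (n x).1)).v2 = _
    simp [wR, this.1, this.2]
  generalize (om T)⁻¹ * n = γ at g1 g2
  have o0 : T.om ≠ 0 := fun e => T.om_ne (by rw [e, map_zero])
  have o1 := T.σ_ne_zero o0
  obtain ⟨c, c1, c2⟩ : ∃ c : Kˣ, (c : K) ≠ 1 ∧ T.σ c = (c : K)⁻¹ :=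
    ⟨Units.mk0 _ (div_ne_zero o0 o1), fun e => T.om_ne ((div_eq_one_iff_eq o1).1 e).symm, by simp⟩
  have c0 := c.ne_zero
  have c3 : ((c⁻¹ : Kˣ) : K) ≠ 1 := by simpa using c1
  have c4 := sub_ne_zero.2 c1
  have c5 : T.σ (c - 1 : K) ≠ 0 := T.σ_ne_zero c4
  obtain ⟨w, hw⟩ := key hL hK hT g1 g2 (hT.1 c)
  obtain ⟨u, u1, u2⟩ : ∃ u : R T, u.1.v1 = w.1.v1 / (c - 1) ∧ u.1.v2 = -(c * w.1.v2 / (c - 1)) :=
    ⟨⟨rv T _ _, rfl⟩, rfl, rfl⟩
  have hc : ∀ x, (MulAut.conj u * γ) x = u * γ x * u⁻¹ := fun _ => rfl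
  have k1 : om T * (MulAut.conj u * γ) ∈ A := by
    have : om T * (MulAut.conj u * γ) = MulAut.conj (om T u) * (om T * γ) :=
      MulEquiv.ext fun x => by simp
    exact this ▸ mul_mem (conj_mem hL _) g1
  have k2 : Tr (MulAut.conj u * γ) := fun x =>
    ⟨(cj u _).1.trans (g2 x).1, (cj u _).2.1.trans (g2 x).2⟩
  have c6 : T.σ (c - 1 : K) = -((c : K) - 1) / c := by
    rw [map_sub, map_one, c2]; field_simp; ring
  have k3 : ∀ x, ((MulAut.conj u * γ) x).1.a - x.1.a = 0 :=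
    vanish (fun x y => (adds k2 x y).1) (fun x hx => by rw [fixV _ k2 x hx, sub_self]) c1 c3 fun x => by
      rw [hc, hc, (cj u _).2.2.1, (cj u _).2.2.1, hw, (cj w _).2.2.1, (cj w _).1]
      simp only [rs_coe, tor_a, tor_v1, (g2 _).1, u1, map_mul, map_div₀, c2, c6]
      field_simp; ring
  have k4 : ∀ x, ((MulAut.conj u * γ) x).1.d - x.1.d = 0 :=
    vanish (fun x y => (adds k2 x y).2.2) (fun x hx => by rw [fixV _ k2 x hx, sub_self]) c1 c3 fun x => by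
      rw [hc, hc, (cj u _).2.2.2.2, (cj u _).2.2.2.2, hw, (cj w _).2.2.2.2, (cj w _).2.1]
      simp only [rs_coe, tor_d, tor_v2, (g2 _).2, u2, map_mul, map_div₀, c2, c6, map_neg,
        Units.val_inv_eq_inv_val, map_inv₀, inv_inv]
      field_simp; ring
  generalize MulAut.conj u * γ = δ at k1 k2 k3 k4
  obtain ⟨b, b0, b1⟩ := exists_e (T := T)
  have b2 := T.σ_ne_zero b0
  obtain ⟨e, e1, e2⟩ : ∃ e : Kˣ, (e : K) ≠ 1 ∧ tor T (e, (su T e)⁻¹) ∈ C := by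
    refine ⟨Units.mk0 (b ^ 3 / T.σ b ^ 2) (div_ne_zero (pow_ne_zero _ b0) (pow_ne_zero _ b2)),
      fun e => b1 ((div_eq_one_iff_eq (pow_ne_zero _ b2)).1 e), ?_⟩
    have := mul_mem (hT.1 (Units.mk0 b b0)) (hT.2 (Units.mk0 _ (div_ne_zero b0 b2)))
    rw [← map_mul] at this
    convert this using 2
    ext <;> simp [eta] <;> field_simp
  have e0 := e.ne_zero
  have e3 := T.σ_ne_zero e0
  obtain ⟨w, hw⟩ := key hL hK hT k1 k2 e2
  have w1 : w.1.v1 = 0 := T.σ_eq_zero.1 (T.eq_zero_of_skew fun v => by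
    have h1 := k3 (rs T (e, (su T e)⁻¹) ⟨rv T (v / e) 0, rfl⟩)
    rw [hw, (cj w _).2.2.1] at h1
    simp only [rs_coe, tor_a, tor_v1, (k2 _).1, sub_eq_zero.1 (k3 _), rv_v1,
      mul_div_cancel₀ _ e0] at h1
    rw [T.inv]; linear_combination h1)
  have w2 : w.1.v2 = 0 := T.σ_eq_zero.1 (T.eq_zero_of_skew fun v => by
    have h1 := k4 (rs T (e, (su T e)⁻¹) ⟨rv T 0 (T.σ e * v), rfl⟩)
    rw [hw, (cj w _).2.2.2.2] at h1
    simp only [rs_coe, tor_d, tor_v2, (k2 _).2, sub_eq_zero.1 (k4 _), rv_v2,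
      Units.val_inv_eq_inv_val, coe_su, inv_mul_cancel_left₀ e3] at h1
    rw [T.inv]; linear_combination h1)
  have k5 : ∀ x, (δ x).1.m - x.1.m = 0 :=
    vanish (fun x y => (adds k2 x y).2.1) (fun x hx => by rw [fixV _ k2 x hx, sub_self]) e1
      (b := (su T e)⁻¹) (fun k => e1 (T.σ.injective (by simpa using k))) fun x => by
      simp only [hw, (cj w _).2.2.2.1, w1, w2, rs_coe, tor_m, Units.val_inv_eq_inv_val, coe_su,
        map_inv₀, T.inv, mul_inv_cancel₀ e0, map_zero]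
      ring
  have k6 : δ = 1 := MulEquiv.ext fun x => Subtype.ext (U.ext ((t0 _).trans (t0 _).symm) (k2 x).1
    (k2 x).2 (sub_eq_zero.1 (k3 x)) (sub_eq_zero.1 (k5 x)) (sub_eq_zero.1 (k4 x)))
  rw [k6, mul_one] at k1
  exact ⟨_, k1, fun x hx => ext_apply _ hx⟩

end Cfsg.Agent.H22.U5R
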