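import Mathlib
import Cfsg.Agent.H14.Clifford
import Cfsg.Agent.H23.Zeros
import Cfsg.Agent.H3.Fitting
import Cfsg.Agent.H91.RegVec
import Cfsg.Agent.H69.Frob
import Cfsg.Agent.H69.BQ2P
import Cfsg.Agent.H94.Lift

/-! Vanishing elements of solvable groups: if all vanishing `p`-singular elements have the same
order then `p ^ 2` does not divide `|G : O_p(G)|`. -/

set_option autoImplicit false

namespace Cfsg.Agent.H22.VanP

open Cfsg Subgroup
open scoped commutatorElement

universe u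

/-- `x` is a zero of some irreducible character. -/
def Van {G : Type*} [Group G] (x : G) : Prop := ∃ χ, IsIrrCharacter G χ ∧ χ x = 0

section Basic
variable {G : Type*} [Group G]

theorem Van.comp {H : Type*} [Group H] (f : G →* H) (hf : Function.Surjective f) {x : G}
    (h : Van (f x)) : Van x := by
  obtain ⟨χ, hχ, h0⟩ := h
  exact ⟨fun g => χ (f g), H11.isIrrCharacter_comp_of_surjective hχ f hf, h0⟩

theorem van_of_inertia [Finite G] (N : Subgroup G) [N.Normal] {θ : N → ℂ}
    (hθ : IsIrrCharacter N θ) {x : G} (hx : ∀ g : G, g * x * g⁻¹ ∉ H14.inertia N θ) : Van x := by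
  classical
  have := Fintype.ofFinite G
  have := Fintype.ofFinite N
  obtain ⟨χ, hχ, h1⟩ := H14.exists_irr_over N hθ
  obtain ⟨ψ, -, h2, -⟩ := H14.clifford_corr_exists N (H14.inertia N θ)
    (H14.le_inertia N (H11.isClassFunction_of_irr hθ)) hθ le_rfl hχ h1
  exact ⟨χ, hχ, h2 ▸ H14.indFun_eq_zero_of_not_conj _ _ _ hx⟩

/-- The action of `G` on the linear characters of a normal subgroup. -/
def dualAct (V : Subgroup G) [V.Normal] : G →* MulAut (V →* ℂˣ) where
  toFun g :=
    { toFun := fun l => l.comp (MulAut.conjNormal (H := V) g⁻¹).toMonoidHom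
      invFun := fun l => l.comp (MulAut.conjNormal (H := V) g).toMonoidHom
      left_inv := fun l => by ext v; simp
      right_inv := fun l => by ext v; simp
      map_mul' := fun a b => by ext v; simp }
  map_one' := by ext l v; simp
  map_mul' a b := by
    ext l v
    change (l (MulAut.conjNormal (H := V) (a * b)⁻¹ v) : ℂ) =
      l (MulAut.conjNormal (H := V) b⁻¹ (MulAut.conjNormal (H := V) a⁻¹ v))
    rw [mul_inv_rev, map_mul, MulAut.mul_apply]

theorem dualAct_apply (V : Subgroup G) [V.Normal] (g : G) (l : V →* ℂˣ) (v : V) :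
    dualAct V g l v = l (MulAut.conjNormal (H := V) g⁻¹ v) := rfl

theorem mem_centralizer_of_dualAct [Finite G] (V : Subgroup G) [V.Normal] [IsMulCommutative V]
    {g : G} (h : dualAct V g = 1) : g ∈ centralizer (V : Set G) := by
  letI : CommGroup V := { mul_comm := fun a b => mul_comm' a b }
  rw [mem_centralizer_iff]
  intro v hv
  have key : MulAut.conjNormal (H := V) g⁻¹ ⟨v, hv⟩ * (⟨v, hv⟩ : V)⁻¹ = 1 := by
    by_contra hne
    haveI : NeZero (Monoid.exponent V : ℂ) := ⟨by exact_mod_cast Monoid.exponent_ne_zero_of_finite⟩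
    obtain ⟨l, hl⟩ := CommGroup.exists_apply_ne_one_of_hasEnoughRootsOfUnity V ℂ hne
    apply hl
    rw [map_mul, ← dualAct_apply, h]
    simp
  have h2 := congrArg Subtype.val (mul_inv_eq_one.1 key)
  simp only [MulAut.conjNormal_apply, inv_inv] at h2
  calc v * g = g * (g⁻¹ * v * g) := by group
    _ = g * v := by rw [h2]

theorem dualAct_eq_one (V : Subgroup G) [V.Normal] {g : G} (h : g ∈ centralizer (V : Set G)) :
    dualAct V g = 1 := by
  ext l v
  rw [dualAct_apply]
  have : MulAut.conjNormal (H := V) g⁻¹ v = v := by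
    apply Subtype.ext
    simp only [MulAut.conjNormal_apply, inv_inv]
    rw [mul_assoc, mem_centralizer_iff.1 h v v.2]
    group
  rw [this]
  rfl

theorem van_of_dualAct [Finite G] (V : Subgroup G) [V.Normal] (l : V →* ℂˣ) {x : G}
    (hx : ∀ g : G, dualAct V (g * x * g⁻¹) l ≠ l) : Van x := by
  refine van_of_inertia V (H11.isIrrCharacter_monoidHom l) fun g hg => hx g ?_
  have h2 := (H14.inertia V _).inv_mem hg
  rw [H14.mem_inertia'] at h2
  ext v
  rw [dualAct_apply, ← h2 v]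
  rfl

/-- An abelian normal `p`-section acting faithfully on an abelian normal `p'`-subgroup consists of
vanishing elements. -/
theorem van_of_abelian [Finite G] {p : ℕ} (V M : Subgroup G) [V.Normal] [hM : M.Normal]
    [IsMulCommutative V] (hV : p.Coprime (Nat.card V)) (hc : ⁅M, M⁆ ≤ V)
    (hp : ∀ m ∈ M, ∃ k, m ^ p ^ k ∈ V) (hf : M ⊓ centralizer (V : Set G) ≤ V) {x : G}
    (hx : x ∈ M) (hxV : x ∉ V) : Van x := by
  letI : CommGroup V := { mul_comm := fun a b => mul_comm' a b }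
  haveI : NeZero (Monoid.exponent V : ℂ) := ⟨by exact_mod_cast Monoid.exponent_ne_zero_of_finite⟩
  have hcard := CommGroup.card_monoidHom_of_hasEnoughRootsOfUnity V ℂ
  haveI : Finite (V →* ℂˣ) := Nat.finite_of_card_ne_zero (by rw [hcard]; exact Nat.card_pos.ne')
  have hVc : ∀ v ∈ V, dualAct V v = 1 := fun v hv =>
    dualAct_eq_one V (le_centralizer V hv)
  have hA : IsMulCommutative (M.map (dualAct V)) := by
    refine ⟨⟨?_⟩⟩
    rintro ⟨_, a, ha, rfl⟩ ⟨_, b, hb, rfl⟩
    apply Subtype.ext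
    change dualAct V a * dualAct V b = dualAct V b * dualAct V a
    rw [← commutatorElement_eq_one_iff_mul_comm, ← map_commutatorElement]
    exact hVc _ (hc (commutator_mem_commutator ha hb))
  have hAp : IsPGroup p (M.map (dualAct V)) := by
    rintro ⟨_, a, ha, rfl⟩
    obtain ⟨k, hk⟩ := hp a ha
    exact ⟨k, Subtype.ext (by simpa using hVc _ hk)⟩
  have hcop : (Nat.card (M.map (dualAct V))).Coprime (Nat.card (V →* ℂˣ)) :=
    H3.coprime_card_of_isPGroup hAp (n := Nat.card (V →* ℂˣ)) (by rw [hcard]; exact hV)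
  haveI : IsMulCommutative (V →* ℂˣ) := ⟨⟨fun a b => by ext v; simp [mul_comm]⟩⟩
  obtain ⟨l, hl⟩ := H91.exists_regular_vector (V := V →* ℂˣ) (M.map (dualAct V)) hA hcop
  refine van_of_dualAct V l fun g hg => hxV ?_
  have h1 := hM.conj_mem x hx g
  have h2 := hf ⟨h1, mem_centralizer_of_dualAct V (hl _ ⟨_, h1, rfl⟩ hg)⟩
  simpa [mul_assoc] using (inferInstance : V.Normal).conj_mem _ h2 g⁻¹

/-- An element acting fixed-point-freely on a nontrivial normal subgroup vanishes. -/
theorem van_of_fpf [Finite G] (V : Subgroup G) [hN : V.Normal] (hV : V ≠ ⊥) {g : G}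
    (hg : ∀ v ∈ V, v * g = g * v → v = 1) : Van g := by
  classical
  have : ∃ χ, IsIrrCharacter G χ ∧ ¬ V ≤ H11.charKer χ := by
    by_contra h
    push Not at h
    apply hV
    rw [eq_bot_iff]
    intro v hv
    exact H11.eq_one_of_forall_mem_charKer fun χ hχ => h χ hχ hv
  obtain ⟨χ, hχ, h1⟩ := this
  refine ⟨χ, hχ, H23.apply_eq_zero_of_isConj_coset (fun n hn => ?_) hχ h1⟩
  let f : V → V := fun h => ⟨h * (g * h⁻¹ * g⁻¹), V.mul_mem h.2 (hN.conj_mem _ (V.inv_mem h.2) g)⟩
  have hf : Function.Injective f := by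
    intro a b hab
    have h3 : (a : G) * (g * (a : G)⁻¹ * g⁻¹) = b * (g * (b : G)⁻¹ * g⁻¹) :=
      congrArg Subtype.val hab
    have h4 := hg ((b : G)⁻¹ * a) (V.mul_mem (V.inv_mem b.2) a.2) (by
      calc (b : G)⁻¹ * a * g = (b : G)⁻¹ * ((a : G) * (g * (a : G)⁻¹ * g⁻¹)) * g * a := by group
        _ = g * ((b : G)⁻¹ * a) := by rw [h3]; group)
    exact Subtype.ext (inv_mul_eq_one.1 h4).symm
  obtain ⟨a, ha⟩ := (Finite.injective_iff_surjective.1 hf) ⟨n, hn⟩
  have h5 : (a : G) * (g * (a : G)⁻¹ * g⁻¹) = n := congrArg Subtype.val ha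
  exact isConj_iff.2 ⟨a, by rw [← h5]; group⟩

end Basic

/-- Pure group theory: if `C(z) = R` for a normal `p`-subgroup `R` and `⟨z⟩` is normal of order `p`
and `p ^ 2` divides the order, there is a bigger abelian normal subgroup inside `R`. -/
theorem exists_abelian_normal {H : Type*} [Group H] [Finite H] {p : ℕ} [hp : Fact p.Prime]
    (R Z : Subgroup H) [R.Normal] [Z.Normal] (hR : IsPGroup p R) (hZ : Nat.card Z = p)
    (hZR : Z ≤ R) (hC : centralizer (Z : Set H) = R) (h2 : p ^ 2 ∣ Nat.card H) :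
    ∃ A : Subgroup H, A.Normal ∧ A ≤ R ∧ IsMulCommutative A ∧ Nat.card A = p ^ 2 := by
  haveI : IsCyclic Z := isCyclic_of_prime_card hZ
  let φ : H →* MulAut Z := MulAut.conjNormal
  have hker : φ.ker = R := by
    rw [← hC]
    ext g
    rw [MonoidHom.mem_ker, mem_centralizer_iff]
    constructor
    · intro h z hz
      have := congrArg Subtype.val (DFunLike.congr_fun h ⟨z, hz⟩)
      simp only [φ, MulAut.conjNormal_apply, MulAut.one_apply] at this
      rw [← mul_inv_eq_iff_eq_mul.1 this]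
    · intro h
      ext z
      simp only [φ, MulAut.conjNormal_apply, MulAut.one_apply]
      rw [← h z z.2]
      group
  have hcardA : Nat.card (MulAut Z) = p - 1 := by
    rw [IsCyclic.card_mulAut, hZ, Nat.totient_prime hp.out]
  haveI : IsCyclic (MulAut Z) := by
    have e := IsCyclic.mulAutMulEquiv Z
    rw [hZ] at e
    exact isCyclic_of_surjective e.symm e.symm.surjective
  have hcop : p.Coprime (p - 1) := by
    have := hp.out.pos
    exact (Nat.coprime_self_sub_right this).2 (by simp)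
  have hidx : R.index ∣ p - 1 := by
    rw [← hker, index_ker, ← hcardA]
    exact card_subgroup_dvd_card _
  have hR2 : p ^ 2 ∣ Nat.card R := by
    rw [← R.card_mul_index] at h2
    exact (Nat.Coprime.pow_left 2 (hcop.coprime_dvd_right hidx)).dvd_of_dvd_mul_right h2
  obtain ⟨⟨_, h₀, rfl⟩, hgen⟩ := IsCyclic.exists_generator (α := φ.range)
  obtain ⟨y, -, hy, k, hk⟩ := H94.exists_lift_orderOf_dvd_pow φ h₀
  have hy1 : y ^ (p - 1) = 1 := by
    have h3 : y ^ (p - 1) ∈ R := by
      rw [← hker, MonoidHom.mem_ker, map_pow, ← hcardA, pow_card_eq_one']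
    obtain ⟨j, hj⟩ := hR ⟨_, h3⟩
    have h4 : (y ^ (p - 1)) ^ p ^ j = 1 := congrArg Subtype.val hj
    have h5 : orderOf (y ^ (p - 1)) ∣ (p - 1) ^ k :=
      (orderOf_pow_dvd _).trans (hk.trans (pow_dvd_pow_of_dvd (hcardA ▸ orderOf_dvd_natCard _) k))
    rw [← orderOf_eq_one_iff]
    exact Nat.eq_one_of_dvd_coprimes (Nat.Coprime.pow j k hcop) (orderOf_dvd_of_pow_eq_one h4) h5
  let π := QuotientGroup.mk' Z
  have hπ : Function.Surjective π := QuotientGroup.mk'_surjective Z
  let R' := R.map π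
  haveI : R'.Normal := Normal.map inferInstance π hπ
  have hR' : IsPGroup p R' := hR.map π
  have hne : R' ≠ ⊥ := by
    intro h
    have h3 : R ≤ Z := by
      rw [Subgroup.map_eq_bot_iff, QuotientGroup.ker_mk'] at h
      exact h
    have h4 := Nat.le_of_dvd Nat.card_pos (hR2.trans (card_dvd_of_le h3))
    rw [hZ] at h4
    have := hp.out.two_le
    nlinarith
  let X := R' ⊓ centralizer (R' : Set (H ⧸ Z))
  have hX : X ≠ ⊥ := H3.inf_centralizer_ne_bot_of_isNilpotent hR'.isNilpotent le_rfl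
    le_normalizer hne
  have hXc : IsMulCommutative X := ⟨⟨fun a b => Subtype.ext (b.2.2 _ a.2.1)⟩⟩
  obtain ⟨x, hx, hox, hyx⟩ := H69.exists_eigen hXc hp.out (hR'.to_le inf_le_left) hX (y := π y)
    (by rw [normalizer_eq_top]; trivial) (by rw [← map_pow, hy1, map_one])
  obtain ⟨e, he, rfl⟩ := hx.1
  have hnorm : (zpowers (π e)).Normal := by
    rw [← normalizer_eq_top_iff, eq_top_iff]
    rintro g -
    obtain ⟨g, rfl⟩ := hπ g
    obtain ⟨n, hn⟩ := hgen ⟨φ g, g, rfl⟩
    have h3 : φ (y ^ n) = φ g := by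
      rw [map_zpow, hy]
      exact congrArg Subtype.val hn
    have h4 : g * (y ^ n)⁻¹ ∈ R := by
      rw [← hker, MonoidHom.mem_ker, map_mul, map_inv, h3, mul_inv_cancel]
    have h5 : π y ∈ normalizer (zpowers (π e) : Set (H ⧸ Z)) := by
      apply mem_normalizer_fintype
      rintro _ ⟨m, rfl⟩
      simp only [SetLike.mem_coe, ← conj_zpow]
      exact zpow_mem hyx m
    have h6 : π (g * (y ^ n)⁻¹) ∈ normalizer (zpowers (π e) : Set (H ⧸ Z)) := by
      apply centralizer_le_normalizer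
      rintro _ ⟨m, rfl⟩
      exact ((show Commute (π (g * (y ^ n)⁻¹)) (π e) from hx.2 _ ⟨_, h4, rfl⟩).zpow_right m).symm
    have h7 := mul_mem h6 (zpow_mem h5 n)
    rw [← map_zpow, ← map_mul] at h7
    simpa using h7
  have hA : (zpowers (π e)).comap π = Z ⊔ zpowers e := by
    rw [← MonoidHom.map_zpowers, comap_map_eq, QuotientGroup.ker_mk', sup_comm]
  refine ⟨(zpowers (π e)).comap π, hnorm.comap π, ?_, ?_, ?_⟩
  · rw [hA]
    exact sup_le hZR (zpowers_le.2 he)
  · rw [hA]
    exact H3.isMulCommutative_sup_zpowers (hC ▸ he)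
  · rw [H3.card_comap_mk', hZ, Nat.card_zpowers, hox, sq]

/-- The hypothesis that passes to quotients. -/
structure Hyp (p : ℕ) (G : Type*) [Group G] : Prop where
  pel : ∀ x y : G, Van x → Van y → x ≠ 1 → (∃ k, x ^ p ^ k = 1) → p ∣ orderOf y →
    ∃ k, y ^ p ^ k = 1
  pow : ∀ x : G, Van x → Van (x ^ p) → ¬ p ∣ orderOf (x ^ p)

theorem Hyp.map {p : ℕ} {G H : Type*} [Group G] [Finite G] [Group H] (h : Hyp p G) (f : G →* H)
    (hf : Function.Surjective f) : Hyp p H where
  pel x y hx hy h1 hk hp := by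
    obtain ⟨x, rfl⟩ := hf x
    obtain ⟨y, rfl⟩ := hf y
    obtain ⟨x', -, hx', j, hj⟩ := H94.exists_lift_orderOf_dvd_pow f x
    obtain ⟨k, hk⟩ := hk
    obtain ⟨m, hm⟩ := h.pel x' y (Van.comp f hf (hx' ▸ hx)) (hy.comp f hf)
      (fun e => h1 (by rw [← hx', e, map_one]))
      ⟨k * j, orderOf_dvd_iff_pow_eq_one.1 (hj.trans (by
        rw [pow_mul]; exact pow_dvd_pow_of_dvd (orderOf_dvd_of_pow_eq_one hk) j))⟩
      (hp.trans (orderOf_map_dvd f y))
    exact ⟨m, by rw [← map_pow, hm, map_one]⟩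
  pow x hx hx' hp := by
    obtain ⟨x, rfl⟩ := hf x
    rw [← map_pow] at hx' hp
    exact h.pow x (hx.comp f hf) (hx'.comp f hf) (hp.trans (orderOf_map_dvd f _))

theorem hyp_of_eq {p : ℕ} [hp : Fact p.Prime] {G : Type*} [Group G] [Finite G]
    (h : ∀ x y : G, Van x → Van y → p ∣ orderOf x → p ∣ orderOf y → orderOf x = orderOf y) :
    Hyp p G where
  pel x y hx hy h1 hk hy' := by
    obtain ⟨k, hk⟩ := hk
    have h2 := orderOf_dvd_of_pow_eq_one hk
    have h3 : p ∣ orderOf x := by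
      obtain ⟨j, -, hj⟩ := (Nat.dvd_prime_pow hp.out).1 h2
      rcases j with _ | j
      · exact absurd (orderOf_eq_one_iff.1 hj) h1
      · exact hj ▸ dvd_pow_self p j.succ_ne_zero
    exact ⟨k, orderOf_dvd_iff_pow_eq_one.1 (h x y hx hy h3 hy' ▸ h2)⟩
  pow x hx hx' hd := by
    have h1 : p ∣ orderOf x := hd.trans (orderOf_pow_dvd p)
    have h2 := h x _ hx hx' h1 hd
    rw [orderOf_pow_of_dvd hp.out.ne_zero h1] at h2
    have := Nat.div_lt_self (orderOf_pos x) hp.out.one_lt
    omega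

theorem dvd_orderOf_of_ne_one {p : ℕ} [hp : Fact p.Prime] {G : Type*} [Group G] {x : G}
    (h1 : x ≠ 1) {k : ℕ} (hk : x ^ p ^ k = 1) : p ∣ orderOf x := by
  obtain ⟨j, -, hj⟩ := (Nat.dvd_prime_pow hp.out).1 (orderOf_dvd_of_pow_eq_one hk)
  rcases j with _ | j
  · exact absurd (orderOf_eq_one_iff.1 hj) h1
  · exact hj ▸ dvd_pow_self p j.succ_ne_zero

theorem step {p : ℕ} [hp : Fact p.Prime] {G : Type*} [Group G] [Finite G] (h : Hyp p G)
    (h0 : pCore p G = ⊥) (V : Subgroup G) [hVn : V.Normal] [IsMulCommutative V] (hV : V ≠ ⊥)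
    (hVp : p.Coprime (Nat.card V)) (hR : pCore p (G ⧸ V) ≠ ⊥) :
    ¬ p ^ 2 ∣ Nat.card (G ⧸ V) := by
  intro h2
  let π := QuotientGroup.mk' V
  have hπ : Function.Surjective π := QuotientGroup.mk'_surjective V
  have hπ1 : ∀ x, π x = 1 ↔ x ∈ V := fun x => QuotientGroup.eq_one_iff x
  set R := pCore p (G ⧸ V) with hRdef
  have hRp : IsPGroup p R := H3.pCore_isPGroup p _
  obtain ⟨P⟩ : Nonempty (Sylow p G) := inferInstance
  have hPV : ∀ x ∈ (P : Subgroup G), π x = 1 → x = 1 := fun x hx h1 => by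
    have := H3.inf_eq_bot_of_isPGroup_of_coprime P.isPGroup' hVp.symm
    exact (this.le ⟨hx, (hπ1 x).1 h1⟩ : x ∈ (⊥ : Subgroup G))
  have hRP : R ≤ (P : Subgroup G).map π := H3.pCore_le_sylow (P.mapSurjective hπ)
  -- faithfulness
  have hfaith : R.comap π ⊓ centralizer (V : Set G) ≤ V := by
    set C := R.comap π ⊓ centralizer (V : Set G) with hCdef
    haveI hCn : C.Normal := inferInstance
    have hQ : (P : Subgroup G) ⊓ C = ⊥ := by
      rw [eq_bot_iff, ← h0]
      have hcov : ∀ c ∈ C, ∃ x ∈ (P : Subgroup G) ⊓ C, ∃ v ∈ V, c = x * v := by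
        intro c hc
        obtain ⟨x, hx, e⟩ := hRP hc.1
        have hv : x⁻¹ * c ∈ V := by rw [← hπ1, map_mul, map_inv, e, inv_mul_cancel]
        refine ⟨x, ⟨hx, ?_⟩, x⁻¹ * c, hv, by group⟩
        have hv' : x⁻¹ * c ∈ C := ⟨by
          change π _ ∈ R
          rw [(hπ1 _).2 hv]
          exact R.one_mem, le_centralizer V hv⟩
        simpa using C.mul_mem hc (C.inv_mem hv')
      haveI : ((P : Subgroup G) ⊓ C).Normal := ⟨fun x hx g => by
        have hx' := hCn.conj_mem x hx.2 g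
        obtain ⟨y, hy, v, hv, e⟩ := hcov _ hx'
        obtain ⟨i, hi⟩ := P.isPGroup' ⟨x, hx.1⟩
        obtain ⟨j, hj⟩ := P.isPGroup' ⟨y, hy.1⟩
        have hi' : x ^ p ^ i = 1 := congrArg Subtype.val hi
        have hj' : y ^ p ^ j = 1 := congrArg Subtype.val hj
        have hc : Commute y v := (hy.2.2 v hv).symm
        have h3 : v ^ p ^ (i + j) = 1 := by
          have : (y * v) ^ p ^ (i + j) = 1 := by
            rw [← e, conj_pow, pow_add, pow_mul, hi']
            simp
          rwa [hc.mul_pow, add_comm, pow_add, pow_mul, hj', one_pow, one_mul, ← pow_add,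
            add_comm] at this
        have h4 : v = 1 := by
          rw [← orderOf_eq_one_iff]
          exact Nat.eq_one_of_dvd_coprimes (Nat.Coprime.pow_left (i + j) hVp)
            (orderOf_dvd_of_pow_eq_one h3) (V.orderOf_dvd_natCard hv)
        rw [e, h4, mul_one]
        exact hy⟩
      exact H3.le_pCore (P.isPGroup'.to_le inf_le_left)
    intro c hc
    obtain ⟨x, hx, e⟩ := hRP hc.1
    have hv : x⁻¹ * c ∈ V := by rw [← hπ1, map_mul, map_inv, e, inv_mul_cancel]
    have hv' : x⁻¹ * c ∈ C := ⟨by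
      change π _ ∈ R
      rw [(hπ1 _).2 hv]
      exact R.one_mem, le_centralizer V hv⟩
    have hxC : x ∈ C := by simpa using C.mul_mem hc (C.inv_mem hv')
    have : x = 1 := (hQ.le ⟨hx, hxC⟩ : x ∈ (⊥ : Subgroup G))
    simpa [this] using hv
  -- abelian normal subgroups give vanishing elements
  have F1 : ∀ A : Subgroup (G ⧸ V), A.Normal → A ≤ R → IsMulCommutative A → ∀ x : G, π x ∈ A →
      π x ≠ 1 → Van x := by
    intro A hA hAR hAc x hx hx1
    haveI : (A.comap π).Normal := hA.comap π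
    refine van_of_abelian V (A.comap π) hVp ?_ ?_ ?_ hx (fun e => hx1 ((hπ1 x).2 e))
    · rw [commutator_le]
      intro a ha b hb
      rw [← hπ1, map_commutatorElement, commutatorElement_eq_one_iff_mul_comm]
      exact setLike_mul_comm (s := A) ha hb
    · intro m hm
      obtain ⟨k, hk⟩ := hRp ⟨π m, hAR hm⟩
      exact ⟨k, (hπ1 _).1 (by rw [map_pow]; exact congrArg Subtype.val hk)⟩
    · exact le_trans (inf_le_inf_right _ (comap_mono hAR)) hfaith
  let Z := R ⊓ centralizer (R : Set (G ⧸ V))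
  have hZ : Z ≠ ⊥ := H3.inf_centralizer_ne_bot_of_isNilpotent hRp.isNilpotent le_rfl
    le_normalizer hR
  have hZc : IsMulCommutative Z := ⟨⟨fun a b => Subtype.ext (b.2.2 _ a.2.1)⟩⟩
  haveI hZn : Z.Normal := inferInstance
  have hall : ∀ y : G, Van y → p ∣ orderOf y → ∃ k, y ^ p ^ k = 1 := by
    obtain ⟨⟨z, hz⟩, hz1⟩ := ne_bot_iff_exists_ne_one.1 hZ
    obtain ⟨x, hx, rfl⟩ := hRP hz.1
    have hz1' : π x ≠ 1 := fun e => hz1 (Subtype.ext e)
    obtain ⟨i, hi⟩ := P.isPGroup' ⟨x, hx⟩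
    exact fun y hy hy' => h.pel x y (F1 Z hZn inf_le_left hZc x hz hz1') hy
      (fun e => hz1' (by rw [e, map_one])) ⟨i, congrArg Subtype.val hi⟩ hy'
  have hsing : ∀ x : G, π x ∈ R → π x ≠ 1 → p ∣ orderOf x := fun x hx hx1 => by
    obtain ⟨k, hk⟩ := hRp ⟨π x, hx⟩
    exact (dvd_orderOf_of_ne_one hx1 (congrArg Subtype.val hk)).trans (orderOf_map_dvd π x)
  have F2 : ∀ A : Subgroup (G ⧸ V), A.Normal → A ≤ R → IsMulCommutative A → ∀ x : G, π x ∈ A →
      π x ≠ 1 → ∀ v ∈ V, v * x = x * v → v = 1 := by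
    intro A hA hAR hAc x hx hx1 v hv hc
    have e : π (v * x) = π x := by rw [map_mul, (hπ1 v).2 hv, one_mul]
    obtain ⟨i, hi⟩ := hall x (F1 A hA hAR hAc x hx hx1) (hsing x (hAR hx) hx1)
    obtain ⟨j, hj⟩ := hall (v * x) (F1 A hA hAR hAc _ (e ▸ hx) (e ▸ hx1))
      (hsing _ (e ▸ hAR hx) (e ▸ hx1))
    have h3 : v ^ p ^ (i + j) = 1 := by
      have : (v * x) ^ p ^ (i + j) = 1 := by rw [add_comm, pow_add, pow_mul, hj, one_pow]
      rwa [Commute.mul_pow hc, pow_add p i j, pow_mul x, hi, one_pow, mul_one, ← pow_add] at this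
    rw [← orderOf_eq_one_iff]
    exact Nat.eq_one_of_dvd_coprimes (Nat.Coprime.pow_left (i + j) hVp)
      (orderOf_dvd_of_pow_eq_one h3) (V.orderOf_dvd_natCard hv)
  have F3 : ∀ A : Subgroup (G ⧸ V), A.Normal → A ≤ R → IsMulCommutative A → Nat.card A ∣ p := by
    intro A hA hAR hAc
    let Q := (P : Subgroup G) ⊓ A.comap π
    have hQA : Q.map π = A := by
      apply le_antisymm
      · rintro _ ⟨x, hx, rfl⟩
        exact hx.2
      · intro a ha
        obtain ⟨x, hx, rfl⟩ := hRP (hAR ha)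
        exact ⟨x, ⟨hx, ha⟩, rfl⟩
    have hQc : IsMulCommutative Q := ⟨⟨fun a b => Subtype.ext (by
      change (a : G) * b = b * a
      rw [← commutatorElement_eq_one_iff_mul_comm]
      apply hPV
      · rw [commutatorElement_def]
        exact mul_mem (mul_mem (mul_mem a.2.1 b.2.1) (inv_mem a.2.1)) (inv_mem b.2.1)
      · rw [map_commutatorElement, commutatorElement_eq_one_iff_mul_comm]
        exact setLike_mul_comm (s := A) a.2.2 b.2.2)⟩⟩
    have hcyc : IsCyclic Q := H69.abelian_regular_cyclic hQc hV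
      (by rw [normalizer_eq_top]; exact le_top) (fun x hx hx1 => by
        rw [eq_bot_iff]
        intro v hv
        exact F2 A hA hAR hAc x hx.2 (fun e => hx1 (hPV x hx.1 e)) v hv.1
          (hv.2 x (Set.mem_singleton x)).symm)
    haveI : IsCyclic A := hQA ▸ isCyclic_of_surjective _ (π.subgroupMap_surjective Q)
    obtain ⟨⟨a, ha⟩, hgen⟩ := IsCyclic.exists_generator (α := A)
    rw [← orderOf_eq_card_of_forall_mem_zpowers hgen, orderOf_dvd_iff_pow_eq_one]
    apply Subtype.ext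
    obtain ⟨x, rfl⟩ := hπ a
    change π x ^ p = 1
    by_contra hne
    have hne' : π x ≠ 1 := fun e => hne (by rw [e, one_pow])
    rw [← map_pow] at hne
    have hm : π (x ^ p) ∈ A := by rw [map_pow]; exact A.pow_mem ha p
    exact h.pow x (F1 A hA hAR hAc x ha hne') (F1 A hA hAR hAc _ hm hne) (hsing _ (hAR hm) hne)
  have hZp : Nat.card Z = p := by
    rcases (Nat.dvd_prime hp.out).1 (F3 Z hZn inf_le_left hZc) with h1 | h1
    · exact absurd (card_eq_one.1 h1) hZ
    · exact h1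
  have hC : centralizer (Z : Set (G ⧸ V)) = R := by
    apply le_antisymm
    · refine H3.le_pCore ?_
      rintro ⟨c, hc⟩
      obtain ⟨j, m, hm, e⟩ := Nat.exists_eq_pow_mul_and_not_dvd (orderOf_pos c).ne' p hp.out.ne_one
      obtain ⟨⟨z, hz⟩, hz1⟩ := ne_bot_iff_exists_ne_one.1 hZ
      have hz1' : z ≠ 1 := fun e => hz1 (Subtype.ext e)
      have hzp : z ^ p = 1 := by
        have := pow_card_eq_one' (x := (⟨z, hz⟩ : Z))
        rw [hZp] at this
        exact congrArg Subtype.val this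
      have hoz : orderOf z = p := orderOf_eq_prime hzp hz1'
      have hcz : Commute (c ^ p ^ j) z := (show Commute c z from (hc z hz).symm).pow_left _
      obtain ⟨y, hy⟩ := hπ (c ^ p ^ j * z)
      have hym : π (y ^ m) = z ^ m := by
        rw [map_pow, hy, hcz.mul_pow, ← pow_mul, ← e, pow_orderOf_eq_one, one_mul]
      have hzm : z ^ m ≠ 1 := fun e' => hm (hoz ▸ orderOf_dvd_of_pow_eq_one e')
      have hvan : Van y := van_of_fpf V hV fun v hv hc' =>
        F2 Z hZn inf_le_left hZc (y ^ m) (hym ▸ Z.pow_mem hz m) (hym ▸ hzm) v hv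
          ((show Commute v y from hc').pow_right m)
      obtain ⟨k, hk⟩ := hall y hvan ((hsing _ (hym ▸ (Z.pow_mem hz m).1) (hym ▸ hzm)).trans
        (orderOf_pow_dvd m))
      refine ⟨j + (k + 1), Subtype.ext ?_⟩
      have h3 : (c ^ p ^ j * z) ^ p ^ (k + 1) = 1 := by
        rw [← hy, ← map_pow, pow_succ, pow_mul, hk, one_pow, map_one]
      rw [hcz.mul_pow, pow_succ' p k, pow_mul z, hzp, one_pow, mul_one, ← pow_succ',
        ← pow_mul, ← pow_add] at h3
      exact h3
    · intro r hr z hz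
      exact (hz.2 r hr).symm
  obtain ⟨A, hA, hAR, hAc, hcard⟩ := exists_abelian_normal R Z hRp hZp inf_le_left hC h2
  have h4 := Nat.le_of_dvd hp.out.pos (F3 A hA hAR hAc)
  have := hp.out.two_le
  rw [hcard] at h4
  nlinarith

theorem main_aux {p : ℕ} [hp : Fact p.Prime] (n : ℕ) : ∀ (G : Type u) [Group G] [Finite G]
    [Group.IsSolvable G], Nat.card G = n → Hyp p G → ¬ p ^ 2 ∣ (pCore p G).index := by
  induction n using Nat.strong_induction_on with
  | _ n ih =>
  intro G _ _ _ hn h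
  have hlt : ∀ (N : Subgroup G) [N.Normal], N ≠ ⊥ → Nat.card (G ⧸ N) < n := fun N _ hN => by
    rw [← hn, N.card_eq_card_quotient_mul_card_subgroup]
    exact lt_mul_of_one_lt_right Nat.card_pos (N.one_lt_card_iff_ne_bot.2 hN)
  by_cases h0 : pCore p G = ⊥
  · rw [h0, index_bot]
    intro h2
    have hnt : (⊤ : Subgroup G) ≠ ⊥ := by
      intro e
      have : Nat.card G = 1 := by rw [← card_top, e, card_bot]
      rw [this, Nat.dvd_one] at h2
      exact hp.out.ne_one (Nat.pow_eq_one.1 h2 |>.resolve_right two_ne_zero)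
    obtain ⟨V, hVn, hV, -, hmin⟩ := H3.exists_minimal_normal_le ⊤ hnt
    obtain ⟨hVc, q, hq, hVq⟩ := H3.minimal_normal_elementary V inferInstance hV hmin
    have hpq : p ≠ q := by
      rintro rfl
      exact hV (eq_bot_iff.2 (h0 ▸ H3.le_pCore (H3.isPGroup_of_pow_eq_one hVq)))
    have hVp : p.Coprime (Nat.card V) :=
      (H3.coprime_card_of_isPGroup (H3.isPGroup_of_pow_eq_one hVq)
        ((Nat.coprime_primes hq hp.out).2 hpq.symm)).symm
    have h3 : p ^ 2 ∣ Nat.card (G ⧸ V) := by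
      rw [V.card_eq_card_quotient_mul_card_subgroup] at h2
      exact (Nat.Coprime.pow_left 2 hVp).dvd_of_dvd_mul_right h2
    refine step h h0 V hV hVp (fun e => ?_) h3
    have := ih _ (hlt V hV) (G ⧸ V) rfl (h.map _ (QuotientGroup.mk'_surjective V))
    rw [e, index_bot] at this
    exact this h3
  · have := ih _ (hlt _ h0) (G ⧸ pCore p G) rfl (h.map _ (QuotientGroup.mk'_surjective _))
    rwa [H3.pCore_quotient_pCore, index_bot] at this

theorem relIndex_dvd {p : ℕ} [hp : Fact p.Prime] {G : Type*} [Group G] [Finite G]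
    [Group.IsSolvable G]
    (h : ∀ x y : G, Van x → Van y → p ∣ orderOf x → p ∣ orderOf y → orderOf x = orderOf y)
    (P : Sylow p G) : (pCore p G).relIndex P ∣ p := by
  have h1 := main_aux (p := p) _ G rfl (hyp_of_eq h)
  obtain ⟨k, hk⟩ := P.isPGroup'.index ((pCore p G).subgroupOf P)
  change (pCore p G).relIndex P = _ at hk
  have h2 := relIndex_dvd_index_of_le (H3.pCore_le_sylow P)
  rw [hk] at h2 ⊢
  have h3 : k ≤ 1 := by
    by_contra h3
    exact h1 ((pow_dvd_pow p (by omega)).trans h2)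
  simpa using pow_dvd_pow p h3

end Cfsg.Agent.H22.VanP
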