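import Cfsg.Agent.H56.ZCBk

/-! Primitive groups with a doubly transitive subconstituent: big blocks. -/

set_option autoImplicit false

namespace Cfsg.Agent.H22.ZcC

open Subgroup Cfsg.Agent.H56.FS Cfsg.Agent.H56.ZC
open scoped commutatorElement

universe u

theorem c2 : C2Stmt.{u} := by
  intro G _ _ p D h ce st d hd big Y hY hn a ha a1 hc
  have hf := gz_cj h.inv a hd
  have h1 := h.toMc.dd_ne (by rw [h.toMc.gz_sq hd]; exact one_mem _) hY hn ha a1
  have bf := (big_cj h.inv a).2 big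
  have k : ∀ e ∈ Ez D (a * d * a⁻¹), a⁻¹ * e * a ∈ Ez D d := fun e he => Ez_cj' h.inv a he
  generalize a * d * a⁻¹ = f at hf h1 bf hc k
  have nd := norm_of_cz h.inv hc
  obtain ⟨A, hA, hAf⟩ := exists_pt hf
  obtain ⟨u, hu, -, h2, h3, h4, -⟩ := h.toMc.dd (by rw [h.toMc.gz_sq hd]; exact one_mem _) hA
    (h.no_fix hf hd hc h1 hA hAf)
  have uR : u ∈ RR D (Ce f) := RR_le_RR ((LL_le _).trans
    ((sup_le (le_LL hA hAf) (cj_le_of_norm nd (le_LL hA hAf))).trans (LL_le _))) hu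
  have uf : Commute u f := mem_Ce.1 (LL_le _ (RR_le _ uR))
  rw [h.toMc.gz_sq hd] at h4
  by_cases hz : u * u ∈ center G
  · obtain ⟨e, he, z, hz', e1⟩ := st f hf bf A hA hAf (u⁻¹ * d)
      (by rw [eq_inv_of_mul_eq_one_right h4.symm]; exact inv_mem hz)
      (le_Ce_iff.2 fun x hx => h2 x (mem_sup_left hx))
      (mul_mem (inv_mem (le_normalizer (RR_le _ uR))) nd)
    refine h1 (commutatorElement_eq_one_iff_commute.2 ?_)
    rw [inv_mul_eq_iff_eq_mul.1 e1]
    exact uf.mul_left (Commute.mul_left (Ez_comm he (mem_Bk hf)).symm (mem_center_iff.1 hz' f).symm)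
  · have he := h.sq _ (h.toMc.sv_Ce hf.1) u uR
    have nu : u ∈ normalizer (Bk D d : Set G) := norm_of_commute h.inv (by
      simpa using (Commute.refl u).mul_right (h3 u hu))
    have hε := k _ he
    have ε1 : a⁻¹ * (u * u) * a ∉ center G := fun e => 
      hz ((conj_mem_center (g := a⁻¹)).1 (by rwa [inv_inv]))
    have h5 := ce d hd u ⟨2, by
      rw [show 2 ^ 2 = 2 + 2 from rfl, pow_add, sq]; exact h.toMc.Ez_sq hf he⟩ nu _ hε
    have h6 := h.toMc.Ez_sq hd (comm_mem_ZZ nu hε)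
    refine h.toMc.dd_ne (by rw [h.toMc.Ez_sq hd hε]; exact one_mem _) hY
      (fun e => hn ((h.toMc.le_Ce_of_E hd hε ε1 hY).1 e)) ha a1 ?_
    rw [show a * (a⁻¹ * (u * u) * a) * a⁻¹ = u * u by group, ← inv_eq_one, commutatorElement_inv]
    generalize a⁻¹ * (u * u) * a = ε at h5 h6
    calc _ = u * ⁅u, ε⁆ * u⁻¹ * ⁅u, ε⁆ := by simp only [commutatorElement_def]; group
      _ = 1 := by rw [mem_center_iff.1 h5 u, mul_inv_cancel_right, h6]

end Cfsg.Agent.H22.ZcC
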